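import Cfsg.Agent.Classical.SymplecticBlocks
import Mathlib.LinearAlgebra.Projectivization.Action
import Mathlib.GroupTheory.GroupAction.Iwasawa
import Mathlib.GroupTheory.Commutator.Basic
import Mathlib.GroupTheory.Abelianization.Defs

/-!
Perfectness of the symplectic group, primitivity on points, simplicity of PSp.
-/

set_option autoImplicit false
set_option linter.style.haveILetI false

namespace CfsgLib.Symp

open Matrix
open scoped commutatorElement LinearAlgebra.Projectivization

variable {l F : Type*} [Fintype l] [DecidableEq l] [Field F]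

/-- Siegel unipotent element. -/
def uni (S : Matrix l l F) (hS : Sᵀ = S) : Matrix.symplecticGroup l F :=
  ⟨Matrix.fromBlocks 1 S 0 1, by
    rw [SymplecticGroup.fromBlocks_mem_iff]
    simp [hS]⟩

/-- Levi element. -/
def levi (A B : Matrix l l F) (h : Aᵀ * B = 1) : Matrix.symplecticGroup l F :=
  ⟨Matrix.fromBlocks A 0 0 B, by
    rw [SymplecticGroup.fromBlocks_mem_iff]
    simp [h]⟩

theorem tv_single_eq_uni (i : l) (c : F) :
    tv (Pi.single (Sum.inl i) (1 : F)) c = uni (Matrix.single i i c) (by simp) := by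
  refine Subtype.ext ?_
  change tvMat _ c = Matrix.fromBlocks 1 (Matrix.single i i c) 0 1
  ext (a | a) (b | b) <;>
    simp [tvMat, Matrix.vecMulVec, Matrix.J, Pi.single_apply, Matrix.one_apply,
      Matrix.single_apply] <;>
    grind

/-- The set of symmetric matrices whose unipotent element is a product of commutators. -/
def InT (S : Matrix l l F) : Prop :=
  ∃ hS : Sᵀ = S, uni S hS ∈ commutator (Matrix.symplecticGroup l F)

theorem uni_mul {S S' : Matrix l l F} (hS : Sᵀ = S) (hS' : S'ᵀ = S') :
    uni S hS * uni S' hS' = uni (S' + S) (by simp [hS, hS']) :=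
  Subtype.ext (by simp [uni, Matrix.fromBlocks_multiply])

theorem InT.sub {S S' : Matrix l l F} (h : InT S) (h' : InT S') : InT (S - S') := by
  obtain ⟨hS, h⟩ := h
  obtain ⟨hS', h'⟩ := h'
  have hn : (-S')ᵀ = -S' := by simp [hS']
  have hinv : (uni S' hS')⁻¹ = uni (-S') hn := by
    rw [inv_eq_iff_mul_eq_one, uni_mul]
    exact Subtype.ext (by simp [uni, Matrix.fromBlocks_one])
  refine ⟨by simp [hS, hS'], ?_⟩
  have := mul_mem h (inv_mem h')
  rw [hinv, uni_mul] at this
  convert this using 2
  abel

theorem InT_conj (A B : Matrix l l F) (h : Aᵀ * B = 1) (S : Matrix l l F) (hS : Sᵀ = S) :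
    InT (A * S * Aᵀ - S) := by
  have hS' : (A * S * Aᵀ)ᵀ = A * S * Aᵀ := by simp [Matrix.mul_assoc, hS]
  refine ⟨by rw [Matrix.transpose_sub, hS', hS], ?_⟩
  have hn : (-S)ᵀ = -S := by simp [hS]
  have hinv : (uni S hS)⁻¹ = uni (-S) hn := by
    rw [inv_eq_iff_mul_eq_one, uni_mul]
    exact Subtype.ext (by simp [uni, Matrix.fromBlocks_one])
  have key : levi A B h * uni S hS = uni (A * S * Aᵀ) hS' * levi A B h :=
    Subtype.ext (by simp [uni, levi, Matrix.fromBlocks_multiply, Matrix.mul_assoc, h])
  have : ⁅levi A B h, uni S hS⁆ = uni (A * S * Aᵀ - S) (by rw [Matrix.transpose_sub, hS', hS]) := by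
    rw [commutatorElement_def, key, mul_inv_cancel_right, hinv, uni_mul]
    exact Subtype.ext (by simp [uni, sub_eq_neg_add])
  rw [← this]
  exact Subgroup.commutator_mem_commutator (Subgroup.mem_top _) (Subgroup.mem_top _)

theorem transvec_transpose_mul {i j : l} (hij : i ≠ j) (s : F) :
    (1 + Matrix.single i j s)ᵀ * (1 - Matrix.single j i s) = 1 := by
  simp [mul_sub, add_mul, Matrix.single_mul_single_of_ne _ _ _ _ hij]

theorem InT_offdiag_of_third {i j k : l} (hij : i ≠ j) (hjk : j ≠ k) (t : F) :
    InT (Matrix.single i k t + Matrix.single k i t) := by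
  have h := InT_conj _ _ (transvec_transpose_mul hij 1)
      (Matrix.single j k t + Matrix.single k j t) (by simp [add_comm])
  convert h using 1
  simp only [Matrix.transpose_add, Matrix.transpose_one, Matrix.transpose_single, add_mul, mul_add,
      one_mul, mul_one, Matrix.single_mul_single_same,
      Matrix.single_mul_single_of_ne _ _ _ _ hjk, Matrix.single_mul_single_of_ne _ _ _ _ hjk.symm,
      add_zero, zero_add, zero_mul, mul_zero]
  abel

theorem InT_diag
    (h : 3 ≤ Fintype.card l ∨ (2 ≤ Fintype.card l ∧ (2 : F) ≠ 0) ∨ ∃ a : F, a ≠ 0 ∧ a ^ 2 ≠ 1)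
    (i : l) (c : F) : InT (Matrix.single i i c) := by
  by_cases ha : ∃ a : F, a ≠ 0 ∧ a ^ 2 ≠ 1
  · obtain ⟨a, ha, ha2⟩ := ha
    have h1 := InT_conj (1 + Matrix.single i i (a - 1)) (1 + Matrix.single i i (a⁻¹ - 1))
      (by
        simp only [Matrix.transpose_add, Matrix.transpose_one, Matrix.transpose_single, add_mul,
          mul_add, one_mul, mul_one, Matrix.single_mul_single_same]
        ext x y
        simp only [Matrix.add_apply, Matrix.one_apply, Matrix.single_apply]
        split_ifs <;> grind)
      (Matrix.single i i (c / (a ^ 2 - 1))) (by simp)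
    convert h1 using 1
    have : a ^ 2 - 1 ≠ 0 := sub_ne_zero_of_ne ha2
    simp only [Matrix.transpose_add, Matrix.transpose_one, Matrix.transpose_single, add_mul,
      mul_add, one_mul, mul_one, Matrix.single_mul_single_same]
    ext x y
    simp only [Matrix.sub_apply, Matrix.add_apply, Matrix.single_apply]
    split_ifs with hxy
    · field_simp; ring
    · simp
  have h : 3 ≤ Fintype.card l ∨ (2 ≤ Fintype.card l ∧ (2 : F) ≠ 0) := by
    rcases h with h | h | h
    · exact Or.inl h
    · exact Or.inr h
    · exact absurd h ha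
  obtain ⟨j, hji⟩ := Fintype.exists_ne_of_one_lt_card
    (by rcases h with h | h <;> omega : 1 < Fintype.card l) i
  have hoff : InT (Matrix.single i j c + Matrix.single j i c) := by
    rcases h with h | ⟨-, h2⟩
    · obtain ⟨k, -, hk⟩ := Finset.exists_mem_notMem_of_card_lt_card
        (s := {i, j}) (t := Finset.univ) (by
          rw [Finset.card_univ]; exact lt_of_le_of_lt Finset.card_le_two h)
      simp only [Finset.mem_insert, Finset.mem_singleton, not_or] at hk
      exact InT_offdiag_of_third (j := k) (Ne.symm hk.1) hk.2 c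
    · have hd : (1 + Matrix.single i i (-2 : F))ᵀ * (1 + Matrix.single i i (-2 : F)) = 1 := by
        simp only [Matrix.transpose_add, Matrix.transpose_one, Matrix.transpose_single, add_mul,
          mul_add, one_mul, mul_one, Matrix.single_mul_single_same]
        ext x y
        simp only [Matrix.add_apply, Matrix.one_apply, Matrix.single_apply]
        split_ifs <;> grind
      have h1 := InT_conj _ _ hd
        (Matrix.single i j (-c / 2) + Matrix.single j i (-c / 2)) (by simp [add_comm])
      convert h1 using 1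
      simp only [Matrix.transpose_add, Matrix.transpose_one, Matrix.transpose_single, add_mul,
        mul_add, one_mul, mul_one, Matrix.single_mul_single_same,
        Matrix.single_mul_single_of_ne _ _ _ _ hji.symm,
        Matrix.single_mul_single_of_ne _ _ _ _ hji, add_zero, zero_add, zero_mul, mul_zero]
      ext x y
      simp only [Matrix.sub_apply, Matrix.add_apply, Matrix.single_apply]
      split_ifs <;> field_simp <;> ring
  have h1 := InT_conj _ _ (transvec_transpose_mul hji.symm 1) (Matrix.single j j c) (by simp)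
  convert h1.sub hoff using 1
  simp only [Matrix.transpose_add, Matrix.transpose_one, Matrix.transpose_single, add_mul, mul_add,
    one_mul, mul_one, Matrix.single_mul_single_same]
  abel

theorem commutator_eq_top
    (h : 3 ≤ Fintype.card l ∨ (2 ≤ Fintype.card l ∧ (2 : F) ≠ 0) ∨ ∃ a : F, a ≠ 0 ∧ a ^ 2 ≠ 1) :
    commutator (Matrix.symplecticGroup l F) = ⊤ := by
  rw [eq_top_iff, ← tvGroup_eq_top]
  refine (Subgroup.closure_le _).mpr ?_
  rintro g ⟨w, -, c, rfl⟩
  rcases eq_or_ne w 0 with rfl | hw
  · have : tv (0 : l ⊕ l → F) c = 1 := symp_ext fun x => by simp [tv_smul]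
    rw [this]; exact one_mem _
  obtain ⟨i⟩ : Nonempty l := by
    by_contra he
    rw [not_nonempty_iff] at he
    exact hw (Subsingleton.elim _ _)
  obtain ⟨g, hg⟩ := exists_smul_eq_of_ne_zero
    (u := (Pi.single (Sum.inl i) (1 : F) : l ⊕ l → F)) (Pi.single_ne_zero_iff.mpr one_ne_zero) hw
  rw [← hg, ← tv_conj]
  refine Subgroup.Normal.conj_mem inferInstance _ ?_ g
  rw [tv_single_eq_uni]
  exact (InT_diag h i c).2

/-! Action on points -/

theorem smul_mk' (g : Matrix.symplecticGroup l F) {v : l ⊕ l → F} (hv : v ≠ 0) :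
    g • Projectivization.mk F v hv =
      Projectivization.mk F (g • v) ((smul_ne_zero_iff_ne g).mpr hv) := rfl

theorem isPretransitive : MulAction.IsPretransitive (Matrix.symplecticGroup l F) (ℙ F (l ⊕ l → F)) := by
  constructor
  intro p r
  induction p using Projectivization.ind with | _ u hu =>
  induction r using Projectivization.ind with | _ v hv =>
  obtain ⟨g, hg⟩ := exists_smul_eq_of_ne_zero hu hv
  exact ⟨g, by simp only [smul_mk', hg]⟩

theorem isPreprimitive [Nonempty l] :
    MulAction.IsPreprimitive (Matrix.symplecticGroup l F) (ℙ F (l ⊕ l → F)) := by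
  haveI := isPretransitive (l := l) (F := F)
  constructor
  intro B hB
  by_contra hne
  rw [MulAction.IsTrivialBlock, not_or, Set.not_subsingleton_iff] at hne
  obtain ⟨⟨P, hP, Q, hQ, hPQ⟩, huniv⟩ := hne
  have hfix : ∀ (g : Matrix.symplecticGroup l F) (X : ℙ F (l ⊕ l → F)),
      X ∈ B → g • X ∈ B → ∀ Y ∈ B, g • Y ∈ B := by
    intro g X hX hgX Y hY
    rw [← hB.smul_eq_of_mem hX hgX]
    exact Set.smul_mem_smul_set hY
  induction P using Projectivization.ind with | _ p hp =>
  induction Q using Projectivization.ind with | _ r hr =>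
  have hind : ∀ a : F, r ≠ a • p := by
    intro a e
    exact hPQ ((Projectivization.mk_eq_mk_iff' F _ _ hr hp).mpr ⟨a, e.symm⟩).symm
  -- the whole non-perp orbit of a point of `B` lies in `B` once it meets `B`
  have hnon : ∀ u v (hu : u ≠ 0) (hv : v ≠ 0), form u v ≠ 0 →
      Projectivization.mk F u hu ∈ B → Projectivization.mk F v hv ∈ B →
      ∀ w (hw : w ≠ 0), form u w ≠ 0 → Projectivization.mk F w hw ∈ B := by
    intro u v hu hv huv hUB hVB w hw huw
    obtain ⟨g, -, g1, g2⟩ := exists_tvGroup_smul_pair (W := ⊤) (u := u)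
      (v := (form u v)⁻¹ • v) (u' := u) (v' := (form u w)⁻¹ • w)
      trivial trivial trivial trivial
      (by rw [form_smul_right, inv_mul_cancel₀ huv]) (by rw [form_smul_right, inv_mul_cancel₀ huw])
    have e1 : g • Projectivization.mk F u hu = Projectivization.mk F u hu := by
      simp only [smul_mk', g1]
    have e2 : g • Projectivization.mk F v hv = Projectivization.mk F w hw := by
      rw [smul_mk', Projectivization.mk_eq_mk_iff']
      refine ⟨form u v * (form u w)⁻¹, ?_⟩
      rw [mul_smul, ← g2, smul_comm g, smul_smul, mul_inv_cancel₀ huv, one_smul]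
    rw [← e2]
    exact hfix g _ hUB (by rw [e1]; exact hUB) _ hVB
  -- find a non-orthogonal pair in `B`
  obtain ⟨u, v, hu, hv, huv, hUB, hVB⟩ : ∃ u v, ∃ (hu : u ≠ 0) (hv : v ≠ 0), form u v ≠ 0 ∧
      Projectivization.mk F u hu ∈ B ∧ Projectivization.mk F v hv ∈ B := by
    by_cases hpr : form p r = 0
    swap
    · exact ⟨p, r, hp, hr, hpr, hP, hQ⟩
    obtain ⟨y, hy⟩ := exists_form_eq_one hp
    -- there is `s` orthogonal to `p` but not to `r`
    obtain ⟨a, ha⟩ : ∃ a, form p a = 0 ∧ form r a ≠ 0 := by
      by_contra hc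
      push Not at hc
      refine hind (form r y) (sub_eq_zero.mp (eq_zero_of_form_eq_zero fun z => ?_))
      have := hc (z - form p z • y) (by rw [form_sub_right, form_smul_right, hy, mul_one, sub_self])
      rw [form_sub_right, form_smul_right] at this
      rw [form_sub_right, form_smul_right, form_swap z r, form_swap z p, sub_eq_zero.mp this]
      ring
    have ha0 : a ≠ 0 := by rintro rfl; exact ha.2 (form_zero_right r)
    have hmem : ∀ w, form p w = 0 → (∀ c : F, w ≠ c • p) → ∃ b, form p b = 0 ∧ form w b ≠ 0 := by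
      intro w hw hwi
      by_contra hc
      push Not at hc
      refine hwi (form w y) (sub_eq_zero.mp (eq_zero_of_form_eq_zero fun z => ?_))
      have := hc (z - form p z • y) (by rw [form_sub_right, form_smul_right, hy, mul_one, sub_self])
      rw [form_sub_right, form_smul_right] at this
      rw [form_sub_right, form_smul_right, form_swap z w, form_swap z p, sub_eq_zero.mp this]
      ring
    let W : Submodule F (l ⊕ l → F) :=
      { carrier := {w | form p w = 0}
        zero_mem' := form_zero_right p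
        add_mem' := fun {x z} (hx : form p x = 0) (hz : form p z = 0) =>
          show form p (x + z) = 0 by rw [form_add_right, hx, hz, add_zero]
        smul_mem' := fun c x (hx : form p x = 0) =>
          show form p (c • x) = 0 by rw [form_smul_right, hx, mul_zero] }
    have hai : ∀ c : F, a ≠ c • p := fun c e => ha.2 (by
      rw [e, form_smul_right, form_swap r p, hpr, neg_zero, mul_zero])
    obtain ⟨g, hg, hgr⟩ := exists_tvGroup_smul (W := W) (u := r) (v := a) hpr ha.1
      (hmem r hpr hind) (hmem a ha.1 hai)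
    have hgp : g • p = p := tvGroup_fix hg fun w hw => hw
    refine ⟨r, a, hr, ha0, ha.2, hQ, ?_⟩
    have := hfix g _ hP (by simp only [smul_mk', hgp]; exact hP) _ hQ
    simpa only [smul_mk', hgr] using this
  -- hence `B` is everything
  apply huniv
  rw [Set.eq_univ_iff_forall]
  intro W
  induction W using Projectivization.ind with | _ w hw =>
  by_cases huw : form u w = 0
  · obtain ⟨x, hx1, hx2⟩ : ∃ x, form u x ≠ 0 ∧ form w x ≠ 0 := by
      obtain ⟨s, hs⟩ := exists_form_ne_zero hu
      obtain ⟨t, ht⟩ := exists_form_ne_zero hw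
      by_cases h1 : form w s = 0
      · by_cases h2 : form u t = 0
        · exact ⟨s + t, by rw [form_add_right, h2, add_zero]; exact hs,
            by rw [form_add_right, h1, zero_add]; exact ht⟩
        · exact ⟨t, h2, ht⟩
      · exact ⟨s, hs, h1⟩
    have hx0 : x ≠ 0 := by rintro rfl; exact hx1 (form_zero_right u)
    exact hnon x u hx0 hu (by rwa [form_swap, neg_ne_zero]) (hnon u v hu hv huv hUB hVB x hx0 hx1)
      hUB w hw (by rwa [form_swap, neg_ne_zero])
  · exact hnon u v hu hv huv hUB hVB w hw huw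

theorem smul_eq_self_mem_center {g : Matrix.symplecticGroup l F}
    (h : ∀ P : ℙ F (l ⊕ l → F), g • P = P) :
    g ∈ Subgroup.center (Matrix.symplecticGroup l F) := by
  rw [Subgroup.mem_center_iff]
  intro k
  obtain ⟨a, ha⟩ := LinearMap.exists_eq_smul_id_of_forall_notLinearIndependent
    (f := Matrix.toLin' (g : Matrix (l ⊕ l) (l ⊕ l) F)) (fun v => by
      rcases eq_or_ne v 0 with rfl | hv
      · intro hli; exact hli.ne_zero 0 rfl
      obtain ⟨b, hb⟩ := (Projectivization.mk_eq_mk_iff' F _ _ ((smul_ne_zero_iff_ne g).mpr hv)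
        hv).mp (h (Projectivization.mk F v hv))
      rw [Matrix.toLin'_apply]
      change ¬ LinearIndependent F ![v, g • v]
      rw [← hb]
      intro hli
      have := LinearIndependent.pair_iff.mp hli b (-1) (by simp)
      simp at this)
  have hv : ∀ v : l ⊕ l → F, g • v = a • v := fun v => by
    have := congrArg (fun f : (l ⊕ l → F) →ₗ[F] (l ⊕ l → F) => f v) ha
    simp [Algebra.algebraMap_eq_smul_one] at this
    exact this
  refine symp_ext fun v => ?_
  rw [mul_smul, mul_smul, hv, hv, smul_comm k]

/-- The Iwasawa structure on the symplectic group. -/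
noncomputable def spIwasawa :
    MulAction.IwasawaStructure (Matrix.symplecticGroup l F) (ℙ F (l ⊕ l → F)) where
  T P :=
    { carrier := Set.range fun c : F => tv P.rep c
      mul_mem' := by rintro _ _ ⟨c, rfl⟩ ⟨d, rfl⟩; exact ⟨c + d, (tv_add _ c d).symm⟩
      one_mem' := ⟨0, tv_zero _⟩
      inv_mem' := by rintro _ ⟨c, rfl⟩; exact ⟨-c, (tv_inv _ c).symm⟩ }
  is_comm P := ⟨⟨fun ⟨x, hx⟩ ⟨y, hy⟩ => by
    obtain ⟨c, rfl⟩ := hx
    obtain ⟨d, rfl⟩ := hy
    exact Subtype.ext (by simp only [Subgroup.coe_mul, tv_add, add_comm])⟩⟩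
  is_conj g P := by
    obtain ⟨a, ha⟩ := Projectivization.exists_smul_eq_mk_rep F (g • P.rep)
      ((smul_ne_zero_iff_ne g).mpr P.rep_nonzero)
    rw [← smul_mk' g P.rep_nonzero, Projectivization.mk_rep] at ha
    ext x
    rw [Subgroup.mem_pointwise_smul_iff_inv_smul_mem]
    simp only [Subgroup.mem_mk, MulAut.smul_def, MulAut.inv_apply, MulAut.conj_symm_apply]
    constructor
    · rintro ⟨c, rfl⟩
      refine ⟨(a : F) ^ 2 * c, ?_⟩
      dsimp only
      rw [← ha, Units.smul_def, tv_smul_vec, ← tv_conj]
      group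
    · rintro ⟨c, hc⟩
      refine ⟨((a : F) ^ 2)⁻¹ * c, ?_⟩
      dsimp only at hc ⊢
      rw [← ha, Units.smul_def, tv_smul_vec, ← mul_assoc, mul_inv_cancel₀ (by simp), one_mul,
        ← tv_conj, hc]
      group
  is_generator := by
    rw [eq_top_iff, ← tvGroup_eq_top]
    refine (Subgroup.closure_le _).mpr ?_
    rintro g ⟨w, -, c, rfl⟩
    rcases eq_or_ne w 0 with rfl | hw
    · have : tv (0 : l ⊕ l → F) c = 1 := symp_ext fun x => by simp [tv_smul]
      rw [this]; exact one_mem _
    obtain ⟨a, ha⟩ := Projectivization.exists_smul_eq_mk_rep F w hw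
    refine Subgroup.mem_iSup_of_mem (Projectivization.mk F w hw) ⟨((a : F) ^ 2)⁻¹ * c, ?_⟩
    dsimp only
    rw [← ha, Units.smul_def, tv_smul_vec, ← mul_assoc, mul_inv_cancel₀ (by simp), one_mul]

theorem isSimpleGroup_quot [Nonempty l]
    (h : 3 ≤ Fintype.card l ∨ (2 ≤ Fintype.card l ∧ (2 : F) ≠ 0) ∨ ∃ a : F, a ≠ 0 ∧ a ^ 2 ≠ 1) :
    IsSimpleGroup (Matrix.symplecticGroup l F ⧸
      Subgroup.center (Matrix.symplecticGroup l F)) := by
  haveI := isPreprimitive (l := l) (F := F)
  have hN : ∀ N : Subgroup (Matrix.symplecticGroup l F), N.Normal →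
      N ≤ Subgroup.center _ ∨ N = ⊤ := by
    intro N hN
    rw [or_iff_not_imp_left]
    intro hle
    refine eq_top_iff.mpr ((commutator_eq_top h).symm.le.trans
      (spIwasawa.commutator_le N fun hfp => hle fun n hn => smul_eq_self_mem_center fun P => ?_))
    have := Set.eq_univ_iff_forall.mp hfp P ⟨n, hn⟩
    exact this
  haveI : Nontrivial (Matrix.symplecticGroup l F ⧸
      Subgroup.center (Matrix.symplecticGroup l F)) := by
    obtain ⟨i⟩ := ‹Nonempty l›
    refine ⟨⟨QuotientGroup.mk (tv (Pi.single (Sum.inl i) (1 : F)) 1), 1, fun e => ?_⟩⟩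
    rw [QuotientGroup.eq_one_iff, mem_center_iff, tv_single_eq_uni] at e
    simp only [uni, ← Matrix.fromBlocks_one, Matrix.fromBlocks_neg, Matrix.fromBlocks_inj] at e
    rcases e with e | e
    · have := congrFun (congrFun e.2.1 i) i; simp at this
    · have := congrFun (congrFun e.2.1 i) i; simp at this
  refine ⟨fun K hK => ?_⟩
  rcases hN (K.comap (QuotientGroup.mk' _)) inferInstance with h1 | h1
  · left
    rw [eq_bot_iff]
    intro x hx
    obtain ⟨g, rfl⟩ := QuotientGroup.mk_surjective x
    rw [Subgroup.mem_bot, QuotientGroup.eq_one_iff]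
    exact h1 hx
  · right
    rw [← Subgroup.map_comap_eq_self_of_surjective (QuotientGroup.mk'_surjective _) K, h1,
      Subgroup.map_top_of_surjective _ (QuotientGroup.mk'_surjective _)]

theorem exists_sq_ne_one [Finite F] (h : 4 ≤ Nat.card F) : ∃ a : F, a ≠ 0 ∧ a ^ 2 ≠ 1 := by
  by_contra hc
  push Not at hc
  haveI := Fintype.ofFinite F
  classical
  have : (Finset.univ : Finset F) ⊆ {0, 1, -1} := by
    intro a _
    simp only [Finset.mem_insert, Finset.mem_singleton]
    by_cases ha : a = 0
    · exact Or.inl ha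
    · exact Or.inr (sq_eq_one_iff.mp (hc a ha))
  have := Finset.card_le_card this
  rw [Finset.card_univ, ← Nat.card_eq_fintype_card] at this
  have := this.trans Finset.card_le_three
  omega

theorem cond_of_finite [Finite F] (m : ℕ)
    (h : 3 ≤ m ∨ (m = 2 ∧ 3 ≤ Nat.card F) ∨ 4 ≤ Nat.card F) :
    3 ≤ Fintype.card (Fin m) ∨ (2 ≤ Fintype.card (Fin m) ∧ (2 : F) ≠ 0) ∨
      ∃ a : F, a ≠ 0 ∧ a ^ 2 ≠ 1 := by
  by_cases h4 : 4 ≤ Nat.card F
  · exact Or.inr (Or.inr (exists_sq_ne_one h4))
  rw [Fintype.card_fin]
  rcases h with h | ⟨rfl, h⟩ | h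
  · exact Or.inl h
  · refine Or.inr (Or.inl ⟨le_rfl, fun h2 => ?_⟩)
    have h3 : Nat.card F = 3 := by omega
    haveI := Fintype.ofFinite F
    have : ((Fintype.card F : ℕ) : F) = 0 := Nat.cast_card_eq_zero F
    rw [← Nat.card_eq_fintype_card, h3] at this
    exact one_ne_zero (α := F) (by
      calc (1 : F) = ((3 : ℕ) : F) - 2 := by norm_num
      _ = 0 := by rw [this, h2, sub_zero])
  · exact absurd h h4

end CfsgLib.Symp
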