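import Mathlib.LinearAlgebra.Matrix.GeneralLinearGroup.Card
import Mathlib.LinearAlgebra.Matrix.GeneralLinearGroup.Projective
import Mathlib.LinearAlgebra.Matrix.ProjectiveSpecialLinearGroup
import Mathlib.GroupTheory.SpecificGroups.Cyclic
import Mathlib.RingTheory.IntegralDomain
import Mathlib.FieldTheory.Finite.Basic
import Mathlib.Data.ZMod.Basic

/-!
Orders of SL, PSL, PGL over finite fields, the centre of SL, and the determinant map on PGL.
-/

set_option autoImplicit false
set_option linter.style.haveILetI false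

namespace CfsgLib.Linear

open Matrix

variable {ι F : Type*} [Fintype ι] [DecidableEq ι] [Field F]

/-- SL as the kernel of the determinant of GL. -/
noncomputable def slEquivDetKer :
    Matrix.SpecialLinearGroup ι F ≃*
      (Matrix.GeneralLinearGroup.det : GL ι F →* Fˣ).ker :=
  MulEquiv.ofBijective
    ((Matrix.SpecialLinearGroup.toGL (n := ι) (R := F)).codRestrict _ fun g => by
      rw [MonoidHom.mem_ker, Units.ext_iff]; exact g.2)
    ⟨fun a b h => Matrix.SpecialLinearGroup.toGL_injective (congrArg Subtype.val h),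
     fun ⟨g, hg⟩ => ⟨⟨g.1, by
        have := congrArg Units.val (MonoidHom.mem_ker.mp hg); simpa using this⟩,
      Subtype.ext (Units.ext rfl)⟩⟩

theorem toGL_range :
    (Matrix.SpecialLinearGroup.toGL (n := ι) (R := F)).range =
      (Matrix.GeneralLinearGroup.det : GL ι F →* Fˣ).ker := by
  ext g
  constructor
  · rintro ⟨a, rfl⟩
    rw [MonoidHom.mem_ker, Units.ext_iff]; exact a.2
  · intro hg
    exact ⟨⟨g.1, by have := congrArg Units.val (MonoidHom.mem_ker.mp hg); simpa using this⟩,
      Units.ext rfl⟩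

theorem card_units_mul_card_SL [Finite F] [Nonempty ι] :
    (Nat.card F - 1) * Nat.card (Matrix.SpecialLinearGroup ι F) = Nat.card (GL ι F) := by
  have h2 : (Matrix.GeneralLinearGroup.det : GL ι F →* Fˣ).ker.index = Nat.card F - 1 := by
    rw [Subgroup.index_ker, MonoidHom.range_eq_top.mpr Matrix.GeneralLinearGroup.det_surjective,
      Subgroup.card_top, Nat.card_units]
  have h1 := Subgroup.card_mul_index (Matrix.GeneralLinearGroup.det : GL ι F →* Fˣ).ker
  rw [h2, ← Nat.card_congr slEquivDetKer.toEquiv, mul_comm] at h1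
  exact h1

theorem card_SL_mul {q : ℕ} [Fintype F] (hF : Fintype.card F = q) (n : ℕ) (hn : 1 ≤ n) :
    (q - 1) * Nat.card (Matrix.SpecialLinearGroup (Fin n) F) =
      ∏ i : Fin n, (q ^ n - q ^ (i : ℕ)) := by
  haveI : Nonempty (Fin n) := ⟨⟨0, hn⟩⟩
  rw [← hF, ← Matrix.card_GL_field, ← card_units_mul_card_SL, Nat.card_eq_fintype_card (α := F)]

theorem card_rootsOfUnity_eq [Finite F] (n : ℕ) :
    Nat.card (rootsOfUnity n F) = Nat.gcd (Nat.card F - 1) n := by
  have h : (powMonoidHom n : Fˣ →* Fˣ).ker = rootsOfUnity n F := by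
    ext u; rw [MonoidHom.mem_ker, mem_rootsOfUnity, powMonoidHom_apply]
  rw [← h, IsCyclic.card_powMonoidHom_ker, Nat.card_units]

theorem card_center_SL [Finite F] [Nonempty ι] :
    Nat.card (Subgroup.center (Matrix.SpecialLinearGroup ι F)) =
      Nat.gcd (Fintype.card ι) (Nat.card F - 1) := by
  rw [Nat.card_congr
    (Matrix.SpecialLinearGroup.center_equiv_rootsOfUnity' (Classical.arbitrary ι)).toEquiv,
    card_rootsOfUnity_eq, Nat.gcd_comm]

theorem gcd_mul_card_PSL [Finite F] [Nonempty ι] :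
    Nat.gcd (Fintype.card ι) (Nat.card F - 1) *
      Nat.card (Matrix.ProjectiveSpecialLinearGroup ι F) =
      Nat.card (Matrix.SpecialLinearGroup ι F) := by
  rw [Subgroup.card_eq_card_quotient_mul_card_subgroup
    (Subgroup.center (Matrix.SpecialLinearGroup ι F)), card_center_SL, mul_comm]

theorem card_PSL_mul {q : ℕ} [Fintype F] (hF : Fintype.card F = q) (n : ℕ) (hn : 1 ≤ n) :
    Nat.gcd n (q - 1) * ((q - 1) * Nat.card (Matrix.ProjectiveSpecialLinearGroup (Fin n) F)) =
      ∏ i : Fin n, (q ^ n - q ^ (i : ℕ)) := by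
  haveI : Nonempty (Fin n) := ⟨⟨0, hn⟩⟩
  rw [← card_SL_mul hF n hn, ← gcd_mul_card_PSL, Fintype.card_fin, Nat.card_eq_fintype_card (α := F), hF]
  ring

theorem card_center_GL [Finite F] [Nonempty ι] :
    Nat.card (Subgroup.center (GL ι F)) = Nat.card F - 1 := by
  rw [Matrix.GeneralLinearGroup.center_eq_range_scalar, ← Nat.card_units]
  refine (Nat.card_congr (MonoidHom.ofInjective ?_).toEquiv).symm
  intro a b h
  have := congrArg (fun g : GL ι F => (g : Matrix ι ι F) (Classical.arbitrary ι) (Classical.arbitrary ι)) h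
  simpa [Units.ext_iff] using this

theorem card_PGL [Finite F] :
    Nat.card (Matrix.ProjGenLinGroup ι F) = Nat.card (Matrix.SpecialLinearGroup ι F) := by
  cases isEmpty_or_nonempty ι
  · have h1 : Subsingleton (GL ι F) := ⟨fun a b => Units.ext (Subsingleton.elim _ _)⟩
    have h2 : Subsingleton (Matrix.ProjGenLinGroup ι F) :=
      Matrix.ProjGenLinGroup.mk_surjective.subsingleton
    rw [Nat.card_of_subsingleton 1, Nat.card_of_subsingleton 1]
  · have h := Subgroup.card_eq_card_quotient_mul_card_subgroup (Subgroup.center (GL ι F))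
    rw [card_center_GL, ← card_units_mul_card_SL, mul_comm (Nat.card F - 1)] at h
    have hq : 1 ≤ Nat.card F - 1 := by
      have := Finite.one_lt_card (α := F); omega
    exact (Nat.eq_of_mul_eq_mul_right hq h).symm

/-- The determinant of PGL modulo n-th powers, as a map onto a cyclic group. -/
theorem exists_PGL_to_cyclic [Finite F] [Nonempty ι] :
    ∃ g : Matrix.ProjGenLinGroup ι F →*
        Multiplicative (ZMod (Nat.gcd (Fintype.card ι) (Nat.card F - 1))),
      Function.Surjective g ∧ g.ker =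
        (Matrix.ProjectiveSpecialLinearGroup.toPGL (n := ι) (R := F)).range := by
  set P : Subgroup Fˣ := (powMonoidHom (Fintype.card ι) : Fˣ →* Fˣ).range with hP
  have hc : Nat.card (Fˣ ⧸ P) =
      Nat.card (Multiplicative (ZMod (Nat.gcd (Fintype.card ι) (Nat.card F - 1)))) := by
    rw [← Subgroup.index_eq_card, hP, IsCyclic.index_powMonoidHom_range, Nat.card_units,
      Nat.card_congr Multiplicative.toAdd, Nat.card_zmod, Nat.gcd_comm]
  haveI : IsCyclic (Fˣ ⧸ P) := isCyclic_of_surjective _ (QuotientGroup.mk'_surjective P)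
  let e := mulEquivOfCyclicCardEq hc
  have hsc : ∀ u : Fˣ, Matrix.GeneralLinearGroup.det (Matrix.GeneralLinearGroup.scalar ι u) =
      u ^ Fintype.card ι := fun u => Units.ext (by simp)
  let d : GL ι F →* Fˣ ⧸ P := (QuotientGroup.mk' P).comp Matrix.GeneralLinearGroup.det
  have hd : Subgroup.center (GL ι F) ≤ d.ker := by
    rw [Matrix.GeneralLinearGroup.center_eq_range_scalar]
    rintro _ ⟨u, rfl⟩
    simp only [d, MonoidHom.mem_ker, MonoidHom.comp_apply, hsc, QuotientGroup.mk'_apply,
      QuotientGroup.eq_one_iff]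
    exact ⟨u, rfl⟩
  refine ⟨e.toMonoidHom.comp (QuotientGroup.lift _ d hd : Matrix.ProjGenLinGroup ι F →* Fˣ ⧸ P),
    ?_, ?_⟩
  · refine e.surjective.comp ?_
    intro x
    obtain ⟨u, rfl⟩ := QuotientGroup.mk'_surjective P x
    obtain ⟨A, rfl⟩ := Matrix.GeneralLinearGroup.det_surjective (n := ι) u
    exact ⟨Matrix.ProjGenLinGroup.mk A, rfl⟩
  · ext x
    induction x using Matrix.ProjGenLinGroup.induction_on with | mk A =>
    rw [MonoidHom.mem_ker]
    change e (QuotientGroup.mk' P (Matrix.GeneralLinearGroup.det A)) = 1 ↔ _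
    rw [map_eq_one_iff _ e.injective, QuotientGroup.mk'_apply, QuotientGroup.eq_one_iff]
    constructor
    · rintro ⟨u, hu⟩
      obtain ⟨S, hS⟩ : A * Matrix.GeneralLinearGroup.scalar ι u⁻¹ ∈
          (Matrix.SpecialLinearGroup.toGL (n := ι) (R := F)).range := by
        rw [toGL_range, MonoidHom.mem_ker, map_mul, hsc, inv_pow, ← hu, powMonoidHom_apply,
          mul_inv_cancel]
      refine ⟨QuotientGroup.mk S, ?_⟩
      rw [Matrix.ProjectiveSpecialLinearGroup.toPGL_mk, hS, map_mul, Matrix.ProjGenLinGroup.mk_scalar, mul_one]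
    · rintro ⟨y, hy⟩
      obtain ⟨S, rfl⟩ := QuotientGroup.mk_surjective y
      rw [Matrix.ProjectiveSpecialLinearGroup.toPGL_mk, Matrix.ProjGenLinGroup.mk_eq_mk_iff] at hy
      obtain ⟨u, rfl⟩ := hy
      refine ⟨u, ?_⟩
      have : Matrix.GeneralLinearGroup.det (Matrix.SpecialLinearGroup.toGL S) = 1 :=
        Units.ext S.2
      rw [powMonoidHom_apply, map_mul, this, one_mul, hsc]

end CfsgLib.Linear
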