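import Mathlib.LinearAlgebra.Matrix.SpecialLinearGroup
import Mathlib.LinearAlgebra.Projectivization.PSL.Stabilizer
import Mathlib.GroupTheory.GroupAction.Iwasawa
import Mathlib.GroupTheory.Commutator.Basic
import Mathlib.GroupTheory.IsPerfect
import Cfsg.Agent.Classical.LinearOrder

/-!
Transvections generate SL; SL_n is perfect and PSL_n simple for n at least 3; the derived group of GL_n.
-/

set_option autoImplicit false
set_option linter.style.haveILetI false

namespace CfsgLib.Linear

open Matrix
open scoped commutatorElement

variable {ι F : Type*} [Fintype ι] [DecidableEq ι] [Field F]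

theorem transvec_coe {i j : ι} (hij : i ≠ j) (b : F) :
    (Matrix.SpecialLinearGroup.transvection hij b : Matrix ι ι F) = Matrix.transvection i j b := rfl

theorem diag2n_matrix {i j : ι} (hij : i ≠ j) {a : F} (ha : a ≠ 0) :
    (Matrix.SpecialLinearGroup.diag2n hij a ha : Matrix ι ι F) =
      1 + Matrix.single i i (a - 1) + Matrix.single j j (a⁻¹ - 1) := by
  rw [Matrix.SpecialLinearGroup.diag2n_coe]
  ext k l
  rcases eq_or_ne k l with rfl | hkl
  · rcases eq_or_ne k i with rfl | hki
    · simp [hij.symm, Matrix.single_apply]
    · rcases eq_or_ne k j with rfl | hkj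
      · simp [hij, hki, Matrix.single_apply]
      · simp [hki, hkj, Ne.symm hki, Ne.symm hkj, Matrix.single_apply]
  · simp [hkl, Matrix.single_apply]
    grind

theorem diag2n_decompose {i j : ι} (hij : i ≠ j) {a : F} (ha : a ≠ 0) :
    Matrix.SpecialLinearGroup.diag2n hij a ha =
      Matrix.SpecialLinearGroup.transvection hij a *
        Matrix.SpecialLinearGroup.transvection hij.symm (-a⁻¹) *
        Matrix.SpecialLinearGroup.transvection hij a *
        (Matrix.SpecialLinearGroup.transvection hij (-1) *
        Matrix.SpecialLinearGroup.transvection hij.symm 1 *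
        Matrix.SpecialLinearGroup.transvection hij (-1)) := by
  refine Subtype.ext ?_
  simp only [Matrix.SpecialLinearGroup.coe_mul, transvec_coe, diag2n_matrix, Matrix.transvection,
    add_mul, mul_add, one_mul, mul_one, Matrix.single_mul_single_same,
    Matrix.single_mul_single_of_ne _ _ _ _ hij, Matrix.single_mul_single_of_ne _ _ _ _ hij.symm,
    add_zero, zero_add, zero_mul, mul_zero]
  ext k l
  simp only [Matrix.add_apply, Matrix.one_apply, Matrix.single_apply]
  split_ifs <;> grind

/-- Induction along transvections. -/
theorem transvection_induction [Nontrivial ι] (P : Matrix.SpecialLinearGroup ι F → Prop)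
    (htransvec : ∀ (i j : ι) (h : i ≠ j) (c : F),
      P (Matrix.SpecialLinearGroup.transvection h c))
    (hmul : ∀ A B, P A → P B → P (A * B)) (A : Matrix.SpecialLinearGroup ι F) : P A := by
  refine Matrix.SpecialLinearGroup.diagonal_transvection_induction' P A ?_ htransvec hmul
  intro i j hij c hc
  rw [diag2n_decompose hij hc]
  exact hmul _ _ (hmul _ _ (hmul _ _ (htransvec _ _ _ _) (htransvec _ _ _ _)) (htransvec _ _ _ _))
    (hmul _ _ (hmul _ _ (htransvec _ _ _ _) (htransvec _ _ _ _)) (htransvec _ _ _ _))

theorem transvection_commutator_three {i j k : ι} (hij : i ≠ j) (hik : i ≠ k) (hkj : k ≠ j)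
    (c : F) : Matrix.SpecialLinearGroup.transvection hij c =
      ⁅Matrix.SpecialLinearGroup.transvection hik c,
        Matrix.SpecialLinearGroup.transvection hkj (1 : F)⁆ := by
  rw [commutatorElement_def, Matrix.SpecialLinearGroup.transvection_inv hik,
    Matrix.SpecialLinearGroup.transvection_inv hkj]
  refine Subtype.ext ?_
  simp only [Matrix.SpecialLinearGroup.coe_mul, transvec_coe, Matrix.transvection,
    add_mul, mul_add, one_mul, mul_one, Matrix.single_mul_single_same,
    Matrix.single_mul_single_of_ne _ _ _ _ hkj.symm, Matrix.single_mul_single_of_ne _ _ _ _ hij.symm,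
    Matrix.single_mul_single_of_ne _ _ _ _ hik.symm,
    Matrix.single_mul_single_of_ne _ _ _ _ hkj,
    add_zero, zero_add, zero_mul, mul_zero]
  ext a b
  simp only [Matrix.add_apply, Matrix.one_apply, Matrix.single_apply]
  split_ifs <;> grind

theorem transvection_commutator_two {i j : ι} (hij : i ≠ j) {x : F} (hx : x ≠ 0) (b : F) :
    Matrix.SpecialLinearGroup.transvection hij (b * (x ^ 2 - 1)) =
      ⁅Matrix.SpecialLinearGroup.diag2n hij x hx,
        Matrix.SpecialLinearGroup.transvection hij b⁆ := by
  have key : Matrix.SpecialLinearGroup.diag2n hij x hx *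
      Matrix.SpecialLinearGroup.transvection hij b =
      Matrix.SpecialLinearGroup.transvection hij (b * x ^ 2) *
        Matrix.SpecialLinearGroup.diag2n hij x hx := by
    refine Subtype.ext ?_
    simp only [Matrix.SpecialLinearGroup.coe_mul, transvec_coe, diag2n_matrix, Matrix.transvection,
      add_mul, mul_add, one_mul, mul_one, Matrix.single_mul_single_same,
      Matrix.single_mul_single_of_ne _ _ _ _ hij, Matrix.single_mul_single_of_ne _ _ _ _ hij.symm,
      add_zero, zero_add]
    ext a c
    simp only [Matrix.add_apply, Matrix.one_apply, Matrix.single_apply]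
    split_ifs <;> grind
  rw [commutatorElement_def, key, mul_inv_cancel_right,
    Matrix.SpecialLinearGroup.transvection_inv hij,
    ← Matrix.SpecialLinearGroup.transvection_add hij]
  congr 1
  ring

theorem transvection_mem_commutatorSet
    (h : 3 ≤ Fintype.card ι ∨ ∃ x : F, x ≠ 0 ∧ x ^ 2 ≠ 1) {i j : ι} (hij : i ≠ j) (c : F) :
    Matrix.SpecialLinearGroup.transvection hij c ∈
      commutatorSet (Matrix.SpecialLinearGroup ι F) := by
  rcases h with h | ⟨x, hx, hx2⟩
  · obtain ⟨k, -, hk⟩ := Finset.exists_mem_notMem_of_card_lt_card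
      (s := {i, j}) (t := Finset.univ) (by
        rw [Finset.card_univ]; exact lt_of_le_of_lt Finset.card_le_two h)
    simp only [Finset.mem_insert, Finset.mem_singleton, not_or] at hk
    exact ⟨_, _, (transvection_commutator_three hij (Ne.symm hk.1) hk.2 c).symm⟩
  · refine ⟨Matrix.SpecialLinearGroup.diag2n hij x hx,
      Matrix.SpecialLinearGroup.transvection hij (c / (x ^ 2 - 1)), ?_⟩
    rw [← transvection_commutator_two hij hx, div_mul_cancel₀ c (sub_ne_zero_of_ne hx2)]

theorem commutator_SL_eq_top
    (h : 3 ≤ Fintype.card ι ∨ ∃ x : F, x ≠ 0 ∧ x ^ 2 ≠ 1) :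
    commutator (Matrix.SpecialLinearGroup ι F) = ⊤ := by
  rcases subsingleton_or_nontrivial ι with hs | hn
  · exact eq_top_iff.2 fun x _ => by rw [Subsingleton.elim x 1]; exact one_mem _
  refine eq_top_iff.2 fun A _ => transvection_induction _ (fun i j hij c => ?_)
    (fun _ _ => mul_mem) A
  rw [commutator_eq_closure]
  exact Subgroup.subset_closure (transvection_mem_commutatorSet h hij c)

theorem commutator_GL_eq [Nonempty ι]
    (h : 3 ≤ Fintype.card ι ∨ ∃ x : F, x ≠ 0 ∧ x ≠ 1) :
    commutator (GL ι F) = (Matrix.GeneralLinearGroup.det : GL ι F →* Fˣ).ker := by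
  apply le_antisymm
  · exact Abelianization.commutator_subset_ker _
  · rw [← toGL_range]
    rintro _ ⟨A, rfl⟩
    rcases subsingleton_or_nontrivial ι with hs | hn
    · rw [Subsingleton.elim A 1, map_one]; exact one_mem _
    refine transvection_induction
      (fun A => Matrix.SpecialLinearGroup.toGL A ∈ commutator (GL ι F)) ?_
      (fun a b ha hb => by simp only [map_mul]; exact mul_mem ha hb) A
    intro i j hij c
    rcases h with h | ⟨x, hx, hx1⟩
    · obtain ⟨k, -, hk⟩ := Finset.exists_mem_notMem_of_card_lt_card
        (s := {i, j}) (t := Finset.univ) (by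
          rw [Finset.card_univ]; exact lt_of_le_of_lt Finset.card_le_two h)
      simp only [Finset.mem_insert, Finset.mem_singleton, not_or] at hk
      rw [transvection_commutator_three hij (Ne.symm hk.1) hk.2 c, map_commutatorElement]
      exact Subgroup.commutator_mem_commutator (Subgroup.mem_top _) (Subgroup.mem_top _)
    · let d : GL ι F := Matrix.GeneralLinearGroup.mkOfDetNeZero
        (Matrix.diagonal (Function.update (fun _ => (1 : F)) i x)) (by
          rw [Matrix.det_diagonal, Finset.prod_ne_zero_iff]
          intro a _; rw [Function.update_apply]; split_ifs <;> simp [hx])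
      have key : d * Matrix.SpecialLinearGroup.toGL
            (Matrix.SpecialLinearGroup.transvection hij (c / (x - 1))) =
          Matrix.SpecialLinearGroup.toGL
            (Matrix.SpecialLinearGroup.transvection hij (x * (c / (x - 1)))) * d := by
        refine Units.ext ?_
        ext a b
        simp only [Units.val_mul]
        change (Matrix.diagonal (Function.update (fun _ => (1 : F)) i x) *
            Matrix.transvection i j (c / (x - 1))) a b =
          (Matrix.transvection i j (x * (c / (x - 1))) *
            Matrix.diagonal (Function.update (fun _ => (1 : F)) i x)) a b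
        simp only [Matrix.diagonal_mul, Matrix.mul_diagonal, Matrix.transvection, Matrix.add_apply,
          Matrix.one_apply, Matrix.single_apply, Function.update_apply]
        split_ifs <;> grind
      have h2 : ⁅d, Matrix.SpecialLinearGroup.toGL
            (Matrix.SpecialLinearGroup.transvection hij (c / (x - 1)))⁆ =
          Matrix.SpecialLinearGroup.toGL (Matrix.SpecialLinearGroup.transvection hij c) := by
        rw [commutatorElement_def, key, mul_inv_cancel_right, ← map_inv,
          Matrix.SpecialLinearGroup.transvection_inv hij, ← map_mul,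
          ← Matrix.SpecialLinearGroup.transvection_add hij]
        congr 2
        have : x - 1 ≠ 0 := sub_ne_zero_of_ne hx1
        field_simp
        ring
      rw [← h2]
      exact Subgroup.commutator_mem_commutator (Subgroup.mem_top _) (Subgroup.mem_top _)

theorem iSup_iwasawaT [Nontrivial ι] : iSup (PSL.iwasawaT (F := F) (ι := ι)) = ⊤ := by
  rw [eq_top_iff]
  intro x _
  obtain ⟨A, rfl⟩ := QuotientGroup.mk_surjective x
  refine transvection_induction
    (fun A => (QuotientGroup.mk A : Matrix.ProjectiveSpecialLinearGroup ι F) ∈ iSup PSL.iwasawaT)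
    ?_ (fun a b ha hb => mul_mem ha hb) A
  intro i j hij c
  refine Subgroup.mem_iSup_of_mem
    (Projectivization.mk F (Pi.single i (1 : F)) (Pi.single_ne_zero_iff.2 one_ne_zero)) ?_
  refine ⟨Matrix.SpecialLinearGroup.transvection hij c, ?_, rfl⟩
  rw [Projectivization.submodule_mk]
  intro w
  exact Submodule.mem_span_singleton.2 ⟨c * w j, by
    simp [mul_smul, Matrix.SpecialLinearGroup.smul_def, transvec_coe, Matrix.transvection,
      Matrix.add_mulVec, Matrix.single_mulVec_eq]⟩

open scoped LinearAlgebra.Projectivization in
/-- The Iwasawa structure of PSL on projective space. -/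
noncomputable def pslIwasawa [Nontrivial ι] :
    MulAction.IwasawaStructure (Matrix.ProjectiveSpecialLinearGroup ι F) (ℙ F (ι → F)) where
  T := PSL.iwasawaT
  is_comm p := by
    have hSL : IsMulCommutative (Matrix.SpecialLinearGroup.lineStab p.submodule) := by
      rw [← Projectivization.mk_rep p, Projectivization.submodule_mk]
      exact Matrix.SpecialLinearGroup.lineStab_isMulCommutative_of_span p.rep p.rep_nonzero
    exact Subgroup.map_isMulCommutative _ _
  is_conj g p := by
    obtain ⟨h, rfl⟩ := QuotientGroup.mk_surjective g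
    rw [Matrix.ProjectiveSpecialLinearGroup.smul_proj_mk]
    change Subgroup.map _ _ = _
    rw [PSL.smul_submodule, Matrix.SpecialLinearGroup.lineStab_smul, PSL.iwasawaT_map_conj]
  is_generator := iSup_iwasawaT

theorem isSimpleGroup_PSL [Nontrivial ι]
    (h : 3 ≤ Fintype.card ι ∨ ∃ x : F, x ≠ 0 ∧ x ^ 2 ≠ 1) :
    IsSimpleGroup (Matrix.ProjectiveSpecialLinearGroup ι F) := by
  obtain ⟨i, j, hij⟩ := exists_pair_ne ι
  haveI : Nontrivial (Matrix.ProjectiveSpecialLinearGroup ι F) := by
    refine ⟨⟨QuotientGroup.mk (Matrix.SpecialLinearGroup.transvection hij 1), 1, fun e => ?_⟩⟩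
    rw [QuotientGroup.eq_one_iff, Matrix.SpecialLinearGroup.transvection_mem_center_iff] at e
    exact one_ne_zero e
  haveI : Group.IsPerfect (Matrix.SpecialLinearGroup ι F) := ⟨commutator_SL_eq_top h⟩
  have hp : Group.IsPerfect (Matrix.ProjectiveSpecialLinearGroup ι F) := inferInstance
  exact MulAction.IwasawaStructure.isSimpleGroup hp.commutator_eq_top pslIwasawa inferInstance

end CfsgLib.Linear
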