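import Cfsg.Agent.Classical.LinearOrder
import Cfsg.Agent.Classical.Transvections
import Cfsg.Agent.Dickson.Moebius
import Cfsg.Agent.Dickson.OrderSixty
import Cfsg.Agent.InvChar.ThreeSixty
import Cfsg.Agent.InvChar.OneSixtyEight

/-!
Small exceptional isomorphisms of two and three dimensional linear groups.
-/

set_option autoImplicit false
set_option linter.flexible false

namespace CfsgLib.Linear.Small

open Matrix OnePoint

variable {F : Type*} [Field F]

/-- `PGL_2` acting on the projective line, as a homomorphism. -/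
noncomputable def pglPerm (F : Type*) [Field F] [DecidableEq F] :
    Matrix.ProjGenLinGroup (Fin 2) F →* Equiv.Perm (OnePoint F) :=
  MulAction.toPermHom (CfsgLib.Dickson.PGL2 F) (OnePoint F)

theorem pglPerm_injective [DecidableEq F] : Function.Injective (pglPerm F) :=
  (injective_iff_map_eq_one _).mpr fun g hg => CfsgLib.Dickson.eq_one_of_fix3
    (Equiv.congr_fun hg _) (Equiv.congr_fun hg _) (Equiv.congr_fun hg _)

theorem card_psl_two [Fintype F] {q : ℕ} (hF : Fintype.card F = q) :
    Nat.gcd 2 (q - 1) * ((q - 1) * Nat.card (Matrix.ProjectiveSpecialLinearGroup (Fin 2) F)) =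
      (q ^ 2 - 1) * (q ^ 2 - q) := by
  rw [CfsgLib.Linear.card_PSL_mul hF 2 (by norm_num), Fin.prod_univ_two]
  simp

theorem exists_sq_ne_one [Fintype F] (h : 4 ≤ Fintype.card F) : ∃ x : F, x ≠ 0 ∧ x ^ 2 ≠ 1 := by
  classical
  by_contra hc
  push Not at hc
  have hsub : (Finset.univ : Finset F) ⊆ {0, 1, -1} := by
    intro x _
    simp only [Finset.mem_insert, Finset.mem_singleton]
    by_cases hx : x = 0
    · exact Or.inl hx
    · exact Or.inr (sq_eq_one_iff.mp (hc x hx))
  have := (Finset.card_le_card hsub).trans Finset.card_le_three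
  rw [Finset.card_univ] at this
  omega

theorem nonempty_sl_two_two [Fintype F] (hF : Fintype.card F = 2) :
    Nonempty (Matrix.SpecialLinearGroup (Fin 2) F ≃* Equiv.Perm (Fin 3)) := by
  classical
  haveI : Subsingleton Fˣ := Fintype.card_le_one_iff_subsingleton.mp (by rw [Fintype.card_units, hF])
  have hbot : Subgroup.center (Matrix.SpecialLinearGroup (Fin 2) F) = ⊥ :=
    Subgroup.eq_bot_of_card_eq _ (by
      rw [CfsgLib.Linear.card_center_SL, Nat.card_eq_fintype_card (α := F), hF]; rfl)
  have hinj : Function.Injective (Matrix.SpecialLinearGroup.toPGL (n := Fin 2) (R := F)) := by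
    rw [← MonoidHom.ker_eq_bot_iff, Matrix.SpecialLinearGroup.toPGL_ker, hbot]
  obtain ⟨e⟩ : Nonempty (OnePoint F ≃ Fin 3) :=
    ⟨Fintype.equivFinOfCardEq (by rw [← Nat.card_eq_fintype_card]; change Nat.card (Option F) = _; rw [Finite.card_option, Nat.card_eq_fintype_card, hF])⟩
  let f := e.permCongrHom.toMonoidHom.comp ((pglPerm F).comp Matrix.SpecialLinearGroup.toPGL)
  have hf : Function.Injective f := e.permCongrHom.injective.comp (pglPerm_injective.comp hinj)
  refine ⟨MulEquiv.ofBijective f (hf.bijective_of_nat_card_le ?_)⟩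
  have := CfsgLib.Linear.card_SL_mul hF 2 (by norm_num)
  rw [Fin.prod_univ_two] at this
  rw [Nat.card_perm, Nat.card_fin]
  norm_num [Nat.factorial, -Nat.card_eq_fintype_card] at this ⊢
  omega

theorem nonempty_psl_two_three [Fintype F] (hF : Fintype.card F = 3) :
    Nonempty (Matrix.ProjectiveSpecialLinearGroup (Fin 2) F ≃* alternatingGroup (Fin 4)) := by
  classical
  obtain ⟨e⟩ : Nonempty (OnePoint F ≃ Fin 4) :=
    ⟨Fintype.equivFinOfCardEq (by rw [← Nat.card_eq_fintype_card]; change Nat.card (Option F) = _; rw [Finite.card_option, Nat.card_eq_fintype_card, hF])⟩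
  let f := e.permCongrHom.toMonoidHom.comp
    ((pglPerm F).comp Matrix.ProjectiveSpecialLinearGroup.toPGL)
  have hf : Function.Injective f := e.permCongrHom.injective.comp
    (pglPerm_injective.comp Matrix.ProjectiveSpecialLinearGroup.toPGL_injective)
  refine ⟨(MonoidHom.ofInjective hf).trans (MulEquiv.subgroupCongr
    (Equiv.Perm.eq_alternatingGroup_of_index_eq_two ?_))⟩
  have h := Subgroup.card_mul_index f.range
  have hc := card_psl_two hF
  rw [Nat.card_congr (MonoidHom.ofInjective hf).toEquiv.symm, Nat.card_perm, Nat.card_fin] at h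
  norm_num [Nat.factorial, -Nat.card_eq_fintype_card] at h hc
  have : Nat.card (Matrix.ProjectiveSpecialLinearGroup (Fin 2) F) = 12 := by omega
  rw [this] at h
  omega

theorem nonempty_psl_two_five [Fintype F] (hF : Fintype.card F = 5) :
    Nonempty (Matrix.ProjectiveSpecialLinearGroup (Fin 2) F ≃* alternatingGroup (Fin 5)) := by
  haveI := CfsgLib.Linear.isSimpleGroup_PSL (ι := Fin 2) (F := F)
    (Or.inr (exists_sq_ne_one (by omega)))
  haveI : Fact (Nat.Prime 5) := ⟨by norm_num⟩
  have hc := card_psl_two hF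
  norm_num [-Nat.card_eq_fintype_card] at hc
  have h : Nat.card (Matrix.ProjectiveSpecialLinearGroup (Fin 2) F) = 60 := by omega
  obtain ⟨P⟩ : Nonempty (Sylow 5 (Matrix.ProjectiveSpecialLinearGroup (Fin 2) F)) := Sylow.nonempty
  refine CfsgLib.Dickson.OrderSixty.nonempty_mulEquiv h P fun hn => ?_
  have hP := CfsgLib.Dickson.OrderSixty.card_eq_five h P
  rcases hn.eq_bot_or_eq_top with h1 | h1
  · rw [h1, Subgroup.card_bot] at hP
    norm_num at hP
  · rw [h1, Subgroup.card_top, h] at hP
    norm_num at hP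

theorem nonempty_psl_two_nine [Fintype F] (hF : Fintype.card F = 9) :
    Nonempty (Matrix.ProjectiveSpecialLinearGroup (Fin 2) F ≃* alternatingGroup (Fin 6)) := by
  haveI := CfsgLib.Linear.isSimpleGroup_PSL (ι := Fin 2) (F := F)
    (Or.inr (exists_sq_ne_one (by omega)))
  have hc := card_psl_two hF
  norm_num [-Nat.card_eq_fintype_card] at hc
  exact CfsgLib.InvChar.iso_alternatingSix (by omega)

theorem nonempty_psl_two_seven {K : Type*} [Field K] [Fintype F] [Fintype K]
    (hF : Fintype.card F = 7) (hK : Fintype.card K = 2) :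
    Nonempty (Matrix.ProjectiveSpecialLinearGroup (Fin 2) F ≃*
      Matrix.ProjectiveSpecialLinearGroup (Fin 3) K) := by
  haveI := CfsgLib.Linear.isSimpleGroup_PSL (ι := Fin 3) (F := K) (Or.inl (by simp))
  have hc := CfsgLib.Linear.card_PSL_mul hK 3 (by norm_num)
  rw [Fin.prod_univ_three] at hc
  norm_num [-Nat.card_eq_fintype_card] at hc
  obtain ⟨e⟩ := CfsgLib.InvChar.iso_psl_two_seven
    (G := Matrix.ProjectiveSpecialLinearGroup (Fin 3) K) (by omega) hF
  exact ⟨e.symm⟩

end CfsgLib.Linear.Small
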