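import Cfsg.Agent.Classical.PSLTwo
import Cfsg.Agent.Classical.SmallPSL
import Cfsg.Agent.Char.Burnside

/-!
Proper subgroups of `PSL₂(q)`: orders, solvability, dihedral subgroups of torus normalisers.
-/

set_option autoImplicit false
set_option linter.unusedSectionVars false
set_option linter.style.haveILetI false

namespace CfsgLib.Linear.PSLTwo

open Matrix OnePoint
open CfsgLib.Dickson

section Basic

variable {F : Type*} [Field F] [Finite F]

theorem four_le_of_ne (h2 : Nat.card F ≠ 2) (h3 : Nat.card F ≠ 3) : 4 ≤ Nat.card F := by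
  have := Finite.one_lt_card (α := F)
  omega

theorem isSimple (h : 4 ≤ Nat.card F) : IsSimpleGroup (PSL2 F) := by
  cases nonempty_fintype F
  exact CfsgLib.Linear.isSimpleGroup_PSL
    (Or.inr (CfsgLib.Linear.Small.exists_sq_ne_one (by rwa [← Nat.card_eq_fintype_card])))

theorem not_prime_card (h : 4 ≤ Nat.card F) : ¬ (Nat.card (PSL2 F)).Prime := by
  rw [card_eq]
  refine Nat.not_prime_mul (by omega) ?_
  intro e
  have := Nat.eq_one_of_mul_eq_one_right e
  omega

theorem card_pos' : 0 < Nat.card (PSL2 F) := Nat.card_pos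

theorem not_solvable (h : 4 ≤ Nat.card F) : ¬ Group.IsSolvable (PSL2 F) := by
  intro hs
  have := isSimple h
  have hc : ∀ a b : PSL2 F, a * b = b * a := IsSimpleGroup.comm_iff_isSolvable.2 hs
  let _ : CommGroup (PSL2 F) := { (inferInstance : Group (PSL2 F)) with mul_comm := hc }
  haveI : Finite (PSL2 F) := inferInstance
  exact not_prime_card h IsSimpleGroup.prime_card

theorem solvable_small (q : ℕ) (hq : Nat.card F = q) (h : q ≤ 3) : Group.IsSolvable (PSL2 F) := by
  have h1 := Finite.one_lt_card (α := F)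
  have hc := card_eq (F := F)
  rw [hq] at h1 hc
  interval_cases q
  · refine CfsgLib.Char.isSolvable_of_card_eq 2 3 1 1 Nat.prime_two Nat.prime_three ?_
    rw [hc]; norm_num
  · refine CfsgLib.Char.isSolvable_of_card_eq 2 3 2 1 Nat.prime_two Nat.prime_three ?_
    rw [hc]; norm_num

theorem card_gf (p f : ℕ) [Fact p.Prime] (hf : 1 ≤ f) : Nat.card (GaloisField p f) = p ^ f :=
  GaloisField.card p f (by omega)

/-- `2 · |PSL₂(K)| = |PGL₂(K)|` in odd characteristic. -/
theorem two_mul_card_psl (K : Type*) [Field K] [Finite K] (h : Odd (Nat.card K)) :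
    2 * Nat.card (PSL2 K) = Nat.card K * (Nat.card K ^ 2 - 1) := by
  have e := mul_card (F := K)
  rwa [gcd_eq_two h] at e

/-- The proper subgroups, with the orders of the subfield groups made explicit. -/
theorem proper_cases (p : ℕ) [Fact p.Prime] [CharP F p] (H : Subgroup (PSL2 F)) (hH : H ≠ ⊤) :
    (∃ P : Sylow p (PSL2 F), p ∣ Nat.card H ∧
      H ≤ Subgroup.normalizer ((P : Subgroup (PSL2 F)) : Set (PSL2 F))) ∨
    (IsCyclic H ∧ ¬ p ∣ Nat.card H ∧
      (Nat.card H ∣ (Nat.card F - 1) / Nat.gcd 2 (Nat.card F - 1) ∨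
        Nat.card H ∣ (Nat.card F + 1) / Nat.gcd 2 (Nat.card F - 1))) ∨
    (∃ n, 2 ≤ n ∧ ¬ p ∣ n ∧ (n ∣ (Nat.card F - 1) / Nat.gcd 2 (Nat.card F - 1) ∨
        n ∣ (Nat.card F + 1) / Nat.gcd 2 (Nat.card F - 1)) ∧
      Nat.card H = 2 * n ∧ Nonempty (H ≃* DihedralGroup n)) ∨
    (5 ≤ p ∧ Nat.card H = 12 ∧ Nonempty (H ≃* alternatingGroup (Fin 4))) ∨
    (5 ≤ p ∧ Nat.card H = 24 ∧ Nonempty (H ≃* Equiv.Perm (Fin 4))) ∨
    (p ≠ 2 ∧ p ≠ 5 ∧ Nat.card H = 60 ∧ Nonempty (H ≃* alternatingGroup (Fin 5))) ∨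
    (∃ f m, 1 ≤ f ∧ 2 ≤ m ∧ Nat.card F = (p ^ f) ^ m ∧
      ((Nat.card H = p ^ f * ((p ^ f) ^ 2 - 1) ∧ Nonempty (H ≃* PGL2 (GaloisField p f))) ∨
        (p ≠ 2 ∧ 2 * Nat.card H = p ^ f * ((p ^ f) ^ 2 - 1) ∧
          Nonempty (H ≃* PSL2 (GaloisField p f))))) := by
  rcases psl_classification p H with h | h | h | h | h | h | ⟨f, m, hf, hm, hq, h⟩
  · exact Or.inl h
  · exact Or.inr (Or.inl h)
  · exact Or.inr (Or.inr (Or.inl h))
  · exact Or.inr (Or.inr (Or.inr (Or.inl h)))
  · exact Or.inr (Or.inr (Or.inr (Or.inr (Or.inl h))))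
  · exact Or.inr (Or.inr (Or.inr (Or.inr (Or.inr (Or.inl h)))))
  refine Or.inr (Or.inr (Or.inr (Or.inr (Or.inr (Or.inr ?_)))))
  have : Finite (GaloisField p f) := inferInstance
  have hgf := card_gf p f hf
  have hd := mul_card (F := F)
  rcases h with ⟨⟨e⟩⟩ | ⟨hp2, ⟨e⟩⟩
  · have hc := Nat.card_congr e.toEquiv
    rw [card_pgl, hgf] at hc
    refine ⟨f, m, hf, ?_, hq, Or.inl ⟨hc, ⟨e⟩⟩⟩
    by_contra hm2
    obtain rfl : m = 1 := by omega
    rw [pow_one] at hq
    rw [hq, ← hc] at hd
    apply hH (Subgroup.eq_top_of_le_card H ?_)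
    rw [← hd]
    exact Nat.le_mul_of_pos_left _ (Nat.gcd_pos_of_pos_left _ two_pos)
  · have hodd : Odd (Nat.card (GaloisField p f)) := by
      rw [hgf]
      exact Odd.pow ((Fact.out : p.Prime).odd_of_ne_two hp2)
    have hc : 2 * Nat.card H = p ^ f * ((p ^ f) ^ 2 - 1) := by
      rw [Nat.card_congr e.toEquiv, two_mul_card_psl _ hodd, hgf]
    refine ⟨f, m, hf, ?_, hq, Or.inr ⟨hp2, hc, ⟨e⟩⟩⟩
    by_contra hm2
    obtain rfl : m = 1 := by omega
    rw [pow_one] at hq
    rw [gcd_eq_two (by rwa [hq, ← hgf]), hq, ← hc] at hd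
    exact hH (Subgroup.eq_top_of_le_card H (by omega))

/-- A proper subgroup has index at least `q + 1`, apart from the known exceptions. -/
theorem index_ge (hq : Nat.card F ∉ ({2, 3, 5, 7, 9, 11} : Finset ℕ)) (H : Subgroup (PSL2 F))
    (hH : H ≠ ⊤) : Nat.card F + 1 ≤ H.index := by
  classical
  obtain ⟨p, hp⟩ := CharP.exists F
  cases nonempty_fintype F
  obtain ⟨n, hpp, hn⟩ := FiniteField.card F p
  have := Fact.mk hpp
  rw [← Nat.card_eq_fintype_card] at hn
  simp only [Finset.mem_insert, Finset.mem_singleton, not_or] at hq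
  set q := Nat.card F with hqdef
  set d := Nat.gcd 2 (q - 1) with hd
  have hd2 : d = 1 ∨ d = 2 := gcd_cases
  have hdp : 0 < d := by omega
  have h4 : 4 ≤ q := four_le_of_ne hq.1 hq.2.1
  have hodd : p ≠ 2 → Odd q := fun h => by rw [hn]; exact Odd.pow (hpp.odd_of_ne_two h)
  have hqq : 4 * q ≤ q * q := Nat.mul_le_mul_right q h4
  have e1 : q * (q - 1) = q * q - q := Nat.mul_sub_one q q
  suffices key : d * Nat.card H ≤ q * (q - 1) by
    have h := H.card_mul_index
    by_contra hlt
    have h1 : d * Nat.card H * H.index ≤ q * (q - 1) * q := Nat.mul_le_mul key (by omega)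
    rw [mul_assoc, h, mul_card, sq_sub_one] at h1
    nlinarith [h1, Nat.mul_le_mul_left (q * (q - 1)) (show q + 1 ≤ q + 1 from le_rfl),
      Nat.mul_pos (show 0 < q by omega) (show 0 < q - 1 by omega)]
  rcases proper_cases p H hH with ⟨P, -, hle⟩ | ⟨-, -, hc⟩ | ⟨k, -, -, hk, hc, -⟩ | ⟨h5, hc, -⟩ |
    ⟨h5, hc, -⟩ | ⟨h2, -, hc, -⟩ | ⟨f, m, hf, hm, hq', hc⟩
  · have h := Subgroup.card_le_of_le hle
    rw [card_normalizer, ← hqdef, ← hd] at h
    refine (Nat.mul_le_mul_left d h).trans ?_
    rw [mul_left_comm, Nat.mul_div_cancel' (d_dvd_pred (F := F))]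
  · have : d * Nat.card H ≤ q + 1 := by
      rcases hc with h | h
      · have := (Nat.mul_dvd_mul_left d h).trans (Nat.mul_div_cancel' (d_dvd_pred (F := F))).dvd
        have := Nat.le_of_dvd (by omega) this
        omega
      · have := (Nat.mul_dvd_mul_left d h).trans (Nat.mul_div_cancel' (d_dvd_succ (F := F))).dvd
        exact Nat.le_of_dvd (by omega) this
    omega
  · have : d * k ≤ q + 1 := by
      rcases hk with h | h
      · have := (Nat.mul_dvd_mul_left d h).trans (Nat.mul_div_cancel' (d_dvd_pred (F := F))).dvd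
        have := Nat.le_of_dvd (by omega) this
        omega
      · have := (Nat.mul_dvd_mul_left d h).trans (Nat.mul_div_cancel' (d_dvd_succ (F := F))).dvd
        exact Nat.le_of_dvd (by omega) this
    rw [hc, mul_left_comm]
    omega
  · obtain ⟨j, hj⟩ := hodd (by omega)
    have h13 : 13 ≤ q := by omega
    have := Nat.mul_le_mul_right q h13
    have : d * Nat.card H ≤ 2 * 12 := Nat.mul_le_mul (by omega) hc.le
    omega
  · obtain ⟨j, hj⟩ := hodd (by omega)
    have h13 : 13 ≤ q := by omega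
    have := Nat.mul_le_mul_right q h13
    have : d * Nat.card H ≤ 2 * 24 := Nat.mul_le_mul (by omega) hc.le
    omega
  · obtain ⟨j, hj⟩ := hodd h2
    have h13 : 13 ≤ q := by omega
    have := Nat.mul_le_mul_right q h13
    have : d * Nat.card H ≤ 2 * 60 := Nat.mul_le_mul (by omega) hc.le
    omega
  · set a := p ^ f with ha
    have ha2 : 2 ≤ a := le_trans hpp.two_le (Nat.le_self_pow (by omega) p)
    have hqa : a ^ 2 ≤ q := by
      rw [hqdef, hq']
      exact Nat.pow_le_pow_right (by omega) hm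
    have h1 : 2 * Nat.card H ≤ 2 * (a * (a ^ 2 - 1)) := by
      rcases hc with ⟨h, -⟩ | ⟨-, h, -⟩ <;> omega
    have h2 : a * (a * (a ^ 2 - 1)) ≤ q * (q - 1) := by
      rw [← mul_assoc, ← pow_two]
      exact Nat.mul_le_mul hqa (Nat.sub_le_sub_right hqa 1)
    calc d * Nat.card H ≤ 2 * Nat.card H := Nat.mul_le_mul_right _ (by omega)
      _ ≤ 2 * (a * (a ^ 2 - 1)) := h1
      _ ≤ a * (a * (a ^ 2 - 1)) := Nat.mul_le_mul_right _ ha2
      _ ≤ _ := h2

end Basic

/-! ### Solvability -/

section Solvable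

theorem dihedral_solvable (n : ℕ) : Group.IsSolvable (DihedralGroup n) := by
  let f : Multiplicative (ZMod n) →* DihedralGroup n :=
    { toFun := fun i => .r i.toAdd
      map_one' := rfl
      map_mul' := fun i j => by rw [DihedralGroup.r_mul_r]; rfl }
  let g : DihedralGroup n →* Multiplicative (ZMod 2) :=
    { toFun := fun
        | .r _ => 1
        | .sr _ => Multiplicative.ofAdd 1
      map_one' := rfl
      map_mul' := by rintro (i | i) (j | j) <;> first
        | rfl
        | exact (by decide : (1 : Multiplicative (ZMod 2)) =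
            Multiplicative.ofAdd 1 * Multiplicative.ofAdd 1) }
  refine Group.isSolvable_of_ker_le_range f g ?_
  rintro (i | i) hi
  · exact ⟨Multiplicative.ofAdd i, rfl⟩
  · rw [MonoidHom.mem_ker] at hi
    exact absurd (show Multiplicative.ofAdd (1 : ZMod 2) = 1 from hi) (by decide)

variable {F : Type*} [Field F] [DecidableEq F]

/-- The multiplier of an affine map. -/
theorem stabilizer_solvable (w : OnePoint F) (H : Subgroup (PSL2 F))
    (hH : ∀ g ∈ H, Matrix.ProjectiveSpecialLinearGroup.toPGL g • w = w) : Group.IsSolvable H := by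
  obtain ⟨k, hk⟩ := exists_smul_eq_infty w
  have hfix : ∀ a : H,
      (k * Matrix.ProjectiveSpecialLinearGroup.toPGL (a : PSL2 F) * k⁻¹) • (∞ : OnePoint F) = ∞ :=
    fun a => by rw [← hk, mul_smul, mul_smul, inv_smul_smul, hH _ a.2]
  choose u c huc using fun a => eq_aff_of_fix_infty (hfix a)
  let μ : H →* Fˣ := MonoidHom.mk' u (fun a b => by
    have h : k * Matrix.ProjectiveSpecialLinearGroup.toPGL ((a * b : H) : PSL2 F) * k⁻¹ =
        (k * Matrix.ProjectiveSpecialLinearGroup.toPGL (a : PSL2 F) * k⁻¹) *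
          (k * Matrix.ProjectiveSpecialLinearGroup.toPGL (b : PSL2 F) * k⁻¹) := by
      rw [Subgroup.coe_mul, map_mul]; group
    rw [huc, huc, huc, aff_mul] at h
    exact (aff_inj h).1)
  have hker : ∀ a b : μ.ker, a * b = b * a := by
    rintro ⟨a, ha⟩ ⟨b, hb⟩
    have hua : u a = 1 := ha
    have hub : u b = 1 := hb
    apply Subtype.ext
    show a * b = b * a
    apply Subtype.ext
    apply Matrix.ProjectiveSpecialLinearGroup.toPGL_injective
    simp only [Subgroup.coe_mul, map_mul]
    have e : (k * Matrix.ProjectiveSpecialLinearGroup.toPGL (a : PSL2 F) * k⁻¹) *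
          (k * Matrix.ProjectiveSpecialLinearGroup.toPGL (b : PSL2 F) * k⁻¹) =
        (k * Matrix.ProjectiveSpecialLinearGroup.toPGL (b : PSL2 F) * k⁻¹) *
          (k * Matrix.ProjectiveSpecialLinearGroup.toPGL (a : PSL2 F) * k⁻¹) := by
      rw [huc, huc, hua, hub, aff_mul, aff_mul]
      simp [add_comm]
    exact (MulAut.conj k).injective (by simpa only [MulAut.conj_apply, map_mul] using e)
  have hks : Group.IsSolvable μ.ker := Group.isSolvable_of_comm hker
  exact Group.isSolvable_of_ker_le_range μ.ker.subtype μ (le_of_eq (Subgroup.range_subtype _).symm)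

variable [Finite F] (p : ℕ) [Fact p.Prime] [CharP F p]

/-- All proper subgroups are solvable unless there is an `A₅` or a large subfield. -/
theorem solvable_of_proper (h5 : ¬ (p ≠ 2 ∧ p ≠ 5 ∧ 5 ∣ Nat.card F * (Nat.card F ^ 2 - 1)))
    (hsub : ∀ f m, 1 ≤ f → 2 ≤ m → Nat.card F = (p ^ f) ^ m → p ^ f ≤ 3)
    (H : Subgroup (PSL2 F)) (hH : H ≠ ⊤) : Group.IsSolvable H := by
  rcases proper_cases p H hH with ⟨P, -, hle⟩ | ⟨hc, -, -⟩ | ⟨k, -, -, -, -, ⟨e⟩⟩ | ⟨-, hc, -⟩ |
    ⟨-, hc, -⟩ | ⟨h2, h5', hc, -⟩ | ⟨f, m, hf, hm, hq', hc⟩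
  · obtain ⟨w, hw⟩ := normalizer_eq_stabilizer p P
    exact stabilizer_solvable w H fun g hg => by
      have := hle hg
      rw [hw] at this
      exact this
  · have := hc
    exact Group.isSolvable_of_comm fun a b => mul_comm' a b
  · have := dihedral_solvable k
    exact Group.isSolvable_of_isSolvable_injective (f := e.toMonoidHom) e.injective
  · exact CfsgLib.Char.isSolvable_of_card_eq 2 3 2 1 Nat.prime_two Nat.prime_three (by rw [hc]; rfl)
  · exact CfsgLib.Char.isSolvable_of_card_eq 2 3 3 1 Nat.prime_two Nat.prime_three (by rw [hc]; rfl)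
  · exfalso
    refine h5 ⟨h2, h5', ?_⟩
    rw [← mul_card]
    refine Dvd.dvd.mul_left ?_ _
    exact ((by rw [hc]; norm_num : 5 ∣ Nat.card H)).trans H.card_subgroup_dvd_card
  · have hle := hsub f m hf hm hq'
    have h2 : 2 ≤ p ^ f := le_trans (Fact.out : p.Prime).two_le (Nat.le_self_pow (by omega) p)
    rcases hc with ⟨hc, -⟩ | ⟨hp, hc, -⟩
    · interval_cases h : p ^ f
      · exact CfsgLib.Char.isSolvable_of_card_eq 2 3 1 1 Nat.prime_two Nat.prime_three (by omega)
      · exact CfsgLib.Char.isSolvable_of_card_eq 2 3 3 1 Nat.prime_two Nat.prime_three (by omega)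
    · interval_cases h : p ^ f
      · exfalso
        exact hp ((Nat.prime_dvd_prime_iff_eq Fact.out Nat.prime_two).1
          (h ▸ dvd_pow_self p (by omega)))
      · exact CfsgLib.Char.isSolvable_of_card_eq 2 3 2 1 Nat.prime_two Nat.prime_three (by omega)

end Solvable

/-! ### Element orders in `PGL₂` and inverting elements -/

section Elements

variable {F : Type*} [Field F]

theorem orderOf_pgl_le [DecidableEq F] [Finite F] (g : PGL2 F) :
    orderOf g ≤ Nat.card F + 1 := by
  by_cases h : ∀ z : OnePoint F, (g ^ 2) • z = z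
  · have h2 : g ^ 2 = 1 := eq_one_of_fix3 (h _) (h _) (h _)
    have := Nat.le_of_dvd two_pos (orderOf_dvd_of_pow_eq_one h2)
    have := Finite.one_lt_card (α := F)
    omega
  · push Not at h
    obtain ⟨z, hz⟩ := h
    set N := orderOf g
    have hinj : Function.Injective fun i : Fin N => g ^ (i : ℕ) • z := by
      intro i j hij
      have key : ∀ a b : ℕ, a ≤ b → b < N → g ^ a • z = g ^ b • z → a = b := by
        intro a b hab hb e
        obtain ⟨c, rfl⟩ := Nat.exists_eq_add_of_le hab
        rw [pow_add, mul_smul] at e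
        have e0 : g ^ c • z = z := (MulAction.injective (g ^ a) e).symm
        have hstep : ∀ i : ℕ, g ^ c • (g ^ i • z) = g ^ i • z := fun i => by
          rw [← mul_smul, ← pow_add, add_comm, pow_add, mul_smul, e0]
        have hc : g ^ c = 1 := by
          refine eq_one_of_fix_three (x := z) (y := g ^ 1 • z) (z := g ^ 2 • z) ?_ ?_ ?_ e0
            (hstep 1) (hstep 2)
          · intro e1
            apply hz
            rw [pow_one] at e1
            rw [pow_two, mul_smul, ← e1, ← e1]
          · exact Ne.symm hz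
          · intro e1
            apply hz
            rw [pow_one, pow_two, mul_smul] at e1
            have e2 := MulAction.injective g e1
            rw [pow_two, mul_smul, ← e2, ← e2]
        have : c < N := by omega
        rcases Nat.eq_zero_or_pos c with rfl | hcpos
        · omega
        · exact absurd (orderOf_le_of_pow_eq_one hcpos hc) (by omega)
      apply Fin.ext
      rcases le_total (i : ℕ) j with h | h
      · exact key _ _ h j.2 hij
      · exact (key _ _ h i.2 hij.symm).symm
    have : Finite (OnePoint F) := inferInstanceAs (Finite (Option F))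
    have := Nat.card_le_card_of_injective _ hinj
    rw [Nat.card_eq_fintype_card, Fintype.card_fin, show Nat.card (OnePoint F) = Nat.card (Option F)
      from rfl, Finite.card_option] at this
    exact this

theorem orderOf_dvd_of_trace_sq [Finite F] (p : ℕ) [Fact p.Prime] [CharP F p]
    (A : Matrix.SpecialLinearGroup (Fin 2) F)
    (h : (A : Matrix (Fin 2) (Fin 2) F).trace ^ 2 = 4) :
    orderOf (QuotientGroup.mk A : PSL2 F) ∣ p := by
  set t := (A : Matrix (Fin 2) (Fin 2) F).trace with ht
  have hsq : (A : Matrix (Fin 2) (Fin 2) F) * (A : Matrix (Fin 2) (Fin 2) F) =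
      t • (A : Matrix (Fin 2) (Fin 2) F) - 1 := by
    have hA := A.2
    rw [Matrix.det_fin_two] at hA
    ext i j
    fin_cases i <;> fin_cases j <;>
      simp [ht, Matrix.mul_apply, Fin.sum_univ_two, Matrix.trace_fin_two] <;>
      first | linear_combination -hA | ring
  apply orderOf_dvd_of_pow_eq_one
  rw [← QuotientGroup.mk_pow, CfsgLib.PSL2Spec.mk_eq_one_iff, Matrix.SpecialLinearGroup.coe_pow]
  by_cases h2 : (2 : F) = 0
  · have ht0 : t = 0 :=
      pow_eq_zero_iff two_ne_zero |>.1 (show t ^ 2 = 0 by linear_combination h + 2 * h2)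
    have hp : p = 2 := (Nat.prime_dvd_prime_iff_eq Fact.out Nat.prime_two).1
      ((CharP.cast_eq_zero_iff F p 2).1 (by exact_mod_cast h2))
    subst hp
    exact ⟨-1, by rw [pow_two, hsq, ht0]; simp⟩
  · set s := t / 2
    have hts : t = 2 * s := (mul_div_cancel₀ t h2).symm
    have hs : s ^ 2 = 1 := by
      have h4 : (4 : F) ≠ 0 := by
        rw [show (4 : F) = 2 * 2 by norm_num]; exact mul_ne_zero h2 h2
      apply mul_left_cancel₀ h4
      rw [hts] at h
      linear_combination h
    set N : Matrix (Fin 2) (Fin 2) F := (A : Matrix (Fin 2) (Fin 2) F) - s • 1 with hN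
    have hNN : N * N = 0 := by
      rw [hN]
      simp only [sub_mul, mul_sub, smul_mul_assoc, mul_smul_comm, one_mul, mul_one, hsq, hts]
      match_scalars
      · ring
      · linear_combination hs
    refine ⟨s ^ p, ?_⟩
    have hp2 := (Fact.out : p.Prime).two_le
    rw [show (A : Matrix (Fin 2) (Fin 2) F) = s • 1 + N by rw [hN]; abel,
      add_pow_char_of_commute (p := p) ((Commute.one_left N).smul_left s), smul_pow, one_pow,
      pow_eq_zero_of_le hp2 (show N ^ 2 = 0 by rw [pow_two, hNN]), add_zero]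

end Elements

end CfsgLib.Linear.PSLTwo
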