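import Cfsg.Agent.Dickson.Transfer
import Cfsg.Agent.SL2C.Basic
import Cfsg.Agent.Classical.LinearOrder

/-!
The order of `PSL₂(q)` and the point stabilisers of its action on the projective line.
-/

set_option autoImplicit false
set_option linter.unusedSectionVars false
set_option linter.style.haveILetI false

namespace CfsgLib.Linear.PSLTwo

open Matrix OnePoint
open CfsgLib.Dickson

variable {F : Type*} [Field F]

theorem d_dvd_pred [Finite F] : Nat.gcd 2 (Nat.card F - 1) ∣ Nat.card F - 1 :=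
  Nat.gcd_dvd_right _ _

theorem d_dvd_succ [Finite F] : Nat.gcd 2 (Nat.card F - 1) ∣ Nat.card F + 1 := by
  have h := Finite.one_lt_card (α := F)
  rw [show Nat.card F + 1 = (Nat.card F - 1) + 2 by omega]
  exact dvd_add (Nat.gcd_dvd_right _ _) (Nat.gcd_dvd_left _ _)

theorem gcd_cases [Finite F] :
    Nat.gcd 2 (Nat.card F - 1) = 1 ∨ Nat.gcd 2 (Nat.card F - 1) = 2 :=
  (Nat.dvd_prime Nat.prime_two).1 (Nat.gcd_dvd_left _ _)

theorem gcd_eq_two [Finite F] (h : Odd (Nat.card F)) : Nat.gcd 2 (Nat.card F - 1) = 2 :=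
  Nat.gcd_eq_left (by obtain ⟨k, hk⟩ := h; omega)

theorem gcd_eq_one [Finite F] (h : Even (Nat.card F)) : Nat.gcd 2 (Nat.card F - 1) = 1 := by
  rcases gcd_cases (F := F) with e | e
  · exact e
  · exfalso
    have := Nat.gcd_dvd_right 2 (Nat.card F - 1)
    rw [e] at this
    obtain ⟨k, hk⟩ := h
    have := Finite.one_lt_card (α := F)
    omega

/-- `d · |PSL₂(q)| = q (q² - 1)`. -/
theorem mul_card [Finite F] :
    Nat.gcd 2 (Nat.card F - 1) * Nat.card (PSL2 F) = Nat.card F * (Nat.card F ^ 2 - 1) := by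
  cases nonempty_fintype F
  rw [Nat.card_eq_fintype_card (α := F), ← CfsgLib.SL2C.card_SL2_mul,
    Subgroup.card_eq_card_quotient_mul_card_subgroup
      (Subgroup.center (Matrix.SpecialLinearGroup (Fin 2) F)),
    CfsgLib.Linear.card_center_SL, Fintype.card_fin, Nat.card_eq_fintype_card (α := F), mul_comm]

theorem sq_sub_one (q : ℕ) : q ^ 2 - 1 = (q - 1) * (q + 1) := by
  rw [mul_comm, ← Nat.sq_sub_sq q 1, one_pow]

/-- `|PSL₂(q)| = (q + 1) · q · ((q - 1) / d)`. -/
theorem card_eq [Finite F] :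
    Nat.card (PSL2 F) =
      (Nat.card F + 1) * (Nat.card F * ((Nat.card F - 1) / Nat.gcd 2 (Nat.card F - 1))) := by
  have h := mul_card (F := F)
  obtain ⟨r, hr⟩ := d_dvd_pred (F := F)
  have hd : 0 < Nat.gcd 2 (Nat.card F - 1) := Nat.gcd_pos_of_pos_left _ two_pos
  apply Nat.eq_of_mul_eq_mul_left hd
  rw [h, sq_sub_one]
  generalize Nat.gcd 2 (Nat.card F - 1) = d at hd hr ⊢
  rw [hr, Nat.mul_div_cancel_left _ hd]
  ring

theorem card_pgl [Finite F] :
    Nat.card (PGL2 F) = Nat.card F * (Nat.card F ^ 2 - 1) := by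
  cases nonempty_fintype F
  rw [CfsgLib.Linear.card_PGL, Nat.card_eq_fintype_card (α := F)]
  exact CfsgLib.SL2C.card_SL2_mul

section Action

variable [DecidableEq F]

theorem pslHom_id (x : PSL2 F) :
    pslHom (RingHom.id F) x = Matrix.ProjectiveSpecialLinearGroup.toPGL x := by
  obtain ⟨A, rfl⟩ := QuotientGroup.mk_surjective x
  rw [pslHom_mk]
  rfl

/-- The action of `PSL₂` on the projective line. -/
@[reducible] noncomputable def lineAction : MulAction (PSL2 F) (OnePoint F) :=
  MulAction.compHom (OnePoint F) Matrix.ProjectiveSpecialLinearGroup.toPGL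

theorem exists_to (w : OnePoint F) :
    ∃ g : PSL2 F, Matrix.ProjectiveSpecialLinearGroup.toPGL g • (∞ : OnePoint F) = w := by
  rcases w with _ | t
  · exact ⟨1, by rw [map_one, one_smul]; rfl⟩
  · refine ⟨QuotientGroup.mk (CfsgLib.SL2Pair.up (t - 1)) *
      QuotientGroup.mk (CfsgLib.SL2Pair.low (1 : F)), ?_⟩
    rw [map_mul, mul_smul, ← pslHom_id, ← pslHom_id, pslHom_low_smul_infty, pslHom_up,
      aff_smul_coe]
    simp
    rfl

variable [Finite F] (p : ℕ) [Fact p.Prime] [CharP F p]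

theorem index_stabilizer (w : OnePoint F) :
    (letI := lineAction (F := F); MulAction.stabilizer (PSL2 F) w).index = Nat.card F + 1 := by
  letI := lineAction (F := F)
  have : MulAction.IsPretransitive (PSL2 F) (OnePoint F) := ⟨fun x y => by
    obtain ⟨g, hg⟩ := exists_to x
    obtain ⟨h, hh⟩ := exists_to y
    refine ⟨h * g⁻¹, ?_⟩
    show Matrix.ProjectiveSpecialLinearGroup.toPGL (h * g⁻¹) • x = y
    rw [map_mul, mul_smul, ← hg, map_inv, inv_smul_smul, hh]⟩
  rw [MulAction.index_stabilizer_of_transitive]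
  show Nat.card (Option F) = _
  rw [Finite.card_option]

theorem dvd_card : p ∣ Nat.card (PSL2 F) := by
  cases nonempty_fintype F
  obtain ⟨n, -, hn⟩ := FiniteField.card F p
  rw [card_eq]
  refine Dvd.dvd.mul_left (Dvd.dvd.mul_right ?_ _) _
  rw [Nat.card_eq_fintype_card, hn]
  exact dvd_pow_self _ n.pos.ne'

theorem normalizer_eq_stabilizer (P : Sylow p (PSL2 F)) :
    ∃ w : OnePoint F, Subgroup.normalizer ((P : Subgroup (PSL2 F)) : Set (PSL2 F)) =
      (letI := lineAction (F := F); MulAction.stabilizer (PSL2 F) w) := by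
  obtain ⟨w, hw⟩ := exists_fix_of_isPGroup p
    ((P : Subgroup (PSL2 F)).map Matrix.ProjectiveSpecialLinearGroup.toPGL) (P.isPGroup'.map _)
  have hw' : ∀ g ∈ (P : Subgroup (PSL2 F)),
      Matrix.ProjectiveSpecialLinearGroup.toPGL g • w = w := fun g hg => hw _ ⟨g, hg, rfl⟩
  refine ⟨w, le_antisymm (fun g hg => ?_) fun g hg => le_normalizer_sylow p P hw' hg⟩
  -- `P` has only one fixed point
  obtain ⟨v, hvo⟩ := exists_prime_orderOf_dvd_card' (G := (P : Subgroup (PSL2 F))) p
    (P.dvd_card_of_dvd_card (dvd_card p))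
  obtain ⟨h, hh⟩ := exists_smul_eq_infty w
  set τ := h * Matrix.ProjectiveSpecialLinearGroup.toPGL (v : PSL2 F) * h⁻¹ with hτ
  have hfix : τ • (∞ : OnePoint F) = ∞ := by
    rw [hτ, ← hh, mul_smul, mul_smul, inv_smul_smul, hw' _ v.2]
  have hvp : v ^ p = 1 := orderOf_dvd_iff_pow_eq_one.1 hvo.dvd
  obtain ⟨a, ha⟩ := pElement_eq_transl p hfix (k := 1) (by
    rw [pow_one, hτ, conj_pow, ← map_pow, ← SubgroupClass.coe_pow, hvp,
      OneMemClass.coe_one, map_one, mul_one, mul_inv_cancel])
  have ha0 : a ≠ 0 := by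
    intro h0
    have h1 : Matrix.ProjectiveSpecialLinearGroup.toPGL (v : PSL2 F) = 1 := by
      simpa [h0, aff_one_zero, hτ, conj_eq_one_iff] using ha
    have h2 : v = 1 := Subtype.ext
      (Matrix.ProjectiveSpecialLinearGroup.toPGL_injective (h1.trans (map_one _).symm))
    exact (Fact.out : p.Prime).one_lt.ne (by rw [← hvo, h2, orderOf_one])
  have huniq : ∀ x, Matrix.ProjectiveSpecialLinearGroup.toPGL (v : PSL2 F) • x = x → x = w := by
    intro x hx
    have : h • x ∈ fix τ := by
      show τ • _ = _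
      rw [hτ, mul_smul, mul_smul, inv_smul_smul, hx]
    rw [ha, fix_aff_one ha0, Set.mem_singleton_iff, ← hh] at this
    exact smul_left_cancel h this
  show Matrix.ProjectiveSpecialLinearGroup.toPGL g • w = w
  refine huniq _ ?_
  have hv' := (Subgroup.mem_normalizer_iff.1 (inv_mem hg) v.1).1 v.2
  rw [inv_inv] at hv'
  have e := hw' _ hv'
  rw [map_mul, map_mul, mul_smul, mul_smul, map_inv, inv_smul_eq_iff] at e
  exact e

/-- The Sylow normaliser in defining characteristic has index `q + 1`. -/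
theorem index_normalizer (P : Sylow p (PSL2 F)) :
    (Subgroup.normalizer ((P : Subgroup (PSL2 F)) : Set (PSL2 F))).index = Nat.card F + 1 := by
  obtain ⟨w, hw⟩ := normalizer_eq_stabilizer p P
  rw [hw]
  exact index_stabilizer w

/-- The Sylow normaliser in defining characteristic has order `q (q - 1) / d`. -/
theorem card_normalizer (P : Sylow p (PSL2 F)) :
    Nat.card (Subgroup.normalizer ((P : Subgroup (PSL2 F)) : Set (PSL2 F))) =
      Nat.card F * ((Nat.card F - 1) / Nat.gcd 2 (Nat.card F - 1)) := by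
  have h := (Subgroup.normalizer ((P : Subgroup (PSL2 F)) : Set (PSL2 F))).card_mul_index
  rw [index_normalizer, card_eq, mul_comm] at h
  exact Nat.eq_of_mul_eq_mul_left (by omega) h

end Action

end CfsgLib.Linear.PSLTwo
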