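import Cfsg.Agent.Classical.SylowTwoGLTwo
import Cfsg.Agent.Classical.Transvections
import Cfsg.Agent.Classical.LinearOrder
import Cfsg.Agent.Unitary.Simple

/-!
Sylow 2-subgroups of PSL3 and PSU3 in odd characteristic, through GL2 and GU2.
-/

set_option autoImplicit false
set_option linter.style.haveILetI false

namespace CfsgLib.Linear.TwoSylow

open Matrix

/-- A Sylow 2-subgroup passes through a homomorphism with kernel killed by an odd number
into a group of the same two-part. -/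
theorem sylow_equiv_of_hom {H G : Type*} [Group H] [Finite H] [Group G] [Finite G] (f : H →* G) {N : ℕ}
    (hN : Odd N) (hker : ∀ g, f g = 1 → g ^ N = 1) {a b : ℕ} (ha : Odd a) (hb : Odd b)
    (hcard : a * Nat.card G = b * Nat.card H) (P : Sylow 2 H) (S : Sylow 2 G) :
    Nonempty ((P : Subgroup H) ≃* (S : Subgroup G)) := by
  haveI : Fact (Nat.Prime 2) := ⟨Nat.prime_two⟩
  have hfac : (Nat.card G).factorization 2 = (Nat.card H).factorization 2 := by
    have h := congrArg (fun m : ℕ => m.factorization 2) hcard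
    simp only [Nat.factorization_mul ha.pos.ne' Nat.card_pos.ne', Nat.factorization_mul hb.pos.ne' Nat.card_pos.ne',
      Finsupp.add_apply, fact_two_of_odd ha, fact_two_of_odd hb, zero_add] at h
    exact h
  have hinj : Function.Injective (f.comp (P : Subgroup H).subtype) := by
    rw [injective_iff_map_eq_one]
    intro g hg
    obtain ⟨k, hk⟩ := P.2 g
    have h1 : orderOf g ∣ N := orderOf_dvd_of_pow_eq_one (Subtype.ext (hker _ hg))
    exact orderOf_eq_one_iff.1 (Nat.eq_one_of_dvd_coprimes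
      ((Nat.Coprime.pow_left k hN.coprime_two_left)) (orderOf_dvd_of_pow_eq_one hk) h1)
  let e := MonoidHom.ofInjective hinj
  obtain ⟨T, hT⟩ := (IsPGroup.of_equiv P.2 e).exists_le_sylow
  have heq : (f.comp (P : Subgroup H).subtype).range = (T : Subgroup G) := Subgroup.eq_of_le_of_card_ge hT (by
    rw [← Nat.card_congr e.toEquiv, Sylow.card_eq_multiplicity, Sylow.card_eq_multiplicity, hfac])
  exact ⟨(e.trans (MulEquiv.subgroupCongr heq)).trans (T.equiv S)⟩

theorem isQuasiDihedral_or_isWreathed_congr {A B : Type*} [Group A] [Group B] (e : A ≃* B)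
    (h : Cfsg.IsQuasiDihedral A ∨ Cfsg.IsWreathed A) : Cfsg.IsQuasiDihedral B ∨ Cfsg.IsWreathed B := by
  refine h.imp (fun h => ?_) fun h => ?_
  · obtain ⟨n, hn, hc, x, y, hx, hy, hxy⟩ := h
    exact ⟨n, hn, (Nat.card_congr e.toEquiv).symm.trans hc, e x, e y, (e.orderOf_eq x).trans hx,
      (e.orderOf_eq y).trans hy, by rw [← map_inv, ← map_mul, ← map_mul, hxy, map_pow]⟩
  · obtain ⟨n, hn, hc, x, y, z, hx, hxy, hd, hz, hzx⟩ := h
    refine ⟨n, hn, (Nat.card_congr e.toEquiv).symm.trans hc, e x, e y, e z, (e.orderOf_eq x).trans hx,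
      by rw [← map_mul, hxy, map_mul], ?_, (e.orderOf_eq z).trans hz, by rw [← map_inv, ← map_mul, ← map_mul, hzx]⟩
    show Subgroup.zpowers (e.toMonoidHom x) ⊓ Subgroup.zpowers (e.toMonoidHom y) = ⊥
    rw [← MonoidHom.map_zpowers, ← MonoidHom.map_zpowers, ← Subgroup.map_inf _ _ e.toMonoidHom e.injective, hd,
      Subgroup.map_bot]

theorem index_ne_two_of_simple {G : Type*} [Group G] [Finite G] [IsSimpleGroup G] (hG : 2 < Nat.card G)
    (H : Subgroup G) : H.index ≠ 2 := by
  intro h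
  haveI := Subgroup.normal_of_index_eq_two h
  rcases (inferInstance : H.Normal).eq_bot_or_eq_top with rfl | rfl
  · rw [Subgroup.index_bot] at h; omega
  · rw [Subgroup.index_top] at h; omega

variable {F : Type*} [Field F]

/-- `A ↦ diag(A, 1 / det A)`. -/
def embMat (g : GL (Fin 2) F) : Matrix (Fin 3) (Fin 3) F :=
  !![(g : Matrix (Fin 2) (Fin 2) F) 0 0, (g : Matrix (Fin 2) (Fin 2) F) 0 1, 0;
    (g : Matrix (Fin 2) (Fin 2) F) 1 0, (g : Matrix (Fin 2) (Fin 2) F) 1 1, 0;
    0, 0, ((Matrix.GeneralLinearGroup.det g)⁻¹ : Fˣ)]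

theorem det_embMat (g : GL (Fin 2) F) : (embMat g).det = 1 := by
  have h : ((g : Matrix (Fin 2) (Fin 2) F) 0 0 * (g : Matrix (Fin 2) (Fin 2) F) 1 1 -
      (g : Matrix (Fin 2) (Fin 2) F) 0 1 * (g : Matrix (Fin 2) (Fin 2) F) 1 0) *
      (((Matrix.GeneralLinearGroup.det g)⁻¹ : Fˣ) : F) = 1 := by
    rw [← Matrix.det_fin_two]
    exact (Matrix.GeneralLinearGroup.det g).mul_inv
  rw [embMat, Matrix.det_fin_three]
  simp
  simp at h
  linear_combination h

/-- `GL2 → SL3`. -/
def emb : GL (Fin 2) F →* Matrix.SpecialLinearGroup (Fin 3) F where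
  toFun g := ⟨embMat g, det_embMat g⟩
  map_one' := Subtype.ext (by
    show embMat (1 : GL (Fin 2) F) = 1
    ext i j; fin_cases i <;> fin_cases j <;> simp [embMat])
  map_mul' g h := Subtype.ext (by
    show embMat (g * h) = embMat g * embMat h
    ext i j; fin_cases i <;> fin_cases j <;>
      simp [embMat, Matrix.mul_apply, Fin.sum_univ_two, Fin.sum_univ_three, mul_comm])

theorem eq_scalar_of_embMat {g : GL (Fin 2) F} {r : F} (h : embMat g = r • 1) :
    g ^ 3 = 1 := by
  have h00 := congrFun (congrFun h 0) 0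
  have h01 := congrFun (congrFun h 0) 1
  have h10 := congrFun (congrFun h 1) 0
  have h11 := congrFun (congrFun h 1) 1
  have h22 := congrFun (congrFun h 2) 2
  simp [embMat] at h00 h01 h10 h11 h22
  have hg : (g : Matrix (Fin 2) (Fin 2) F) = r • 1 := by
    ext i j; fin_cases i <;> fin_cases j <;> simp [h00, h01, h10, h11]
  have hdet : ((Matrix.GeneralLinearGroup.det g : Fˣ) : F) = r * r := by
    show (g : Matrix (Fin 2) (Fin 2) F).det = _
    rw [hg, Matrix.det_smul, Matrix.det_one, mul_one, Fintype.card_fin, sq]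
  have hr : r ^ 3 = 1 := by
    have h1 : ((Matrix.GeneralLinearGroup.det g : Fˣ) : F) *
        (((Matrix.GeneralLinearGroup.det g)⁻¹ : Fˣ) : F) = 1 := Units.mul_inv _
    have h2 : (((Matrix.GeneralLinearGroup.det g)⁻¹ : Fˣ) : F) = r := by
      simpa [embMat] using congrFun (congrFun h 2) 2
    rw [hdet, h2] at h1
    linear_combination h1
  refine Units.ext ?_
  rw [Units.val_pow_eq_pow_val, hg, smul_pow, one_pow, hr, one_smul, Units.val_one]

variable [Fintype F]

theorem psl_three_sylow (hodd : Fintype.card F % 2 = 1)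
    (S : Sylow 2 (Matrix.ProjectiveSpecialLinearGroup (Fin 3) F)) :
    Cfsg.IsQuasiDihedral (S : Subgroup (Matrix.ProjectiveSpecialLinearGroup (Fin 3) F)) ∨
      Cfsg.IsWreathed (S : Subgroup (Matrix.ProjectiveSpecialLinearGroup (Fin 3) F)) := by
  classical
  obtain ⟨P⟩ : Nonempty (Sylow 2 (GL (Fin 2) F)) := inferInstance
  have hker : ∀ g, ((QuotientGroup.mk' (Subgroup.center (Matrix.SpecialLinearGroup (Fin 3) F))).comp emb) g = 1 → g ^ 3 = 1 := fun g hg => by
    obtain ⟨r, -, hr⟩ := Matrix.SpecialLinearGroup.mem_center_iff.1 ((QuotientGroup.eq_one_iff _).1 hg)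
    refine eq_scalar_of_embMat (r := r) ?_
    show embMat g = _
    rw [show embMat g = ((emb g : Matrix.SpecialLinearGroup (Fin 3) F) : Matrix (Fin 3) (Fin 3) F) from rfl, ← hr]
    ext i j; simp [Matrix.one_apply, Matrix.diagonal_apply]
  have ha : Odd (Nat.gcd 3 (Fintype.card F - 1)) := by
    exact Odd.of_dvd_nat (by decide : Odd 3) (Nat.gcd_dvd_left _ _)
  have hb : Odd (Fintype.card F ^ 2 * (Fintype.card F ^ 2 + Fintype.card F + 1)) := by
    have hq : Odd (Fintype.card F) := Nat.odd_iff.2 hodd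
    exact hq.pow.mul ((hq.pow.add_odd hq).add_one)
  have hcard : Nat.gcd 3 (Fintype.card F - 1) * Nat.card (Matrix.ProjectiveSpecialLinearGroup (Fin 3) F) = (Fintype.card F ^ 2 * (Fintype.card F ^ 2 + Fintype.card F + 1)) * Nat.card (GL (Fin 2) F) := by
    have h := CfsgLib.Linear.card_PSL_mul (F := F) rfl 3 (by norm_num)
    rw [Fin.prod_univ_three] at h
    simp only [Fin.val_zero, Fin.val_one, Fin.val_two, pow_zero, pow_one] at h
    refine Nat.eq_of_mul_eq_mul_left (show 0 < Fintype.card F - 1 by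
      have := Fintype.one_lt_card (α := F); omega) ?_
    rw [mul_left_comm, h, card_GL_two]
    obtain ⟨c, hc⟩ : ∃ c, Fintype.card F = c + 1 := ⟨Fintype.card F - 1, by have := Fintype.card_pos (α := F); omega⟩
    rw [hc, Nat.add_sub_cancel,
      show (c + 1) ^ 3 - 1 = c * (c * c + 3 * c + 3) by
        rw [Nat.sub_eq_iff_eq_add (Nat.one_le_pow _ _ (by omega))]; ring,
      show (c + 1) ^ 3 - (c + 1) = c * ((c + 1) * (c + 2)) by
        rw [Nat.sub_eq_iff_eq_add (Nat.le_self_pow (by norm_num) _)]; ring,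
      show (c + 1) ^ 3 - (c + 1) ^ 2 = c * (c + 1) ^ 2 by
        rw [Nat.sub_eq_iff_eq_add (Nat.pow_le_pow_right (by omega) (by norm_num))]; ring]
    ring
  obtain ⟨e⟩ := sylow_equiv_of_hom ((QuotientGroup.mk' (Subgroup.center (Matrix.SpecialLinearGroup (Fin 3) F))).comp emb) (N := 3) (by decide) hker ha hb hcard P S
  refine isQuasiDihedral_or_isWreathed_congr e ?_
  rcases (show Fintype.card F % 4 = 3 ∨ Fintype.card F % 4 = 1 by omega) with h | h
  · exact Or.inl (sylow_GL_two_quasiDihedral h P)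
  · exact Or.inr (sylow_GL_two_wreathed h P)

theorem psl_three_no_index_two (hodd : Fintype.card F % 2 = 1)
    (H : Subgroup (Matrix.ProjectiveSpecialLinearGroup (Fin 3) F)) : H.index ≠ 2 := by
  classical
  haveI := CfsgLib.Linear.isSimpleGroup_PSL (ι := Fin 3) (F := F) (Or.inl (by simp))
  refine index_ne_two_of_simple ?_ H
  obtain ⟨S⟩ : Nonempty (Sylow 2 (Matrix.ProjectiveSpecialLinearGroup (Fin 3) F)) := inferInstance
  refine lt_of_lt_of_le ?_ (Subgroup.card_le_card_group (S : Subgroup _))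
  rcases psl_three_sylow hodd S with ⟨n, hn, hc, -⟩ | ⟨n, hn, hc, -⟩ <;>
    exact hc.symm ▸ (lt_of_lt_of_le (show 2 < 2 ^ 2 by norm_num) (Nat.pow_le_pow_right (by norm_num) (by omega)))

open CfsgLib.Forms CfsgLib.Unitary

variable {q : ℕ}

/-- `GU2 → SU3`. -/
def embU (hF : Nat.card F = q ^ 2) : Cfsg.GU 2 F q →* Cfsg.SU 3 F q :=
  (emb.comp (Cfsg.GU 2 F q).subtype).codRestrict _ fun g u v => by
    have hd : (((Matrix.GeneralLinearGroup.det (g : GL (Fin 2) F))⁻¹ : Fˣ) : F) *
        (((Matrix.GeneralLinearGroup.det (g : GL (Fin 2) F))⁻¹ : Fˣ) : F) ^ q = 1 := by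
      rw [← pow_succ', ← Units.val_pow_eq_pow_val, inv_pow, det_GU hF g.2, inv_one, Units.val_one]
    have hq : q ≠ 0 := by have := two_le_q hF; omega
    have h := mem_GU_iff.1 g.2 ![u 0, u 1] ![v 0, v 1]
    simp only [Cfsg.hermForm, Fin.sum_univ_two, Matrix.mulVec, dotProduct, Matrix.cons_val_zero,
      Matrix.cons_val_one] at h
    show Cfsg.hermForm 3 F q (embMat (g : GL (Fin 2) F) *ᵥ u) (embMat (g : GL (Fin 2) F) *ᵥ v) = _
    simp only [Cfsg.hermForm, embMat, Fin.sum_univ_three, Matrix.mulVec, dotProduct, Matrix.of_apply,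
      Matrix.cons_val_zero, Matrix.cons_val_one, Matrix.cons_val, zero_mul, add_zero, zero_add, mul_pow]
    linear_combination h + (u 2 * v 2 ^ q) * hd

theorem embU_val (hF : Nat.card F = q ^ 2) (g : Cfsg.GU 2 F q) :
    ((embU hF g : Matrix.SpecialLinearGroup (Fin 3) F) : Matrix (Fin 3) (Fin 3) F) = embMat (g : GL (Fin 2) F) := rfl

theorem psu_three_sylow (hF : Nat.card F = q ^ 2) (hodd : q % 2 = 1) (S : Sylow 2 (Cfsg.PSU 3 F q)) :
    Cfsg.IsQuasiDihedral (S : Subgroup (Cfsg.PSU 3 F q)) ∨ Cfsg.IsWreathed (S : Subgroup (Cfsg.PSU 3 F q)) := by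
  classical
  obtain ⟨P⟩ : Nonempty (Sylow 2 (Cfsg.GU 2 F q)) := inferInstance
  have hker : ∀ g, ((QuotientGroup.mk' (Subgroup.center (Cfsg.SU 3 F q))).comp (embU hF)) g = 1 → g ^ 3 = 1 := fun g hg => by
    have hz := (QuotientGroup.eq_one_iff _).1 hg
    obtain ⟨r, hr⟩ := eq_scalar_of_commute_tv hF (n := 3) (by norm_num)
      (M := embMat (g : GL (Fin 2) F)) fun v c hv hc => (congrArg
        (fun x : Cfsg.SU 3 F q => ((x : Matrix.SpecialLinearGroup (Fin 3) F) : Matrix (Fin 3) (Fin 3) F))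
        (Subgroup.mem_center_iff.1 hz (suTv 3 v c hv hc hF))).symm
    exact Subtype.ext (eq_scalar_of_embMat hr)
  have ha : Odd (Nat.gcd 3 (q + 1)) := by
    exact Odd.of_dvd_nat (by decide : Odd 3) (Nat.gcd_dvd_left _ _)
  have hb : Odd (q ^ 2 * (q * (q - 1) + 1)) := by
    have hq : Odd q := Nat.odd_iff.2 hodd
    exact hq.pow.mul ((Nat.Odd.sub_odd hq odd_one |>.mul_left q).add_one)
  have hcard : Nat.gcd 3 (q + 1) * Nat.card (Cfsg.PSU 3 F q) = (q ^ 2 * (q * (q - 1) + 1)) * Nat.card (Cfsg.GU 2 F q) := by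
    refine Nat.eq_of_mul_eq_mul_left (show 0 < q + 1 by omega) ?_
    rw [mul_left_comm, card_PSU_mul hF (by norm_num : 2 ≤ 3), card_GU hF, card_GU_two hF, Finset.prod_range_succ,
      Finset.prod_range_succ, Finset.prod_range_one, if_pos (by decide), if_neg (by decide), if_pos (by decide)]
    obtain ⟨c, rfl⟩ : ∃ c, q = c + 1 := ⟨q - 1, by omega⟩
    rw [Nat.add_sub_cancel, show (c + 1) ^ (1 + 1) - 1 = c * (c + 2) by
      rw [Nat.sub_eq_iff_eq_add (Nat.one_le_pow _ _ (by omega))]; ring]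
    norm_num
    ring
  obtain ⟨e⟩ := sylow_equiv_of_hom ((QuotientGroup.mk' (Subgroup.center (Cfsg.SU 3 F q))).comp (embU hF)) (N := 3) (by decide) hker ha hb hcard P S
  refine isQuasiDihedral_or_isWreathed_congr e ?_
  rcases (show q % 4 = 1 ∨ q % 4 = 3 by omega) with h | h
  · exact Or.inl (sylow_GU_two_quasiDihedral hF h P)
  · exact Or.inr (sylow_GU_two_wreathed hF h P)

theorem psu_three_no_index_two (hF : Nat.card F = q ^ 2) (hodd : q % 2 = 1) (H : Subgroup (Cfsg.PSU 3 F q)) :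
    H.index ≠ 2 := by
  classical
  haveI := CfsgLib.Unitary.isSimpleGroup_PSU (n := 3) hF le_rfl (by omega)
  refine index_ne_two_of_simple ?_ H
  obtain ⟨S⟩ : Nonempty (Sylow 2 (Cfsg.PSU 3 F q)) := inferInstance
  refine lt_of_lt_of_le ?_ (Subgroup.card_le_card_group (S : Subgroup _))
  rcases psu_three_sylow hF hodd S with ⟨n, hn, hc, -⟩ | ⟨n, hn, hc, -⟩ <;>
    exact hc.symm ▸ (lt_of_lt_of_le (show 2 < 2 ^ 2 by norm_num) (Nat.pow_le_pow_right (by norm_num) (by omega)))

end CfsgLib.Linear.TwoSylow
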