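import Cfsg.Agent.GL2C.Basic
import Cfsg.Agent.SL2C.SylowTwo
import Cfsg.Agent.ZJ.SL2Basic

/-!
Sylow subgroups of `GL_2` and `SL_2` in the defining characteristic, orders of semisimple
elements of `SL_2`.
-/

set_option autoImplicit false
set_option linter.flexible false
set_option linter.unusedSectionVars false

namespace CfsgLib.Linear.SylowDim

open Matrix Pointwise
open CfsgLib.GL2C (GL2 gm gm_mul gm_injective tri gm_tri tri_inj exists_tri_of_apply)
open CfsgLib.SL2C (SL mt bor mt_bor bor_inj bor_mul exists_bor_of_apply)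

variable {F : Type*} [Field F]

theorem tri_mul (a b a' b' : Fˣ) (x x' : F) :
    tri a b x * tri a' b' x' = tri (a * a') (b * b') ((a : F) * x' + x * (b' : F)) :=
  gm_injective (by
    rw [gm_mul]
    ext i j
    fin_cases i <;> fin_cases j <;> simp [gm_tri, Matrix.mul_apply, Fin.sum_univ_two])

theorem tri_one_zero : tri (1 : Fˣ) 1 (0 : F) = 1 :=
  gm_injective (by ext i j; fin_cases i <;> fin_cases j <;> simp [gm_tri])

/-- `x ↦ (1 x; 0 1)`. -/
noncomputable def utHom (F : Type*) [Field F] : Multiplicative F →* GL2 F where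
  toFun x := tri 1 1 x.toAdd
  map_one' := tri_one_zero
  map_mul' x y := by rw [tri_mul, one_mul, Units.val_one, one_mul, mul_one, toAdd_mul, add_comm]

/-- Upper unitriangular elements of `GL_2`. -/
noncomputable def ut (F : Type*) [Field F] : Subgroup (GL2 F) := (utHom F).range

theorem mem_ut {g : GL2 F} : g ∈ ut F ↔ ∃ x : F, g = tri 1 1 x :=
  ⟨fun ⟨x, hx⟩ => ⟨x.toAdd, hx.symm⟩, fun ⟨x, hx⟩ => ⟨Multiplicative.ofAdd x, hx.symm⟩⟩

theorem card_ut : Nat.card (ut F) = Nat.card F := by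
  refine (Nat.card_congr (MonoidHom.ofInjective (f := utHom F) ?_).toEquiv).symm.trans
    (Nat.card_congr Multiplicative.toAdd)
  intro x y h
  exact Multiplicative.toAdd.injective (tri_inj h).2.2

/-- Upper triangular elements of `GL_2`. -/
noncomputable def borel (F : Type*) [Field F] : Subgroup (GL2 F) where
  carrier := {g | gm g 1 0 = 0}
  one_mem' := by simp [gm, Matrix.one_apply]
  mul_mem' {g h} hg hh := by
    simp only [Set.mem_ofPred_eq] at hg hh ⊢
    rw [gm_mul, Matrix.mul_apply, Fin.sum_univ_two, hg, hh, zero_mul, mul_zero, add_zero]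
  inv_mem' {g} hg := by
    obtain ⟨a, b, x, rfl⟩ := exists_tri_of_apply hg
    have e : (tri a b x)⁻¹ = tri a⁻¹ b⁻¹ (-((a : F))⁻¹ * x * ((b : F))⁻¹) := by
      refine inv_eq_of_mul_eq_one_right ?_
      rw [tri_mul, mul_inv_cancel, mul_inv_cancel, ← tri_one_zero]
      congr 1
      rw [Units.val_inv_eq_inv_val]
      field_simp
      ring
    rw [e]
    simp [gm_tri]

theorem mem_borel {g : GL2 F} : g ∈ borel F ↔ gm g 1 0 = 0 := Iff.rfl

theorem card_borel : Nat.card (borel F) = Nat.card F * Nat.card Fˣ ^ 2 := by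
  rw [← Nat.card_eq_of_bijective (fun p : F × (Fˣ × Fˣ) =>
    (⟨tri p.2.1 p.2.2 p.1, by simp [mem_borel, gm_tri]⟩ : borel F)) ⟨?_, ?_⟩,
    Nat.card_prod, Nat.card_prod, pow_two]
  · intro p r h
    obtain ⟨h1, h2, h3⟩ := tri_inj (congrArg Subtype.val h)
    exact Prod.ext h3 (Prod.ext h1 h2)
  · rintro ⟨g, hg⟩
    obtain ⟨a, b, x, rfl⟩ := exists_tri_of_apply hg
    exact ⟨(x, (a, b)), rfl⟩

theorem borel_normalizes {g : GL2 F} (hg : g ∈ borel F) {u : GL2 F} (hu : u ∈ ut F) :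
    g * u * g⁻¹ ∈ ut F := by
  obtain ⟨a, b, x, rfl⟩ := exists_tri_of_apply hg
  obtain ⟨t, rfl⟩ := mem_ut.1 hu
  refine mem_ut.2 ⟨(a : F) * t / b, ?_⟩
  rw [mul_inv_eq_iff_eq_mul, tri_mul, tri_mul]
  congr 1
  · rw [mul_one, one_mul]
  · rw [mul_one, one_mul]
  · rw [Units.val_one, mul_one, one_mul]
    field_simp
    ring

theorem mem_borel_of_conj {g u : GL2 F} (hu : u ∈ ut F) (hu1 : u ≠ 1)
    (h : g * u * g⁻¹ ∈ ut F) : g ∈ borel F := by
  obtain ⟨t, rfl⟩ := mem_ut.1 hu
  obtain ⟨x, hx⟩ := mem_ut.1 h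
  have ht : t ≠ 0 := fun e => hu1 (by rw [e, tri_one_zero])
  rw [mul_inv_eq_iff_eq_mul] at hx
  have := congrArg gm hx
  rw [gm_mul, gm_mul] at this
  have e := congrFun (congrFun this 1) 1
  simp [gm_tri, Matrix.mul_apply, Fin.sum_univ_two] at e
  exact e.resolve_right ht

variable [Fintype F]

theorem normalizer_ut : Subgroup.normalizer (ut F : Set (GL2 F)) = borel F := by
  refine le_antisymm (fun g hg => ?_) fun g hg => Subgroup.mem_normalizer_iff.2 fun u =>
    ⟨fun hu => borel_normalizes hg hu, fun hu => ?_⟩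
  · refine mem_borel_of_conj (mem_ut.2 ⟨1, rfl⟩) (fun e => ?_)
      ((Subgroup.mem_normalizer_iff.1 hg _).1 (mem_ut.2 ⟨1, rfl⟩))
    exact one_ne_zero (tri_inj (e.trans tri_one_zero.symm)).2.2
  · have := borel_normalizes (inv_mem hg) hu
    simpa [mul_assoc] using this

variable (p : ℕ) [Fact p.Prime] [CharP F p]

theorem char_facts : ∃ k : ℕ, 1 ≤ k ∧ Nat.card F = p ^ k ∧
    ¬ p ∣ (Nat.card F - 1) ∧ ¬ p ∣ (Nat.card F + 1) := by
  obtain ⟨k, -, hk⟩ := FiniteField.card F p
  rw [← Nat.card_eq_fintype_card] at hk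
  have h1 := (Fact.out : p.Prime).two_le
  have hdvd : p ∣ Nat.card F := hk ▸ dvd_pow_self _ k.2.ne'
  have hpos : 0 < Nat.card F := Nat.card_pos
  refine ⟨k, k.2, hk, fun h => ?_, fun h => ?_⟩
  · have := Nat.dvd_sub hdvd h
    rw [show Nat.card F - (Nat.card F - 1) = 1 by omega] at this
    exact absurd (Nat.le_of_dvd one_pos this) (by omega)
  · have := Nat.dvd_sub h hdvd
    rw [show Nat.card F + 1 - Nat.card F = 1 by omega] at this
    exact absurd (Nat.le_of_dvd one_pos this) (by omega)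

theorem card_gl_two : Nat.card (GL2 F) =
    Nat.card F * ((Nat.card F - 1) * ((Nat.card F - 1) * (Nat.card F + 1))) := by
  have hpos : 0 < Nat.card F := Nat.card_pos
  rw [CfsgLib.GL2C.card_GL2, ← Nat.card_eq_fintype_card]
  obtain ⟨n, hn⟩ : ∃ n, Nat.card F = n + 1 := ⟨Nat.card F - 1, by omega⟩
  rw [hn, show (n + 1) ^ 2 - 1 = n * (n + 2) by
      rw [show (n + 1) ^ 2 = n * (n + 2) + 1 by ring, Nat.add_sub_cancel],
    show (n + 1) ^ 2 - (n + 1) = n * (n + 1) by
      rw [pow_two, ← Nat.sub_one_mul, Nat.add_sub_cancel]]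
  rw [Nat.add_sub_cancel]; ring

theorem exists_conj_ut (P : Sylow p (GL2 F)) :
    ∃ g : GL2 F, (P : Subgroup (GL2 F)) = (ut F).map (MulAut.conj g).toMonoidHom := by
  obtain ⟨k, -, hk, h1, h2⟩ := char_facts (F := F) p
  have hp : (Fact.out : p.Prime) = Fact.out := rfl
  have hP : IsPGroup p (ut F) := IsPGroup.of_card (card_ut.trans hk)
  have hidx : ¬ p ∣ (ut F).index := by
    have h := (ut F).card_mul_index
    rw [card_ut, card_gl_two] at h
    rw [Nat.eq_of_mul_eq_mul_left Nat.card_pos h]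
    simp [(Fact.out : p.Prime).dvd_mul, h1, h2, -Nat.card_eq_fintype_card]
  obtain ⟨g, hg⟩ := MulAction.exists_smul_eq (GL2 F) (hP.toSylow hidx) P
  exact ⟨g, by rw [← hg]; rfl⟩

theorem card_sylow_gl : Nat.card (Sylow p (GL2 F)) = Nat.card F + 1 := by
  obtain ⟨P⟩ : Nonempty (Sylow p (GL2 F)) := inferInstance
  obtain ⟨g, hg⟩ := exists_conj_ut p P
  have hq : 1 < Nat.card F := Finite.one_lt_card
  rw [Sylow.card_eq_index_normalizer P, show (P : Set (GL2 F)) = ((P : Subgroup (GL2 F)) : Set (GL2 F)) from rfl,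
    hg, ← Subgroup.map_normalizer_eq_of_bijective _ (MulAut.conj g).bijective,
    CfsgLib.SL2C.index_map_conj, normalizer_ut]
  have h := (borel F).card_mul_index
  rw [card_borel, card_gl_two, Nat.card_units] at h
  refine Nat.eq_of_mul_eq_mul_left (show 0 < Nat.card F * (Nat.card F - 1) ^ 2 from ?_) (h.trans ?_)
  · exact Nat.mul_pos (by omega) (pow_pos (by omega) 2)
  · ring

theorem card_normalizer_gl (P : Sylow p (GL2 F)) :
    Nat.card (Subgroup.normalizer ((P : Subgroup (GL2 F)) : Set (GL2 F))) =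
      Nat.card F * (Nat.card F - 1) ^ 2 := by
  obtain ⟨g, hg⟩ := exists_conj_ut p P
  rw [hg, ← Subgroup.map_normalizer_eq_of_bijective _ (MulAut.conj g).bijective,
    Nat.card_congr ((Subgroup.normalizer (ut F : Set (GL2 F))).equivMapOfInjective _
      (MulAut.conj g).injective).symm.toEquiv, normalizer_ut, card_borel, Nat.card_units]

theorem inf_eq_bot_gl (P Q : Sylow p (GL2 F)) (h : P ≠ Q) :
    (P : Subgroup (GL2 F)) ⊓ (Q : Subgroup (GL2 F)) = ⊥ := by
  obtain ⟨g, hg⟩ := exists_conj_ut p P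
  obtain ⟨k, hk⟩ := exists_conj_ut p Q
  rw [Subgroup.eq_bot_iff_forall]
  intro x hx
  rw [Subgroup.mem_inf] at hx
  obtain ⟨hxP, hxQ⟩ := hx
  rw [hg, Subgroup.mem_map] at hxP
  rw [hk, Subgroup.mem_map] at hxQ
  obtain ⟨u, hu, rfl⟩ := hxP
  obtain ⟨v, hv, hvu⟩ := hxQ
  simp only [MulEquiv.coe_toMonoidHom, MulAut.conj_apply] at hvu ⊢
  by_contra hne
  have hu1 : u ≠ 1 := fun e => hne (by rw [e]; group)
  have hb : k⁻¹ * g ∈ borel F := mem_borel_of_conj hu hu1 (by
    rw [show k⁻¹ * g * u * (k⁻¹ * g)⁻¹ = k⁻¹ * (g * u * g⁻¹) * k by group, ← hvu,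
      show k⁻¹ * (k * v * k⁻¹) * k = v by group]
    exact hv)
  rw [← normalizer_ut] at hb
  refine h (Sylow.ext ?_)
  rw [hg, hk]
  ext y
  simp only [Subgroup.mem_map, MulEquiv.coe_toMonoidHom, MulAut.conj_apply]
  constructor
  · rintro ⟨w, hw, rfl⟩
    exact ⟨k⁻¹ * g * w * (k⁻¹ * g)⁻¹, (Subgroup.mem_normalizer_iff.1 hb w).1 hw, by group⟩
  · rintro ⟨w, hw, rfl⟩
    refine ⟨(k⁻¹ * g)⁻¹ * w * (k⁻¹ * g), ?_, by group⟩
    exact (Subgroup.mem_normalizer_iff.1 hb _).2 (by simpa [mul_assoc] using hw)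

theorem card_centralizer_gl (P : Sylow p (GL2 F)) (a : GL2 F) (ha : a ∈ P) (ha1 : a ≠ 1) :
    Nat.card (Subgroup.centralizer ({a} : Set (GL2 F))) = Nat.card F * (Nat.card F - 1) := by
  obtain ⟨g, hg⟩ := exists_conj_ut p P
  have haP : a ∈ (P : Subgroup (GL2 F)) := ha
  rw [hg, Subgroup.mem_map] at haP
  obtain ⟨u, hu, rfl⟩ := haP
  obtain ⟨t, rfl⟩ := mem_ut.1 hu
  have ht : t ≠ 0 := fun e => ha1 (by rw [e, tri_one_zero, map_one])
  have hmap : Subgroup.centralizer ({(MulAut.conj g).toMonoidHom (tri 1 1 t)} : Set (GL2 F)) =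
      (Subgroup.centralizer ({tri 1 1 t} : Set (GL2 F))).map (MulAut.conj g).toMonoidHom := by
    ext x
    simp only [Subgroup.mem_map, Subgroup.mem_centralizer_singleton_iff, MulEquiv.coe_toMonoidHom,
      MulAut.conj_apply]
    constructor
    · intro hx
      refine ⟨g⁻¹ * x * g, ?_, by group⟩
      calc g⁻¹ * x * g * tri 1 1 t = g⁻¹ * (x * (g * tri 1 1 t * g⁻¹)) * g := by group
        _ = _ := by rw [hx]; group
    · rintro ⟨y, hy, rfl⟩
      calc g * y * g⁻¹ * (g * tri 1 1 t * g⁻¹) = g * (y * tri 1 1 t) * g⁻¹ := by group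
        _ = _ := by rw [hy]; group
  rw [hmap, Nat.card_congr ((Subgroup.centralizer ({tri 1 1 t} : Set (GL2 F))).equivMapOfInjective _
      (MulAut.conj g).injective).symm.toEquiv]
  rw [← Nat.card_units, ← Nat.card_prod]
  refine (Nat.card_eq_of_bijective (fun r : F × Fˣ =>
    (⟨tri r.2 r.2 r.1, ?_⟩ : Subgroup.centralizer ({tri 1 1 t} : Set (GL2 F)))) ⟨?_, ?_⟩).symm
  · rw [Subgroup.mem_centralizer_singleton_iff, tri_mul, tri_mul]
    simp only [one_mul, mul_one, Units.val_one]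
    congr 1
    ring
  · intro r s e
    obtain ⟨h1, -, h3⟩ := tri_inj (congrArg Subtype.val e)
    exact Prod.ext h3 h1
  · rintro ⟨x, hx⟩
    rw [Subgroup.mem_centralizer_singleton_iff] at hx
    have hxb : x ∈ borel F := mem_borel_of_conj hu (fun e => ha1 (by rw [e, map_one])) (by
      rw [show x * tri 1 1 t * x⁻¹ = tri 1 1 t from mul_inv_eq_iff_eq_mul.2 hx]
      exact hu)
    obtain ⟨α, β, s, rfl⟩ := exists_tri_of_apply hxb
    rw [tri_mul, tri_mul] at hx
    obtain ⟨-, -, h3⟩ := tri_inj hx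
    have hab : α = β := by
      refine Units.ext (mul_right_cancel₀ ht ?_)
      simp only [Units.val_one, mul_one, one_mul] at h3
      linear_combination h3
    subst hab
    exact ⟨(s, α), rfl⟩

/-! ### `SL_2` -/

omit [Fintype F] in
theorem upper_eq_bor (x : F) : (CfsgLib.ZJ.upper x : SL F) = bor 1 x :=
  CfsgLib.SL2C.mt_injective (by
    ext i j
    fin_cases i <;> fin_cases j <;> simp [CfsgLib.ZJ.upper, mt_bor])

/-- Upper unitriangular elements of `SL_2`. -/
noncomputable def us (F : Type*) [Field F] : Subgroup (SL F) :=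
  (ut F).comap Matrix.SpecialLinearGroup.toGL

theorem bor_one_mem (x : F) : bor 1 x ∈ us F :=
  mem_ut.2 ⟨x, gm_injective (by
    change mt (bor 1 x) = _
    rw [mt_bor, gm_tri]
    simp)⟩

theorem card_us : Nat.card (us F) = Nat.card F := by
  refine (Nat.card_eq_of_bijective (fun x : F => (⟨bor 1 x, bor_one_mem x⟩ : us F)) ⟨?_, ?_⟩).symm
  · intro x y e
    exact (bor_inj (congrArg Subtype.val e)).2
  · rintro ⟨g, hg⟩
    obtain ⟨x, hx⟩ := mem_ut.1 hg
    refine ⟨x, Subtype.ext (CfsgLib.SL2C.mt_injective ?_)⟩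
    rw [mt_bor, show mt g = gm (tri 1 1 x) from congrArg gm hx, gm_tri]
    simp

theorem sup_conj_eq_top {k : SL F} (hk : mt k 1 0 ≠ 0) :
    us F ⊔ (us F).map (MulAut.conj k).toMonoidHom = ⊤ := by
  set S := us F ⊔ (us F).map (MulAut.conj k).toMonoidHom
  have hU : ∀ x, bor 1 x ∈ S := fun x => Subgroup.mem_sup_left (bor_one_mem x)
  rw [eq_top_iff]
  intro M _
  refine CfsgLib.ZJ.sl2_upper_lower_induction M S (fun a => (upper_eq_bor a).symm ▸ hU a) fun c => ?_
  set r := mt k 0 0 / mt k 1 0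
  set t := -c / (mt k 1 0) ^ 2
  have hkt : k * bor 1 t = bor 1 r * CfsgLib.ZJ.lower c * bor 1 (-r) * k := by
    apply CfsgLib.SL2C.mt_injective
    simp only [CfsgLib.SL2C.mt_mul, mt_bor]
    have hd := CfsgLib.SL2C.det_mt k
    rw [Matrix.det_fin_two] at hd
    simp only [r, t]
    rw [Matrix.eta_fin_two (mt k)]
    ext i j
    fin_cases i <;> fin_cases j <;>
      simp [CfsgLib.ZJ.lower, Matrix.mul_apply, Fin.sum_univ_two] <;> field_simp <;>
      first
        | ring1
        | linear_combination c * hd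
        | linear_combination -c * hd
        | linear_combination c * mt k 0 0 * hd
        | linear_combination -c * mt k 0 0 * hd
  have hinv : ∀ x : F, (bor 1 x)⁻¹ = bor 1 (-x) := fun x => inv_eq_of_mul_eq_one_right (by
    rw [bor_mul]
    exact CfsgLib.SL2C.mt_injective (by
      ext i j; fin_cases i <;> fin_cases j <;> simp [mt_bor]))
  have hc : bor 1 (-r) * (k * bor 1 t * k⁻¹) * bor 1 r = CfsgLib.ZJ.lower c := by
    rw [hkt, ← hinv]
    group
  rw [← hc]
  exact mul_mem (mul_mem (hU _) (Subgroup.mem_sup_right (Subgroup.mem_map.2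
    ⟨_, bor_one_mem t, rfl⟩))) (hU _)

theorem sup_eq_top_sl (P Q : Sylow p (SL F)) (h : P ≠ Q) :
    (P : Subgroup (SL F)) ⊔ (Q : Subgroup (SL F)) = ⊤ := by
  obtain ⟨n, -, hn, h1, h2⟩ := char_facts (F := F) p
  have hidx : ¬ p ∣ (us F).index := by
    rw [CfsgLib.SL2C.index_eq_of_card (T := us F) (k := (Nat.card F - 1) * (Nat.card F + 1)) (by
      rw [card_us, CfsgLib.SL2C.natCard_SL_factor, Nat.card_eq_fintype_card])]
    simp [(Fact.out : p.Prime).dvd_mul, h1, h2, -Nat.card_eq_fintype_card]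
  have hP : IsPGroup p (us F) := IsPGroup.of_card (card_us.trans hn)
  obtain ⟨g, hg⟩ := MulAction.exists_smul_eq (SL F) (hP.toSylow hidx) P
  obtain ⟨k, hk⟩ := MulAction.exists_smul_eq (SL F) (hP.toSylow hidx) Q
  have hgk : mt (g⁻¹ * k) 1 0 ≠ 0 := fun e => h (by
    obtain ⟨a, b, hab⟩ := exists_bor_of_apply e
    have hfix : (g⁻¹ * k) • hP.toSylow hidx = hP.toSylow hidx := by
      refine Sylow.smul_eq_iff_mem_normalizer.2 (Subgroup.mem_normalizer_iff.2 fun u => ?_)
      have hb : Matrix.SpecialLinearGroup.toGL (g⁻¹ * k) ∈ borel F := e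
      rw [← normalizer_ut] at hb
      change Matrix.SpecialLinearGroup.toGL u ∈ ut F ↔ Matrix.SpecialLinearGroup.toGL _ ∈ ut F
      rw [map_mul, map_mul _ _ u, map_inv]
      exact Subgroup.mem_normalizer_iff.1 hb _
    rw [← hg, ← hk]
    conv_lhs => rw [← hfix, smul_smul, mul_inv_cancel_left])
  have := congrArg (Subgroup.map (MulAut.conj g).toMonoidHom) (sup_conj_eq_top hgk)
  rw [Subgroup.map_sup, Subgroup.map_map, Subgroup.map_top_of_surjective _ (MulAut.conj g).surjective] at this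
  rw [← hg, ← hk, ← this]
  congr 1
  change (us F).map (MulAut.conj k).toMonoidHom = _
  congr 1
  ext x
  simp [mul_assoc]

theorem orderOf_dvd_of_coprime (g : SL F) (hg : Nat.Coprime (orderOf g) p) :
    orderOf g ∣ Nat.card F - 1 ∨ orderOf g ∣ Nat.card F + 1 := by
  obtain ⟨n, hn1, hn, -, -⟩ := char_facts (F := F) p
  have hinv : ∀ e : Fˣ, e * e = 1 → ∀ b : F, bor e b ^ (2 * p) = 1 := by
    intro e he b
    rw [pow_mul, pow_two, bor_mul, he, CfsgLib.SL2C.bor_one_pow, CharP.cast_eq_zero, zero_mul]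
    exact CfsgLib.SL2C.mt_injective (by
      ext i j; fin_cases i <;> fin_cases j <;> simp [mt_bor])
  have hsmall : orderOf g ∣ 2 * p → orderOf g ∣ Nat.card F - 1 := by
    intro h
    have h2 := Nat.Coprime.dvd_of_dvd_mul_right hg h
    by_cases hp2 : p = 2
    · rw [hp2] at hg
      rw [Nat.Coprime.eq_one_of_dvd hg h2]
      exact one_dvd _
    · refine h2.trans (Nat.dvd_of_mod_eq_zero ?_)
      have hodd : Nat.card F % 2 = 1 := by
        rw [hn, Nat.pow_mod, ((Fact.out : p.Prime).eq_two_or_odd).resolve_left hp2]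
        simp
      omega
  have hord : ∀ x, IsConj x g → orderOf x = orderOf g := by
    intro x hx
    obtain ⟨c, rfl⟩ := isConj_iff.1 hx
    exact (orderOf_injective (MulAut.conj c).toMonoidHom (MulAut.conj c).injective x).symm
  rcases CfsgLib.SL2C.cases4 g with hc | ⟨a, -, ha⟩ | ⟨e, b, he, -, hb⟩ | hell
  · refine Or.inl (hsmall (dvd_mul_of_dvd_left ?_ p))
    rw [orderOf_dvd_iff_pow_eq_one, pow_two]
    exact CfsgLib.SL2C.mul_self_eq_one_of_center hc
  · left
    rw [← hord _ ha, ← Nat.card_units]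
    exact (orderOf_map_dvd _ a).trans (orderOf_dvd_natCard a)
  · refine Or.inl (hsmall ?_)
    rw [← hord _ hb, orderOf_dvd_iff_pow_eq_one]
    exact hinv e he b
  · right
    rw [Nat.card_eq_fintype_card (α := F), ← CfsgLib.SL2C.card_tor hell]
    exact Subgroup.orderOf_dvd_natCard (CfsgLib.SL2C.tor g)
      (Subgroup.mem_centralizer_singleton_iff.2 rfl)

theorem isCyclic_sylow_sl {r : ℕ} [Fact r.Prime] (hr : r ≠ 2) (hrp : r ≠ p)
    (R : Sylow r (SL F)) : IsCyclic (R : Subgroup (SL F)) := by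
  obtain ⟨n, -, hn, -, -⟩ := char_facts (F := F) p
  have hrq : ¬ r ∣ Nat.card F := fun h => hrp ((Nat.prime_dvd_prime_iff_eq Fact.out Fact.out).1
    ((Fact.out : r.Prime).dvd_of_dvd_pow (hn ▸ h)))
  have key : ∀ T : Subgroup (SL F), IsCyclic T → ¬ r ∣ T.index → IsCyclic (R : Subgroup (SL F)) := by
    intro T hT hidx
    obtain ⟨g, hg⟩ := CfsgLib.SL2C.sylow_exists_conj_le R T hidx
    haveI : IsCyclic (T.map (MulAut.conj g).toMonoidHom) :=
      (T.equivMapOfInjective _ (MulAut.conj g).injective).isCyclic.1 hT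
    exact isCyclic_of_injective (Subgroup.inclusion hg) (Subgroup.inclusion_injective hg)
  by_cases h1 : r ∣ Nat.card F - 1
  · refine key (CfsgLib.SL2C.splitTorus F) (isCyclic_of_surjective _
      (CfsgLib.SL2C.dg (F := F)).rangeRestrict_surjective) ?_
    rw [CfsgLib.SL2C.index_eq_of_card (T := CfsgLib.SL2C.splitTorus F)
      (k := Nat.card F * (Nat.card F + 1)) (by
        rw [CfsgLib.SL2C.card_splitTorus, CfsgLib.SL2C.natCard_SL_factor, Nat.card_eq_fintype_card]
        ring), (Fact.out : r.Prime).dvd_mul, not_or]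
    refine ⟨hrq, fun h => hr ?_⟩
    have h2 := Nat.dvd_sub h h1
    have hpos : 0 < Nat.card F := Nat.card_pos
    rw [show Nat.card F + 1 - (Nat.card F - 1) = 2 by omega] at h2
    exact (Nat.prime_dvd_prime_iff_eq Fact.out Nat.prime_two).1 h2
  · obtain ⟨c, hc⟩ := CfsgLib.SL2C.exists_ell (F := F)
    refine key (CfsgLib.SL2C.tor c) (CfsgLib.SL2C.isCyclic_tor hc) ?_
    rw [CfsgLib.SL2C.index_eq_of_card (T := CfsgLib.SL2C.tor c)
      (k := Nat.card F * (Nat.card F - 1)) (by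
        rw [CfsgLib.SL2C.card_tor hc, CfsgLib.SL2C.natCard_SL_factor, Nat.card_eq_fintype_card]
        ring), (Fact.out : r.Prime).dvd_mul, not_or]
    exact ⟨hrq, h1⟩

end CfsgLib.Linear.SylowDim
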