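import Cfsg.Agent.SL2C.SylowTwo
import Cfsg.Agent.InvChar.UniqueInvolution
import Cfsg.Agent.Unitary.ThreeTwo
import Mathlib.GroupTheory.SpecificGroups.KleinFour

/-!
Sylow 2-subgroups of `SL_2` and `PSL_2` in odd characteristic; `SL_2(3)`.
-/

set_option autoImplicit false
set_option linter.flexible false
set_option linter.unusedSectionVars false

namespace CfsgLib.Linear.SylowTwoSL

open Matrix CfsgLib.SL2C

variable {F : Type*} [Field F] [Fintype F]

theorem eq_neg_one (hodd : Odd (Fintype.card F)) {g : SL F} (h1 : g ≠ 1) (h2 : g * g = 1) :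
    g = negOne F :=
  (center_cases (mem_center_of_mul_self hodd h2)).resolve_left h1

theorem exists_quaternion (hodd : Odd (Fintype.card F)) (P : Sylow 2 (SL F)) :
    ∃ k : ℕ, 1 ≤ k ∧ Nonempty ((P : Subgroup (SL F)) ≃* QuaternionGroup (2 ^ k)) := by
  obtain ⟨T, y, w, h⟩ := exists_twoShape hodd P
  have hu : ∀ a b : (P : Subgroup (SL F)), orderOf a = 2 → orderOf b = 2 →
      b ∈ Subgroup.zpowers a := by
    intro a b ha hb
    have key : ∀ x : (P : Subgroup (SL F)), orderOf x = 2 → (x : SL F) = negOne F := by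
      intro x hx
      refine eq_neg_one hodd (fun e => ?_) ?_
      · rw [show x = 1 from Subtype.ext e, orderOf_one] at hx
        omega
      · have h' := pow_orderOf_eq_one (x : SL F)
        rw [Subgroup.orderOf_coe, hx, pow_two] at h'
        exact h'
    rw [show b = a from Subtype.ext ((key b hb).trans (key a ha).symm)]
    exact Subgroup.mem_zpowers a
  rcases CfsgLib.UniqueInvol.cyclic_or_quaternion P.isPGroup' hu with hc | ⟨-, hn⟩
  · exfalso
    refine h.wT ?_
    rw [← h.torus.cent y h.yT h.y_not_center, Subgroup.mem_centralizer_singleton_iff]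
    letI := hc.commGroup
    exact congrArg Subtype.val (mul_comm (⟨w, h.wS⟩ : (P : Subgroup (SL F))) ⟨y, h.yS⟩)
  · exact hn

theorem isKleinFour_sylow_psl {q : ℕ} (hF : Fintype.card F = q) (hq : q % 8 = 3 ∨ q % 8 = 5)
    (P : Sylow 2 (Matrix.ProjectiveSpecialLinearGroup (Fin 2) F)) :
    IsKleinFour (P : Subgroup (Matrix.ProjectiveSpecialLinearGroup (Fin 2) F)) := by
  subst hF
  have hodd : Odd (Fintype.card F) := Nat.odd_iff.2 (by omega)
  have hπ : Function.Surjective (QuotientGroup.mk' (Subgroup.center (SL F))) :=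
    QuotientGroup.mk'_surjective _
  obtain ⟨S, rfl⟩ := Sylow.mapSurjective_surjective hπ 2 P
  obtain ⟨T, y, w, h⟩ := exists_twoShape hodd S
  have hy : orderOf y = 4 := by
    obtain ⟨k, hk⟩ := (IsPGroup.iff_orderOf.1 S.isPGroup') ⟨y, h.yS⟩
    rw [Subgroup.orderOf_mk] at hk
    have h4 := h.four
    rw [hk] at h4 ⊢
    have h8 : ¬ 8 ∣ 2 ^ k := fun e => by
      have := h.eight.1 (hk ▸ e)
      omega
    have hk3 : k < 3 := by
      by_contra hc
      exact h8 (pow_dvd_pow 2 (not_lt.1 hc))
    interval_cases k <;> simp_all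
  have hsq : ∀ x ∈ (S : Subgroup (SL F)), x * x ∈ Subgroup.center (SL F) := by
    intro x hx
    by_cases hxT : x ∈ T
    · refine mem_center_of_mul_self hodd ?_
      obtain ⟨k, rfl⟩ := Subgroup.mem_zpowers_iff.1 (h.gen x hx hxT)
      rw [← _root_.zpow_add, ← _root_.zpow_add, show k + k + (k + k) = ((orderOf y : ℕ) : ℤ) * k by
        rw [hy]; push_cast; ring, _root_.zpow_mul, zpow_natCast, pow_orderOf_eq_one, _root_.one_zpow]
    · rw [h.sq_outer hodd hx hxT]
      exact negOne_mem_center
  have hcard : Nat.card ((S.mapSurjective hπ).toSubgroup) = 4 := by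
    have e : (Subgroup.center (SL F)) ≤ (S : Subgroup (SL F)) := by
      intro z hz
      rcases center_cases hz with rfl | rfl
      · exact one_mem _
      · rw [← h.sq_outer hodd h.wS h.wT]
        exact mul_mem h.wS h.wS
    have h8 : Nat.card (S : Subgroup (SL F)) = 8 := by rw [h.card, hy]
    have hz : Nat.card (Subgroup.center (SL F)) = 2 := by
      rw [CfsgLib.Linear.card_center_SL, Fintype.card_fin, Nat.card_eq_fintype_card (α := F)]
      exact Nat.gcd_eq_left (by omega)
    have hker : Nat.card (Subgroup.center (SL F) |>.subgroupOf (S : Subgroup (SL F))) = 2 := by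
      rw [Nat.card_congr (Subgroup.subgroupOfEquivOfLe e).toEquiv, hz]
    have hr : ((QuotientGroup.mk' (Subgroup.center (SL F))).comp (S : Subgroup (SL F)).subtype).ker =
        (Subgroup.center (SL F)).subgroupOf (S : Subgroup (SL F)) := by
      ext x
      rw [MonoidHom.mem_ker, MonoidHom.comp_apply, QuotientGroup.mk'_apply,
        QuotientGroup.eq_one_iff, Subgroup.mem_subgroupOf]
      rfl
    have := Subgroup.card_eq_card_quotient_mul_card_subgroup
      ((QuotientGroup.mk' (Subgroup.center (SL F))).comp (S : Subgroup (SL F)).subtype).ker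
    rw [Nat.card_congr (QuotientGroup.quotientKerEquivRange _).toEquiv, hr, hker, h8,
      MonoidHom.range_comp, Subgroup.range_subtype] at this
    rw [Sylow.coe_mapSurjective]
    omega
  haveI : Nontrivial ((S.mapSurjective hπ).toSubgroup) :=
    Finite.one_lt_card_iff_nontrivial.1 (hcard.symm ▸ (by norm_num))
  refine ⟨hcard, (Monoid.exponent_eq_prime_iff Nat.prime_two).2 fun g hg => ?_⟩
  refine orderOf_eq_prime ?_ hg
  obtain ⟨g, hgm⟩ := g
  rw [Sylow.coe_mapSurjective] at hgm
  obtain ⟨x, hx, rfl⟩ := hgm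
  refine Subtype.ext ?_
  change (QuotientGroup.mk' _ x) ^ 2 = 1
  rw [← map_pow, pow_two, QuotientGroup.mk'_apply, QuotientGroup.eq_one_iff]
  exact hsq x hx

/-- Multiplicativity of exponent four in `SL_2(3)`. -/
theorem pow_four_closed : ∀ a b c d a' b' c' d' : ZMod 3, a * d - b * c = 1 →
    a' * d' - b' * c' = 1 → !![a, b; c, d] ^ 4 = 1 → !![a', b'; c', d'] ^ 4 = 1 →
      (!![a, b; c, d] * !![a', b'; c', d']) ^ 4 = 1 := by
  decide +kernel

theorem card_pow_four :
    Fintype.card {g : Matrix (Fin 2) (Fin 2) (ZMod 3) // g.det = 1 ∧ g ^ 4 = 1} = 8 := by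
  decide +kernel

theorem exists_normal_quaternion (hF : Fintype.card F = 3) :
    ∃ Q : Subgroup (SL F), Q.Normal ∧ Q.index = 3 ∧ Nonempty (Q ≃* QuaternionGroup 2) := by
  classical
  let e := ZMod.ringEquivOfPrime F Nat.prime_three hF
  have hodd : Odd (Fintype.card F) := hF ▸ ⟨1, rfl⟩
  have hiff : ∀ g : SL F, g ^ 4 = 1 ↔ (mt g) ^ 4 = 1 := fun g => by
    rw [← mt_injective.eq_iff]; simp [CfsgLib.SL2C.mt, Matrix.SpecialLinearGroup.coe_pow]
  let Q : Subgroup (SL F) :=
    { carrier := {g | g ^ 4 = 1}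
      one_mem' := one_pow 4
      inv_mem' := fun {g} (hg : g ^ 4 = 1) => show g⁻¹ ^ 4 = 1 by rw [inv_pow, hg, inv_one]
      mul_mem' := fun {g k} (hg : g ^ 4 = 1) (hk : k ^ 4 = 1) => by
        show (g * k) ^ 4 = 1
        rw [hiff] at hg hk ⊢
        have hd : ∀ x : SL F, ((mt x).map e.symm) 0 0 * ((mt x).map e.symm) 1 1 -
            ((mt x).map e.symm) 0 1 * ((mt x).map e.symm) 1 0 = 1 := fun x => by
          rw [← Matrix.det_fin_two]
          exact (e.symm.toRingHom.map_det (mt x)).symm.trans (by rw [det_mt, map_one])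
        have hp : ∀ x : SL F, mt x ^ 4 = 1 → ((mt x).map e.symm) ^ 4 = 1 := fun x hx => by
          change (e.symm.toRingHom.mapMatrix (mt x)) ^ 4 = 1
          rw [← map_pow, hx, map_one]
        have := pow_four_closed _ _ _ _ _ _ _ _ (hd g) (hd k)
          (by rw [← Matrix.eta_fin_two ((mt g).map e.symm)]; exact hp g hg)
          (by rw [← Matrix.eta_fin_two ((mt k).map e.symm)]; exact hp k hk)
        rw [← Matrix.eta_fin_two, ← Matrix.eta_fin_two] at this
        change (e.symm.toRingHom.mapMatrix (mt g) * e.symm.toRingHom.mapMatrix (mt k)) ^ 4 = 1 at this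
        rw [← map_mul, ← map_pow, ← map_one e.symm.toRingHom.mapMatrix] at this
        exact Matrix.map_injective e.symm.injective this }
  have h8 : Nat.card Q = 8 := by
    rw [← card_pow_four, ← Nat.card_eq_fintype_card]
    refine (Nat.card_eq_of_bijective (fun g : {g : Matrix (Fin 2) (Fin 2) (ZMod 3) // g.det = 1 ∧ g ^ 4 = 1} =>
      (⟨⟨g.1.map e, ?_⟩, ?_⟩ : Q)) ⟨?_, ?_⟩).symm
    · exact (e.toRingHom.map_det g.1).symm.trans (by rw [g.2.1, map_one])
    · refine (hiff _).2 ?_
      change (e.toRingHom.mapMatrix g.1) ^ 4 = 1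
      rw [← map_pow, g.2.2, map_one]
    · intro g k h
      exact Subtype.ext (Matrix.map_injective e.injective (congrArg (fun x : Q => mt x.1) h))
    · rintro ⟨x, hx⟩
      refine ⟨⟨(mt x).map e.symm, ?_, ?_⟩, Subtype.ext (mt_injective ?_)⟩
      · exact (e.symm.toRingHom.map_det (mt x)).symm.trans (by rw [det_mt, map_one])
      · change (e.symm.toRingHom.mapMatrix (mt x)) ^ 4 = 1
        rw [← map_pow, (hiff x).1 hx, map_one]
      · ext i j
        simp [CfsgLib.SL2C.mt]
  refine ⟨Q, ⟨fun n hn g => ?_⟩, ?_, CfsgLib.Unitary.nonempty_mulEquiv_quaternion h8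
    (fun x => Subtype.ext x.2) fun x y hx hy hx1 hy1 => ?_⟩
  · show (g * n * g⁻¹) ^ 4 = 1
    rw [conj_pow, show n ^ 4 = 1 from hn, mul_one, mul_inv_cancel]
  · refine index_eq_of_card ?_
    rw [h8, natCard_SL_factor, hF]
  · have hh : ∀ z : Q, z ^ 2 = 1 → z ≠ 1 → (z : SL F) = negOne F := fun z hz hz1 =>
      eq_neg_one hodd (fun e => hz1 (Subtype.ext e))
        (by rw [← pow_two]; exact congrArg Subtype.val hz)
    exact Subtype.ext ((hh x hx hx1).trans (hh y hy hy1).symm)

end CfsgLib.Linear.SylowTwoSL
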