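import Cfsg.Agent.Classical.SymplecticBasic
import Mathlib.Logic.Equiv.Sum
import Mathlib.Algebra.BigOperators.Fin
import Mathlib.LinearAlgebra.FiniteDimensional.Basic
import Mathlib.GroupTheory.Coset.Card

/-!
Block embedding `Sp a × Sp b → Sp (a ⊕ b)`, hyperbolic pairs, and the order of the symplectic group.
-/

set_option autoImplicit false
set_option linter.style.haveILetI false

namespace CfsgLib.Symp

open Matrix

section blocks

variable {a b R : Type*} [Fintype a] [DecidableEq a] [Fintype b] [DecidableEq b] [CommRing R]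

/-- The `a`-coordinates. -/
def resA (v : (a ⊕ b) ⊕ (a ⊕ b) → R) : a ⊕ a → R := v ∘ Sum.map Sum.inl Sum.inl
/-- The `b`-coordinates. -/
def resB (v : (a ⊕ b) ⊕ (a ⊕ b) → R) : b ⊕ b → R := v ∘ Sum.map Sum.inr Sum.inr
/-- Vector with given `a`- and `b`-coordinates. -/
def glue (x : a ⊕ a → R) (y : b ⊕ b → R) : (a ⊕ b) ⊕ (a ⊕ b) → R :=
  Sum.elim x y ∘ Equiv.sumSumSumComm a b a b

omit [Fintype a] [DecidableEq a] [Fintype b] [DecidableEq b] [CommRing R] in
theorem resA_glue (x : a ⊕ a → R) (y : b ⊕ b → R) : resA (glue x y) = x := by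
  funext k; rcases k with i | i <;> rfl

omit [Fintype a] [DecidableEq a] [Fintype b] [DecidableEq b] [CommRing R] in
theorem resB_glue (x : a ⊕ a → R) (y : b ⊕ b → R) : resB (glue x y) = y := by
  funext k; rcases k with i | i <;> rfl

omit [Fintype a] [DecidableEq a] [Fintype b] [DecidableEq b] [CommRing R] in
theorem vec_ext {u v : (a ⊕ b) ⊕ (a ⊕ b) → R} (hA : resA u = resA v) (hB : resB u = resB v) :
    u = v := by
  funext k
  rcases k with (i | i) | (i | i)
  · exact congrFun hA (Sum.inl i)
  · exact congrFun hB (Sum.inl i)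
  · exact congrFun hA (Sum.inr i)
  · exact congrFun hB (Sum.inr i)

theorem form_split (u v : (a ⊕ b) ⊕ (a ⊕ b) → R) :
    form u v = form (resA u) (resA v) + form (resB u) (resB v) := by
  simp only [form_apply, Fintype.sum_sum_type]
  rfl

/-- Block diagonal matrix. -/
def blockMat (P : Matrix (a ⊕ a) (a ⊕ a) R) (Q : Matrix (b ⊕ b) (b ⊕ b) R) :
    Matrix ((a ⊕ b) ⊕ (a ⊕ b)) ((a ⊕ b) ⊕ (a ⊕ b)) R :=
  (Matrix.fromBlocks P 0 0 Q).submatrix (Equiv.sumSumSumComm a b a b) (Equiv.sumSumSumComm a b a b)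

theorem blockMat_mulVec (P : Matrix (a ⊕ a) (a ⊕ a) R) (Q : Matrix (b ⊕ b) (b ⊕ b) R)
    (v : (a ⊕ b) ⊕ (a ⊕ b) → R) :
    blockMat P Q *ᵥ v = glue (P *ᵥ resA v) (Q *ᵥ resB v) := by
  have hv : v ∘ (Equiv.sumSumSumComm a b a b).symm = Sum.elim (resA v) (resB v) := by
    funext k; rcases k with (i | i) | (i | i) <;> rfl
  rw [blockMat, Matrix.submatrix_mulVec_equiv, hv, Matrix.fromBlocks_mulVec]
  simp [glue, Sum.elim_comp_inl, Sum.elim_comp_inr]

theorem blockMat_mem {P : Matrix (a ⊕ a) (a ⊕ a) R} {Q : Matrix (b ⊕ b) (b ⊕ b) R}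
    (hP : P ∈ Matrix.symplecticGroup a R) (hQ : Q ∈ Matrix.symplecticGroup b R) :
    blockMat P Q ∈ Matrix.symplecticGroup (a ⊕ b) R := by
  rw [mem_iff_form]
  intro u v
  rw [blockMat_mulVec, blockMat_mulVec, form_split, resA_glue, resA_glue, resB_glue, resB_glue,
    mem_iff_form.mp hP, mem_iff_form.mp hQ, ← form_split]

/-- `Sp a × Sp b → Sp (a ⊕ b)`. -/
def blockHom : Matrix.symplecticGroup a R × Matrix.symplecticGroup b R →*
    Matrix.symplecticGroup (a ⊕ b) R where
  toFun p := ⟨blockMat p.1.1 p.2.1, blockMat_mem p.1.2 p.2.2⟩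
  map_one' := Subtype.ext (by simp [blockMat, Matrix.fromBlocks_one])
  map_mul' p r := Subtype.ext (by
    simp [blockMat, Matrix.submatrix_mul_equiv, Matrix.fromBlocks_multiply])

theorem blockHom_smul (p : Matrix.symplecticGroup a R × Matrix.symplecticGroup b R)
    (v : (a ⊕ b) ⊕ (a ⊕ b) → R) :
    blockHom p • v = glue (p.1 • resA v) (p.2 • resB v) := blockMat_mulVec _ _ _

theorem blockHom_injective : Function.Injective (blockHom (a := a) (b := b) (R := R)) := by
  intro p r h
  have key : ∀ (x : a ⊕ a → R) (y : b ⊕ b → R), glue (p.1 • x) (p.2 • y) = glue (r.1 • x) (r.2 • y) := fun x y => by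
    have := congrArg (fun g : Matrix.symplecticGroup (a ⊕ b) R => g • glue x y) h
    simpa only [blockHom_smul, resA_glue, resB_glue] using this
  refine Prod.ext (symp_ext fun x => ?_) (symp_ext fun y => ?_)
  · simpa [resA_glue] using congrArg resA (key x 0)
  · simpa [resB_glue] using congrArg resB (key 0 y)

/-- Reindexing the symplectic group. -/
def congrSp (e : a ≃ b) : Matrix.symplecticGroup a R ≃* Matrix.symplecticGroup b R where
  toFun g := ⟨Matrix.reindex (Equiv.sumCongr e e) (Equiv.sumCongr e e) g.1, by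
    have h : Matrix.J b R = (Matrix.J a R).submatrix (Equiv.sumCongr e e).symm
        (Equiv.sumCongr e e).symm := by
      ext i j; rcases i with i | i <;> rcases j with j | j <;>
        simp [Matrix.J, Matrix.one_apply]
    rw [SymplecticGroup.mem_iff, h, Matrix.reindex_apply, Matrix.transpose_submatrix,
      Matrix.submatrix_mul_equiv, Matrix.submatrix_mul_equiv, SymplecticGroup.mem_iff.mp g.2]⟩
  invFun g := ⟨Matrix.reindex (Equiv.sumCongr e e).symm (Equiv.sumCongr e e).symm g.1, by
    have h : Matrix.J a R = (Matrix.J b R).submatrix (Equiv.sumCongr e e)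
        (Equiv.sumCongr e e) := by
      ext i j; rcases i with i | i <;> rcases j with j | j <;>
        simp [Matrix.J, Matrix.one_apply]
    rw [SymplecticGroup.mem_iff, h, Matrix.reindex_apply, Equiv.symm_symm,
      Matrix.transpose_submatrix, Matrix.submatrix_mul_equiv, Matrix.submatrix_mul_equiv,
      SymplecticGroup.mem_iff.mp g.2]⟩
  left_inv g := Subtype.ext (by ext (i | i) (j | j) <;> simp)
  right_inv g := Subtype.ext (by ext (i | i) (j | j) <;> simp)
  map_mul' g h := Subtype.ext (by simp [Matrix.submatrix_mul_equiv])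

end blocks

section field

variable {a b F : Type*} [Fintype a] [DecidableEq a] [Fintype b] [DecidableEq b] [Field F]

theorem mem_range_blockHom_iff {g : Matrix.symplecticGroup (a ⊕ b) F} :
    g ∈ (blockHom (a := a) (b := b) (R := F)).range ↔
      ∀ x : a ⊕ a → F, resB (g • glue x (0 : b ⊕ b → F)) = 0 := by
  constructor
  · rintro ⟨p, rfl⟩ x
    rw [blockHom_smul, resB_glue, resB_glue, smul_zero]
  intro hg
  let P : (a ⊕ a → F) →ₗ[F] (a ⊕ a → F) :=
    { toFun := fun x => resA (g • glue x (0 : b ⊕ b → F))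
      map_add' := fun x y => by
        have : glue (x + y) (0 : b ⊕ b → F) = glue x 0 + glue y 0 :=
          vec_ext (by funext k; rcases k with i | i <;> rfl)
            (by funext k; rcases k with i | i <;> simp [resB, glue])
        rw [this, smul_add]; rfl
      map_smul' := fun c x => by
        have : glue (c • x) (0 : b ⊕ b → F) = c • glue x 0 :=
          vec_ext (by funext k; rcases k with i | i <;> rfl)
            (by funext k; rcases k with i | i <;> simp [resB, glue])
        rw [this, smul_comm g c]; rfl }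
  have hP : ∀ x y, form (P x) (P y) = form x y := by
    intro x y
    have := form_smul_smul g (glue x (0 : b ⊕ b → F)) (glue y (0 : b ⊕ b → F))
    simpa [form_split, hg, resA_glue, resB_glue, form_zero_left, P] using this
  have hPinj : Function.Injective P := by
    rw [← LinearMap.ker_eq_bot, LinearMap.ker_eq_bot']
    intro x hx
    refine eq_zero_of_form_eq_zero fun u => ?_
    rw [← hP, hx, form_zero_right]
  have hPsurj : Function.Surjective P := LinearMap.surjective_of_injective hPinj
  have hB : ∀ y : b ⊕ b → F, resA (g • glue (0 : a ⊕ a → F) y) = 0 := by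
    intro y
    refine eq_zero_of_form_eq_zero fun u => ?_
    obtain ⟨x, rfl⟩ := hPsurj u
    have := form_smul_smul g (glue x (0 : b ⊕ b → F)) (glue (0 : a ⊕ a → F) y)
    simpa [form_split, hg, resA_glue, resB_glue, form_zero_left, form_zero_right, P] using this
  let Q : (b ⊕ b → F) →ₗ[F] (b ⊕ b → F) :=
    { toFun := fun y => resB (g • glue (0 : a ⊕ a → F) y)
      map_add' := fun x y => by
        have : glue (0 : a ⊕ a → F) (x + y) = glue 0 x + glue 0 y :=
          vec_ext (by funext k; rcases k with i | i <;> simp [resA, glue])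
            (by funext k; rcases k with i | i <;> rfl)
        rw [this, smul_add]; rfl
      map_smul' := fun c x => by
        have : glue (0 : a ⊕ a → F) (c • x) = c • glue 0 x :=
          vec_ext (by funext k; rcases k with i | i <;> simp [resA, glue])
            (by funext k; rcases k with i | i <;> rfl)
        rw [this, smul_comm g c]; rfl }
  have hQ : ∀ x y, form (Q x) (Q y) = form x y := by
    intro x y
    have := form_smul_smul g (glue (0 : a ⊕ a → F) x) (glue (0 : a ⊕ a → F) y)
    simpa [form_split, hB, resA_glue, resB_glue, form_zero_left, Q] using this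
  have hPm : LinearMap.toMatrix' P ∈ Matrix.symplecticGroup a F :=
    mem_iff_form.mpr fun x y => by simp only [LinearMap.toMatrix'_mulVec]; exact hP x y
  have hQm : LinearMap.toMatrix' Q ∈ Matrix.symplecticGroup b F :=
    mem_iff_form.mpr fun x y => by simp only [LinearMap.toMatrix'_mulVec]; exact hQ x y
  refine ⟨(⟨_, hPm⟩, ⟨_, hQm⟩), symp_ext fun v => ?_⟩
  have hv : v = glue (resA v) (0 : b ⊕ b → F) + glue (0 : a ⊕ a → F) (resB v) :=
    vec_ext (by funext k; rcases k with i | i <;> simp [resA, glue])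
      (by funext k; rcases k with i | i <;> simp [resB, glue])
  rw [blockHom_smul]
  conv_rhs => rw [hv, smul_add]
  have e1 : (⟨_, hPm⟩ : Matrix.symplecticGroup a F) • resA v = P (resA v) :=
    LinearMap.toMatrix'_mulVec P _
  have e2 : (⟨_, hQm⟩ : Matrix.symplecticGroup b F) • resB v = Q (resB v) :=
    LinearMap.toMatrix'_mulVec Q _
  dsimp only
  rw [e1, e2]
  refine vec_ext ?_ ?_
  · rw [resA_glue]
    conv_rhs => rw [show ∀ p r : (a ⊕ b) ⊕ (a ⊕ b) → F, resA (p + r) = resA p + resA r from
      fun _ _ => rfl, hB, add_zero]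
    rfl
  · rw [resB_glue]
    conv_rhs => rw [show ∀ p r : (a ⊕ b) ⊕ (a ⊕ b) → F, resB (p + r) = resB p + resB r from
      fun _ _ => rfl, hg, zero_add]
    rfl

theorem card_form_eq_one [Finite F] {l : Type*} [Fintype l] [DecidableEq l] {u : l ⊕ l → F}
    (hu : u ≠ 0) :
    Nat.card F * Nat.card {v : l ⊕ l → F // form u v = 1} = Nat.card (l ⊕ l → F) := by
  let φ : (l ⊕ l → F) →+ F :=
    { toFun := form u, map_zero' := form_zero_right u, map_add' := form_add_right u }
  obtain ⟨v0, hv0⟩ := exists_form_eq_one hu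
  have hsurj : Function.Surjective φ := fun c =>
    ⟨c • v0, by simp [φ, form_smul_right, hv0]⟩
  have h1 : Nat.card φ.ker = Nat.card {v : l ⊕ l → F // form u v = 1} :=
    Nat.card_congr ((Equiv.addRight v0).subtypeEquiv fun x => by
      simp [φ, AddMonoidHom.mem_ker, form_add_right, hv0])
  have h2 := AddSubgroup.card_mul_index φ.ker
  rw [AddSubgroup.index_ker, AddMonoidHom.range_eq_top.mpr hsurj, AddSubgroup.card_top,
    mul_comm, h1] at h2
  exact h2

theorem card_succ [Finite F] :
    Nat.card F * Nat.card (Matrix.symplecticGroup (Unit ⊕ b) F) =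
      (Nat.card ((Unit ⊕ b) ⊕ (Unit ⊕ b) → F) - 1) * Nat.card ((Unit ⊕ b) ⊕ (Unit ⊕ b) → F) *
        Nat.card (Matrix.symplecticGroup b F) := by
  classical
  have hEF : form (Pi.single (Sum.inr (Sum.inl ())) (1 : F) : (Unit ⊕ b) ⊕ (Unit ⊕ b) → F)
      (Pi.single (Sum.inl (Sum.inl ())) 1) = 1 := by simp [form_single_inr]
  set e₀ : (Unit ⊕ b) ⊕ (Unit ⊕ b) → F := Pi.single (Sum.inr (Sum.inl ())) 1 with he
  set f₀ : (Unit ⊕ b) ⊕ (Unit ⊕ b) → F := Pi.single (Sum.inl (Sum.inl ())) 1 with hf
  let X := Σ u : {u : (Unit ⊕ b) ⊕ (Unit ⊕ b) → F // u ≠ 0},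
    {v : (Unit ⊕ b) ⊕ (Unit ⊕ b) → F // form u.1 v = 1}
  have he0 : e₀ ≠ 0 := Pi.single_ne_zero_iff.mpr one_ne_zero
  let orb : Matrix.symplecticGroup (Unit ⊕ b) F → X := fun g =>
    ⟨⟨g • e₀, smul_ne_zero_iff_ne g |>.mpr he0⟩, g • f₀, by rw [form_smul_smul]; exact hEF⟩
  have hX : ∀ {x y : X}, x.1.1 = y.1.1 → x.2.1 = y.2.1 → x = y := by
    rintro ⟨⟨u, hu⟩, v, hv⟩ ⟨⟨u', hu'⟩, v', hv'⟩ (rfl : u = u') (rfl : v = v')
    rfl
  have horb : Function.Surjective orb := by
    rintro ⟨⟨u, hu⟩, v, hv⟩
    obtain ⟨g, -, g1, g2⟩ := exists_tvGroup_smul_pair (W := ⊤) (u := e₀) (v := f₀)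
      trivial trivial trivial trivial hEF hv
    exact ⟨g, hX g1 g2⟩
  let ι : Matrix.symplecticGroup b F →* Matrix.symplecticGroup (Unit ⊕ b) F :=
    (blockHom (a := Unit) (b := b) (R := F)).comp (MonoidHom.inr _ _)
  have hιinj : Function.Injective ι := fun x y h => by
    simpa using blockHom_injective (a := Unit) (R := F) h
  have hres : resB e₀ = 0 ∧ resB f₀ = 0 := by
    constructor <;> funext k <;> rcases k with i | i <;> simp [resB, he, hf]
  have hfix : ∀ g, g ∈ ι.range ↔ g • e₀ = e₀ ∧ g • f₀ = f₀ := by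
    intro g
    constructor
    · rintro ⟨y, rfl⟩
      constructor <;>
      · change blockHom (1, y) • _ = _
        rw [blockHom_smul, one_smul]
        refine vec_ext (resA_glue _ _) ?_
        rw [resB_glue]
        simp [hres]
    · rintro ⟨h1, h2⟩
      have hspan : ∀ x : Unit ⊕ Unit → F, glue x (0 : b ⊕ b → F) =
          x (Sum.inr ()) • e₀ + x (Sum.inl ()) • f₀ := by
        intro x
        refine vec_ext ?_ ?_ <;> funext k <;> rcases k with i | i <;>
          simp [resA, resB, glue, he, hf]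
      have hfixA : ∀ x : Unit ⊕ Unit → F, g • glue x (0 : b ⊕ b → F) = glue x 0 := by
        intro x; rw [hspan, smul_add, smul_comm g, smul_comm g, h1, h2]
      obtain ⟨⟨p, y⟩, rfl⟩ := mem_range_blockHom_iff.mpr
        (fun x => by rw [hfixA, resB_glue] : ∀ x, resB (g • glue x (0 : b ⊕ b → F)) = 0)
      refine ⟨y, ?_⟩
      have : p = 1 := symp_ext fun x => by
        have := congrArg resA (hfixA x)
        simpa [blockHom_smul, resA_glue] using this
      simp [ι, this]
  let e : Matrix.symplecticGroup (Unit ⊕ b) F ⧸ ι.range ≃ X :=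
    Equiv.ofBijective (Quotient.lift orb (fun g g' hgg => by
      obtain ⟨h1, h2⟩ := (hfix _).mp (QuotientGroup.leftRel_apply.mp hgg)
      refine hX ?_ ?_
      · change g • e₀ = g' • e₀
        rw [mul_smul, inv_smul_eq_iff] at h1
        exact h1.symm
      · change g • f₀ = g' • f₀
        rw [mul_smul, inv_smul_eq_iff] at h2
        exact h2.symm))
      ⟨by
        intro x y
        induction x using Quotient.inductionOn with | h g =>
        induction y using Quotient.inductionOn with | h g' =>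
        intro h
        refine QuotientGroup.eq.mpr ((hfix _).mpr ⟨?_, ?_⟩)
        · rw [mul_smul, inv_smul_eq_iff]
          exact (congrArg (fun x : X => x.1.1) h).symm
        · rw [mul_smul, inv_smul_eq_iff]
          exact (congrArg (fun x : X => x.2.1) h).symm,
       fun x => by obtain ⟨g, rfl⟩ := horb x; exact ⟨QuotientGroup.mk g, rfl⟩⟩
  have hιcard : Nat.card ι.range = Nat.card (Matrix.symplecticGroup b F) :=
    (Nat.card_congr (MonoidHom.ofInjective hιinj).toEquiv).symm
  have hG := Subgroup.card_eq_card_quotient_mul_card_subgroup ι.range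
  haveI := Fintype.ofFinite {u : (Unit ⊕ b) ⊕ (Unit ⊕ b) → F // u ≠ 0}
  rw [hιcard, Nat.card_congr e, Nat.card_sigma] at hG
  rw [hG, ← mul_assoc, Finset.mul_sum, Finset.sum_congr rfl (fun u _ => card_form_eq_one u.2),
    Finset.sum_const, smul_eq_mul, Finset.card_univ, ← Nat.card_eq_fintype_card]
  congr 2
  haveI := Fintype.ofFinite F
  rw [Nat.card_eq_fintype_card, Nat.card_eq_fintype_card, Fintype.card_subtype_compl,
    Fintype.card_subtype_eq]

theorem card_Sp [Finite F] (m : ℕ) :
    Nat.card (Matrix.symplecticGroup (Fin m) F) =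
      Nat.card F ^ (m ^ 2) * ∏ i ∈ Finset.range m, (Nat.card F ^ (2 * (i + 1)) - 1) := by
  induction m with
  | zero =>
    haveI : Subsingleton (Matrix.symplecticGroup (Fin 0) F) :=
      ⟨fun x y => Subtype.ext (Subsingleton.elim _ _)⟩
    rw [Nat.card_of_subsingleton 1]; simp
  | succ m ih =>
    have e : Fin (m + 1) ≃ Unit ⊕ Fin m :=
      (finSuccEquiv m).trans ((Equiv.optionEquivSumPUnit.{0} _).trans (Equiv.sumComm _ _))
    have hq : 0 < Nat.card F := Nat.card_pos
    apply Nat.eq_of_mul_eq_mul_left hq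
    rw [Nat.card_congr (congrSp e).toEquiv, card_succ, ih, Nat.card_fun, Nat.card_sum,
      Nat.card_sum, Nat.card_eq_fintype_card (α := Unit), Fintype.card_unit, Nat.card_fin, Finset.prod_range_succ]
    rw [show 1 + m + (1 + m) = 2 * (m + 1) by ring]
    rw [show (m + 1) ^ 2 = m ^ 2 + (2 * m + 1) by ring, pow_add]
    have : Nat.card F * Nat.card F ^ (2 * m + 1) = Nat.card F ^ (2 * (m + 1)) := by
      rw [← pow_succ']; ring_nf
    generalize ∏ i ∈ Finset.range m, (Nat.card F ^ (2 * (i + 1)) - 1) = P at *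
    generalize Nat.card F ^ (2 * (m + 1)) - 1 = M at *
    rw [← this]
    ring

end field

end CfsgLib.Symp
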