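import Mathlib.LinearAlgebra.SymplecticGroup
import Mathlib.LinearAlgebra.Matrix.ToLin
import Mathlib.GroupTheory.GroupAction.Defs
import Mathlib.Algebra.Ring.Action.Submonoid
import Mathlib.GroupTheory.SpecificGroups.Cyclic
import Mathlib.RingTheory.IntegralDomain
import Mathlib.LinearAlgebra.Center

/-!
The symplectic form on column vectors, symplectic transvections, transitivity and generation.
-/

set_option autoImplicit false
set_option linter.style.haveILetI false

namespace CfsgLib.Symp

open Matrix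

section ring

variable {l R : Type*} [Fintype l] [DecidableEq l] [CommRing R]

/-- The alternating form of `Matrix.J`. -/
def form (u v : l ⊕ l → R) : R := u ⬝ᵥ (Matrix.J l R *ᵥ v)

theorem J_mulVec_inl (v : l ⊕ l → R) (i : l) :
    (Matrix.J l R *ᵥ v) (Sum.inl i) = -v (Sum.inr i) := by
  simp [Matrix.J, Matrix.mulVec, dotProduct, Matrix.one_apply, Fintype.sum_sum_type]

theorem J_mulVec_inr (v : l ⊕ l → R) (i : l) :
    (Matrix.J l R *ᵥ v) (Sum.inr i) = v (Sum.inl i) := by
  simp [Matrix.J, Matrix.mulVec, dotProduct, Matrix.one_apply, Fintype.sum_sum_type]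

theorem form_apply (u v : l ⊕ l → R) :
    form u v = ∑ i, (u (Sum.inr i) * v (Sum.inl i) - u (Sum.inl i) * v (Sum.inr i)) := by
  simp only [form, dotProduct, Fintype.sum_sum_type, J_mulVec_inl, J_mulVec_inr, mul_neg,
    Finset.sum_neg_distrib, Finset.sum_sub_distrib]
  ring

theorem form_self (u : l ⊕ l → R) : form u u = 0 := by
  rw [form_apply]; refine Finset.sum_eq_zero fun i _ => ?_; ring

theorem form_swap (u v : l ⊕ l → R) : form u v = -form v u := by
  simp only [form_apply, ← Finset.sum_neg_distrib]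
  exact Finset.sum_congr rfl fun i _ => by ring

theorem form_add_left (u u' v : l ⊕ l → R) : form (u + u') v = form u v + form u' v := by
  simp [form, add_dotProduct]

theorem form_sub_left (u u' v : l ⊕ l → R) : form (u - u') v = form u v - form u' v := by
  simp [form, sub_dotProduct]

theorem form_smul_left (c : R) (u v : l ⊕ l → R) : form (c • u) v = c * form u v := by
  simp [form, smul_dotProduct]

theorem form_add_right (u v v' : l ⊕ l → R) : form u (v + v') = form u v + form u v' := by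
  simp [form, Matrix.mulVec_add, dotProduct_add]

theorem form_sub_right (u v v' : l ⊕ l → R) : form u (v - v') = form u v - form u v' := by
  simp [form, Matrix.mulVec_sub, dotProduct_sub]

theorem form_smul_right (c : R) (u v : l ⊕ l → R) : form u (c • v) = c * form u v := by
  simp [form, Matrix.mulVec_smul, dotProduct_smul]

theorem form_zero_left (v : l ⊕ l → R) : form 0 v = 0 := by simp [form]
theorem form_zero_right (v : l ⊕ l → R) : form v 0 = 0 := by simp [form]

theorem form_single_inl (i : l) (c : R) (v : l ⊕ l → R) :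
    form (Pi.single (Sum.inl i) c) v = -(c * v (Sum.inr i)) := by
  simp [form, J_mulVec_inl]

theorem form_single_inr (i : l) (c : R) (v : l ⊕ l → R) :
    form (Pi.single (Sum.inr i) c) v = c * v (Sum.inl i) := by
  simp [form, J_mulVec_inr]

theorem eq_zero_of_form_eq_zero {v : l ⊕ l → R} (h : ∀ u, form u v = 0) : v = 0 := by
  funext k
  rcases k with i | i
  · simpa [form_single_inr] using h (Pi.single (Sum.inr i) 1)
  · simpa [form_single_inl] using h (Pi.single (Sum.inl i) 1)

theorem mem_iff_form {A : Matrix (l ⊕ l) (l ⊕ l) R} :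
    A ∈ Matrix.symplecticGroup l R ↔ ∀ u v, form (A *ᵥ u) (A *ᵥ v) = form u v := by
  have h : ∀ u v, form (A *ᵥ u) (A *ᵥ v) = u ⬝ᵥ ((Aᵀ * Matrix.J l R * A) *ᵥ v) := by
    intro u v
    rw [form, Matrix.mulVec_mulVec, dotProduct_comm (A *ᵥ u), Matrix.dotProduct_mulVec,
      dotProduct_comm, ← Matrix.mulVec_transpose, Matrix.mulVec_mulVec, Matrix.mul_assoc]
  rw [SymplecticGroup.mem_iff']
  constructor
  · intro hA u v; rw [h, hA]; rfl
  · intro hA
    ext i j
    have := (h (Pi.single i 1) (Pi.single j 1)).symm.trans (hA (Pi.single i 1) (Pi.single j 1))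
    simpa [form] using this

theorem form_smul_smul (g : Matrix.symplecticGroup l R) (u v : l ⊕ l → R) :
    form (g • u) (g • v) = form u v := mem_iff_form.mp g.2 u v

/-- The matrix of `x ↦ x + c * form x v • v`. -/
def tvMat (v : l ⊕ l → R) (c : R) : Matrix (l ⊕ l) (l ⊕ l) R :=
  1 + c • Matrix.vecMulVec v (Matrix.J l R *ᵥ v)

theorem tvMat_mulVec (v : l ⊕ l → R) (c : R) (x : l ⊕ l → R) :
    tvMat v c *ᵥ x = x + (c * form x v) • v := by
  rw [tvMat, Matrix.add_mulVec, Matrix.one_mulVec, Matrix.smul_mulVec, Matrix.vecMulVec_mulVec,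
    op_smul_eq_smul, smul_smul, form, dotProduct_comm]

theorem tvMat_mem (v : l ⊕ l → R) (c : R) : tvMat v c ∈ Matrix.symplecticGroup l R := by
  rw [mem_iff_form]
  intro a b
  simp only [tvMat_mulVec, form_add_left, form_add_right, form_smul_left, form_smul_right,
    form_self]
  rw [form_swap v b]
  ring

/-- Symplectic transvection. -/
def tv (v : l ⊕ l → R) (c : R) : Matrix.symplecticGroup l R := ⟨tvMat v c, tvMat_mem v c⟩

theorem tv_smul (v : l ⊕ l → R) (c : R) (x : l ⊕ l → R) :
    tv v c • x = x + (c * form x v) • v := tvMat_mulVec v c x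

theorem symp_ext {g h : Matrix.symplecticGroup l R} (e : ∀ x : l ⊕ l → R, g • x = h • x) :
    g = h := Subtype.ext (Matrix.ext_iff_smul.mpr e)

theorem tv_add (v : l ⊕ l → R) (c d : R) : tv v c * tv v d = tv v (c + d) := by
  refine symp_ext fun x => ?_
  rw [mul_smul]
  simp only [tv_smul, form_add_left, form_smul_left, form_self, mul_zero, add_zero]
  rw [add_assoc, ← add_smul]
  congr 2
  ring

theorem tv_zero (v : l ⊕ l → R) : tv v (0 : R) = 1 := by
  refine symp_ext fun x => ?_
  simp [tv_smul]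

theorem tv_inv (v : l ⊕ l → R) (c : R) : (tv v c)⁻¹ = tv v (-c) := by
  rw [inv_eq_iff_mul_eq_one, tv_add, add_neg_cancel, tv_zero]

theorem tv_conj (g : Matrix.symplecticGroup l R) (v : l ⊕ l → R) (c : R) :
    g * tv v c * g⁻¹ = tv (g • v) c := by
  refine symp_ext fun x => ?_
  rw [mul_smul, mul_smul, tv_smul, tv_smul, smul_add, smul_inv_smul,
    smul_comm g (c * form (g⁻¹ • x) v) v]
  congr 3
  conv_rhs => rw [← smul_inv_smul g x, form_smul_smul]

theorem tv_smul_vec (v : l ⊕ l → R) (a c : R) : tv (a • v) c = tv v (a ^ 2 * c) := by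
  refine symp_ext fun x => ?_
  simp only [tv_smul, form_smul_right, smul_smul]
  congr 2
  ring

end ring

section field

variable {l F : Type*} [Fintype l] [DecidableEq l] [Field F]

/-- Subgroup generated by the transvections with centre in `W`. -/
def tvGroup (W : Submodule F (l ⊕ l → F)) : Subgroup (Matrix.symplecticGroup l F) :=
  Subgroup.closure {g | ∃ w ∈ W, ∃ c : F, g = tv w c}

theorem tv_mem_tvGroup {W : Submodule F (l ⊕ l → F)} {w : l ⊕ l → F} (hw : w ∈ W) (c : F) :
    tv w c ∈ tvGroup W := Subgroup.subset_closure ⟨w, hw, c, rfl⟩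

theorem tvGroup_mono {W W' : Submodule F (l ⊕ l → F)} (h : W ≤ W') : tvGroup W ≤ tvGroup W' :=
  Subgroup.closure_mono fun _ ⟨w, hw, c, hg⟩ => ⟨w, h hw, c, hg⟩

theorem tvGroup_fix {W : Submodule F (l ⊕ l → F)} {g : Matrix.symplecticGroup l F}
    (hg : g ∈ tvGroup W) {x : l ⊕ l → F} (hx : ∀ w ∈ W, form x w = 0) : g • x = x := by
  induction hg using Subgroup.closure_induction with
  | mem g hg => obtain ⟨w, hw, c, rfl⟩ := hg; simp [tv_smul, hx w hw]
  | one => rw [one_smul]
  | mul a b _ _ ha hb => rw [mul_smul, hb, ha]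
  | inv a _ ha => conv_lhs => rw [← ha, inv_smul_smul]

/-- One transvection carries `u` to `v` when they are not orthogonal. -/
theorem tv_move {W : Submodule F (l ⊕ l → F)} {u v : l ⊕ l → F} (hu : u ∈ W) (hv : v ∈ W)
    (h : form u v ≠ 0) :
    ∃ g ∈ tvGroup W, g • u = v ∧ ∀ x, form x u = form x v → g • x = x := by
  refine ⟨tv (v - u) (form u v)⁻¹, tv_mem_tvGroup (W.sub_mem hv hu) _, ?_, fun x hx => ?_⟩
  · rw [tv_smul, form_sub_right, form_self, sub_zero, inv_mul_cancel₀ h, one_smul,
      add_sub_cancel]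
  · rw [tv_smul, form_sub_right, hx, sub_self, mul_zero, zero_smul, add_zero]

theorem exists_tvGroup_smul {W : Submodule F (l ⊕ l → F)} {u v : l ⊕ l → F}
    (hu : u ∈ W) (hv : v ∈ W) (hu' : ∃ w ∈ W, form u w ≠ 0) (hv' : ∃ w ∈ W, form v w ≠ 0) :
    ∃ g ∈ tvGroup W, g • u = v := by
  by_cases h : form u v = 0
  · obtain ⟨w, hwW, hw1, hw2⟩ : ∃ w ∈ W, form u w ≠ 0 ∧ form v w ≠ 0 := by
      obtain ⟨a, haW, ha⟩ := hu'
      obtain ⟨b, hbW, hb⟩ := hv'
      by_cases ha2 : form v a = 0
      · by_cases hb2 : form u b = 0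
        · exact ⟨a + b, W.add_mem haW hbW, by rw [form_add_right, hb2, add_zero]; exact ha,
            by rw [form_add_right, ha2, zero_add]; exact hb⟩
        · exact ⟨b, hbW, hb2, hb⟩
      · exact ⟨a, haW, ha, ha2⟩
    obtain ⟨g1, hg1, e1, -⟩ := tv_move hu hwW hw1
    obtain ⟨g2, hg2, e2, -⟩ := tv_move hwW hv (by rwa [form_swap, neg_ne_zero])
    exact ⟨g2 * g1, mul_mem hg2 hg1, by rw [mul_smul, e1, e2]⟩
  · obtain ⟨g, hg, e, -⟩ := tv_move hu hv h
    exact ⟨g, hg, e⟩

theorem tvGroup_sub_mem {W : Submodule F (l ⊕ l → F)} {g : Matrix.symplecticGroup l F}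
    (hg : g ∈ tvGroup W) (x : l ⊕ l → F) : g • x - x ∈ W := by
  induction hg using Subgroup.closure_induction generalizing x with
  | mem g hg =>
    obtain ⟨w, hw, c, rfl⟩ := hg
    rw [tv_smul, add_sub_cancel_left]; exact W.smul_mem _ hw
  | one => rw [one_smul, sub_self]; exact W.zero_mem
  | mul p r _ _ hp hr =>
    have := W.add_mem (hp (r • x)) (hr x)
    rwa [sub_add_sub_cancel, ← mul_smul] at this
  | inv p _ hp =>
    have := W.neg_mem (hp (p⁻¹ • x))
    rwa [smul_inv_smul, neg_sub] at this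

theorem exists_tvGroup_smul_pair {W : Submodule F (l ⊕ l → F)} {u v u' v' : l ⊕ l → F}
    (hu : u ∈ W) (hv : v ∈ W) (hu' : u' ∈ W) (hv' : v' ∈ W) (h : form u v = 1)
    (h' : form u' v' = 1) : ∃ g ∈ tvGroup W, g • u = u' ∧ g • v = v' := by
  obtain ⟨g, hg, e⟩ := exists_tvGroup_smul hu hu' ⟨v, hv, by simp [h]⟩ ⟨v', hv', by simp [h']⟩
  have hgv : g • v ∈ W := by
    have := W.add_mem (tvGroup_sub_mem hg v) hv
    rwa [sub_add_cancel] at this
  have hf : form u' (g • v) = 1 := by rw [← e, form_smul_smul, h]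
  by_cases hc : form (g • v) v' = 0
  · obtain ⟨k1, hk1, e1, f1⟩ := tv_move (v := g • v + u') hgv (W.add_mem hgv hu') (by
      rw [form_add_right, form_self, zero_add, form_swap, hf]; simp)
    obtain ⟨k2, hk2, e2, f2⟩ := tv_move (u := g • v + u') (W.add_mem hgv hu') hv' (by
      rw [form_add_left, hc, h', zero_add]; exact one_ne_zero)
    refine ⟨k2 * k1 * g, mul_mem (mul_mem hk2 hk1) hg, ?_, ?_⟩
    · rw [mul_smul, mul_smul, e, f1 u' (by rw [form_add_right, form_self, add_zero]),
        f2 u' (by rw [form_add_right, form_self, add_zero, hf, h'])]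
    · rw [mul_smul, mul_smul, e1, e2]
  · obtain ⟨k, hk, e1, f1⟩ := tv_move hgv hv' hc
    refine ⟨k * g, mul_mem hk hg, ?_, ?_⟩
    · rw [mul_smul, e, f1 u' (by rw [hf, h'])]
    · rw [mul_smul, e1]

theorem exists_form_ne_zero {v : l ⊕ l → F} (hv : v ≠ 0) : ∃ w, form v w ≠ 0 := by
  by_contra hc
  push Not at hc
  exact hv (eq_zero_of_form_eq_zero fun u => by rw [form_swap, hc, neg_zero])

theorem exists_form_eq_one {v : l ⊕ l → F} (hv : v ≠ 0) : ∃ w, form v w = 1 := by
  obtain ⟨w, hw⟩ := exists_form_ne_zero hv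
  exact ⟨(form v w)⁻¹ • w, by rw [form_smul_right, inv_mul_cancel₀ hw]⟩

theorem exists_smul_eq_of_ne_zero {u v : l ⊕ l → F} (hu : u ≠ 0) (hv : v ≠ 0) :
    ∃ g : Matrix.symplecticGroup l F, g • u = v := by
  obtain ⟨a, ha⟩ := exists_form_ne_zero hu
  obtain ⟨b, hb⟩ := exists_form_ne_zero hv
  obtain ⟨g, -, hg⟩ := exists_tvGroup_smul (W := ⊤) trivial trivial ⟨a, trivial, ha⟩
    ⟨b, trivial, hb⟩ (u := u) (v := v)
  exact ⟨g, hg⟩

/-- Vectors supported outside `s`. -/
def coordSub (s : Finset l) : Submodule F (l ⊕ l → F) where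
  carrier := {v | ∀ i ∈ s, v (Sum.inl i) = 0 ∧ v (Sum.inr i) = 0}
  zero_mem' := by simp
  add_mem' {a b} ha hb := fun i hi => by simp [ha i hi, hb i hi]
  smul_mem' c a ha := fun i hi => by simp [ha i hi]

theorem exists_fix (s : Finset l) (g : Matrix.symplecticGroup l F) :
    ∃ t ∈ tvGroup (⊤ : Submodule F (l ⊕ l → F)), ∀ i ∈ s,
      (t * g) • (Pi.single (Sum.inl i) 1 : l ⊕ l → F) = Pi.single (Sum.inl i) 1 ∧
      (t * g) • (Pi.single (Sum.inr i) 1 : l ⊕ l → F) = Pi.single (Sum.inr i) 1 := by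
  induction s using Finset.induction_on with
  | empty => exact ⟨1, one_mem _, by simp⟩
  | insert a s ha ih =>
    obtain ⟨t, ht, hfix⟩ := ih
    have hE : ∀ k, k = Sum.inl a ∨ k = Sum.inr a →
        (Pi.single k 1 : l ⊕ l → F) ∈ coordSub s := by
      rintro k (rfl | rfl) i hi <;>
      · have : i ≠ a := fun e => ha (e ▸ hi)
        simp [this]
    have hmem : ∀ k, k = Sum.inl a ∨ k = Sum.inr a →
        (t * g) • (Pi.single k 1 : l ⊕ l → F) ∈ coordSub s := by
      intro k hk i hi
      obtain ⟨e1, e2⟩ := hE k hk i hi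
      obtain ⟨f1, f2⟩ := hfix i hi
      have h1 := form_smul_smul (t * g) (Pi.single (Sum.inl i) 1) (Pi.single k 1)
      have h2 := form_smul_smul (t * g) (Pi.single (Sum.inr i) 1) (Pi.single k 1)
      rw [f1, form_single_inl, form_single_inl, e2] at h1
      rw [f2, form_single_inr, form_single_inr, e1] at h2
      exact ⟨by simpa using h2, by simpa using h1⟩
    have hone : form (Pi.single (Sum.inr a) (1 : F)) (Pi.single (Sum.inl a) 1) = 1 := by
      simp [form_single_inr]
    obtain ⟨k, hk, k1, k2⟩ := exists_tvGroup_smul_pair (hmem _ (Or.inr rfl)) (hmem _ (Or.inl rfl))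
      (hE _ (Or.inr rfl)) (hE _ (Or.inl rfl)) (by rw [form_smul_smul]; exact hone) hone
    refine ⟨k * t, mul_mem (tvGroup_mono le_top hk) ht, fun i hi => ?_⟩
    rcases Finset.mem_insert.mp hi with rfl | hi
    · simp only [mul_assoc, mul_smul k]; exact ⟨k2, k1⟩
    · obtain ⟨f1, f2⟩ := hfix i hi
      simp only [mul_assoc, mul_smul k, f1, f2]
      constructor <;> refine tvGroup_fix hk fun w hw => ?_
      · simp [form_single_inl, (hw i hi).2]
      · simp [form_single_inr, (hw i hi).1]

theorem tvGroup_eq_top : tvGroup (⊤ : Submodule F (l ⊕ l → F)) = ⊤ := by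
  refine eq_top_iff.2 fun g _ => ?_
  obtain ⟨t, ht, hfix⟩ := exists_fix Finset.univ g
  have h1 : t * g = 1 := Subtype.ext <| Matrix.ext_of_mulVec_single fun k => by
    rcases k with i | i
    · exact (hfix i (Finset.mem_univ i)).1.trans (one_smul (Matrix.symplecticGroup l F) _).symm
    · exact (hfix i (Finset.mem_univ i)).2.trans (one_smul (Matrix.symplecticGroup l F) _).symm
  rw [eq_inv_of_mul_eq_one_right h1]
  exact inv_mem ht

theorem mem_center_iff {g : Matrix.symplecticGroup l F} :
    g ∈ Subgroup.center (Matrix.symplecticGroup l F) ↔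
      (g : Matrix (l ⊕ l) (l ⊕ l) F) = 1 ∨ (g : Matrix (l ⊕ l) (l ⊕ l) F) = -1 := by
  constructor
  · intro hg
    rcases isEmpty_or_nonempty l with he | ⟨⟨i⟩⟩
    · exact Or.inl (Subsingleton.elim _ _)
    have key : ∀ w : l ⊕ l → F, ∃ a : F, g • w = a • w := by
      intro w
      rcases eq_or_ne w 0 with rfl | hw
      · exact ⟨0, by simp⟩
      have h : tv (g • w) (1 : F) = tv w 1 := by
        rw [← tv_conj, ← Subgroup.mem_center_iff.mp hg, mul_inv_cancel_right]
      obtain ⟨x, hx⟩ : ∃ x, form x (g • w) = 1 := by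
        obtain ⟨x, hx⟩ := exists_form_eq_one (v := g • w) (by
          intro e; exact hw (by simpa using congrArg (fun z => g⁻¹ • z) e))
        exact ⟨-x, by rw [form_swap, show -x = (-1 : F) • x by simp, form_smul_right, hx]; simp⟩
      have := congrArg (fun t : Matrix.symplecticGroup l F => t • x) h
      simp only [tv_smul, hx, one_mul, one_smul, add_right_inj] at this
      exact ⟨_, this⟩
    obtain ⟨a, ha⟩ := LinearMap.exists_eq_smul_id_of_forall_notLinearIndependent
      (f := Matrix.toLin' (g : Matrix (l ⊕ l) (l ⊕ l) F)) (fun v => by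
        obtain ⟨b, hb⟩ := key v
        rw [Matrix.toLin'_apply]
        change ¬ LinearIndependent F ![v, g • v]
        rw [hb]
        intro hli
        have := LinearIndependent.pair_iff.mp hli b (-1) (by simp)
        simp at this)
    have hv : ∀ v : l ⊕ l → F, g • v = a • v := fun v => by
      have := congrArg (fun f : (l ⊕ l → F) →ₗ[F] (l ⊕ l → F) => f v) ha
      simp [Algebra.algebraMap_eq_smul_one] at this
      exact this
    have h2 := form_smul_smul g (Pi.single (Sum.inr i) (1 : F)) (Pi.single (Sum.inl i) 1)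
    rw [hv, hv, form_smul_left, form_smul_right, form_single_inr, Pi.single_eq_same, mul_one,
      mul_one] at h2
    rcases mul_self_eq_one_iff.mp h2 with rfl | rfl
    · refine Or.inl (Matrix.ext_iff_smul.mpr fun v => ?_)
      rw [one_smul]
      exact (hv v).trans (one_smul F v)
    · refine Or.inr (Matrix.ext_iff_smul.mpr fun v => ?_)
      rw [Matrix.smul_eq_mulVec, Matrix.smul_eq_mulVec, Matrix.neg_mulVec, Matrix.one_mulVec]
      exact (hv v).trans (by simp)
  · intro hg
    rw [Subgroup.mem_center_iff]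
    intro h
    apply Subtype.ext
    rcases hg with e | e <;> simp [e]

theorem card_center [Finite F] [Nonempty l] :
    Nat.card (Subgroup.center (Matrix.symplecticGroup l F)) = Nat.gcd 2 (Nat.card F - 1) := by
  have hneg : ((1 : Matrix (l ⊕ l) (l ⊕ l) F) = -1) ↔ ((1 : F) = -1) := by
    constructor
    · intro e
      have := congrFun (congrFun e (Sum.inl (Classical.arbitrary l)))
        (Sum.inl (Classical.arbitrary l))
      simpa using this
    · intro e; ext i j; rw [Matrix.neg_apply, Matrix.one_apply]; split_ifs <;> simp [← e]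
  have h1 : Subtype.val '' ((Subgroup.center (Matrix.symplecticGroup l F) : Subgroup (Matrix.symplecticGroup l F)) : Set (Matrix.symplecticGroup l F)) =
      ({1, -1} : Set (Matrix (l ⊕ l) (l ⊕ l) F)) := by
    ext M
    constructor
    · rintro ⟨g, hg, rfl⟩; exact mem_center_iff.mp hg
    · rintro (rfl | rfl)
      · exact ⟨1, one_mem _, rfl⟩
      · exact ⟨⟨-1, SymplecticGroup.neg_mem (one_mem _)⟩, mem_center_iff.mpr (Or.inr rfl), rfl⟩
  have h2 : Units.val '' ((powMonoidHom 2 : Fˣ →* Fˣ).ker : Set _) = ({1, -1} : Set F) := by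
    ext x
    simp only [Set.mem_image, SetLike.mem_coe, MonoidHom.mem_ker, powMonoidHom_apply,
      Set.mem_insert_iff, Set.mem_singleton_iff, ← Units.val_inj, Units.val_pow_eq_pow_val,
      Units.val_one, sq_eq_one_iff]
    constructor
    · rintro ⟨u, hu, rfl⟩; exact hu
    · rintro (rfl | rfl)
      · exact ⟨1, by simp, rfl⟩
      · exact ⟨-1, by simp, rfl⟩
  rw [← SetLike.coe_sort_coe, Nat.card_coe_set_eq,
    ← Set.ncard_image_of_injective _ Subtype.val_injective, h1, Nat.gcd_comm, ← Nat.card_units,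
    ← IsCyclic.card_powMonoidHom_ker, ← SetLike.coe_sort_coe, Nat.card_coe_set_eq,
    ← Set.ncard_image_of_injective _ Units.val_injective, h2]
  by_cases h : (1 : F) = -1
  · simp [← h, ← hneg.mpr h]
  · rw [Set.ncard_pair h, Set.ncard_pair (hneg.not.mpr h)]

end field

end CfsgLib.Symp
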