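import Mathlib

/-!
Element orders and involutions of `PSL₃(4)`.
-/

set_option autoImplicit false
set_option linter.unusedSectionVars false

namespace CfsgLib.Linear.ThreeFour

open Matrix

/-- The field with four elements, computably. -/
abbrev K4 := QuadraticAlgebra (ZMod 2) 1 1

section Powers

variable {R S : Type*} [CommRing R] [CommRing S]

/-- Coordinates of `X ^ k` modulo `X³ - a X² + b X - 1`. -/
def powCoeff (a b : R) : ℕ → R × R × R
  | 0 => (1, 0, 0)
  | k + 1 =>
    let c := powCoeff a b k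
    (c.2.2, c.1 - c.2.2 * b, c.2.1 + c.2.2 * a)

theorem powCoeff_map (f : R →+* S) (a b : R) : ∀ k, powCoeff (f a) (f b) k =
    (f (powCoeff a b k).1, f (powCoeff a b k).2.1, f (powCoeff a b k).2.2)
  | 0 => by simp [powCoeff]
  | k + 1 => by simp [powCoeff, powCoeff_map f a b k]

/-- The middle coefficient of the characteristic polynomial. -/
def minorSum (A : Matrix (Fin 3) (Fin 3) R) : R :=
  (A 0 0 * A 1 1 - A 0 1 * A 1 0) + (A 0 0 * A 2 2 - A 0 2 * A 2 0) +
    (A 1 1 * A 2 2 - A 1 2 * A 2 1)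

theorem cayley_three (A : Matrix (Fin 3) (Fin 3) R) (hA : A.det = 1) :
    A * A * A = A.trace • (A * A) - minorSum A • A + 1 := by
  rw [Matrix.det_fin_three] at hA
  ext i j
  fin_cases i <;> fin_cases j <;>
    simp [minorSum, Matrix.mul_apply, Fin.sum_univ_three, Matrix.trace_fin_three] <;>
    first | ring1 | linear_combination hA

theorem pow_eq_coeff (A : Matrix (Fin 3) (Fin 3) R) (hA : A.det = 1) : ∀ k,
    A ^ k = (powCoeff A.trace (minorSum A) k).1 • 1 +
      (powCoeff A.trace (minorSum A) k).2.1 • A +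
      (powCoeff A.trace (minorSum A) k).2.2 • (A * A)
  | 0 => by simp [powCoeff]
  | k + 1 => by
    rw [pow_succ, pow_eq_coeff A hA k]
    simp only [powCoeff, add_mul, smul_mul_assoc, one_mul, cayley_three A hA, smul_add, smul_sub,
      smul_smul]
    module

theorem table : ∀ a0 a1 b0 b1 : ZMod 2, ∃ k ∈ ([5, 12, 21] : List ℕ),
    (powCoeff (⟨a0, a1⟩ : K4) ⟨b0, b1⟩ k).2 = 0 := by
  decide +kernel

end Powers

variable {F : Type*} [Field F] [Fintype F]

theorem two_eq_zero (hF : Fintype.card F = 4) : (2 : F) = 0 := by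
  have h := Nat.cast_card_eq_zero F
  rw [hF] at h
  exact mul_self_eq_zero.1 (show (2 : F) * 2 = 0 by rw [← h]; norm_num)

theorem exists_model (hF : Fintype.card F = 4) : ∃ φ : K4 →+* F, Function.Surjective φ := by
  classical
  have h2 := two_eq_zero hF
  have : CharP F 2 := CharTwo.of_one_ne_zero_of_two_eq_zero one_ne_zero h2
  let _ : Algebra (ZMod 2) F := ZMod.algebra F 2
  have : Fact (Nat.Prime 3) := ⟨Nat.prime_three⟩
  obtain ⟨u, hu⟩ := exists_prime_orderOf_dvd_card' (G := Fˣ) 3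
    (by rw [Nat.card_units, Nat.card_eq_fintype_card, hF])
  have hu3 : (u : F) ^ 3 = 1 := by
    rw [← Units.val_pow_eq_pow_val, ← hu, pow_orderOf_eq_one, Units.val_one]
  have hu1 : (u : F) - 1 ≠ 0 := sub_ne_zero.2 fun e => by
    rw [Units.val_eq_one.1 e, orderOf_one] at hu; norm_num at hu
  have hw : (u : F) ^ 2 + (u : F) + 1 = 0 :=
    (mul_eq_zero.1 (show ((u : F) - 1) * ((u : F) ^ 2 + (u : F) + 1) = 0 by
      linear_combination hu3)).resolve_left hu1
  let f := QuadraticAlgebra.lift (R := ZMod 2) (a := 1) (b := 1) (A := F)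
    ⟨(u : F), by rw [one_smul, one_smul]; linear_combination hw - ((u : F) + 1) * h2⟩
  refine ⟨f.toRingHom, fun x => ?_⟩
  have hx : x ^ 4 = x := by
    have := FiniteField.pow_card x
    rwa [hF] at this
  have hom : f (⟨0, 1⟩ : K4) = (u : F) := by simp [f, QuadraticAlgebra.lift]
  have e : x * (x - 1) * ((x - (u : F)) * (x - ((u : F) + 1))) = 0 := by
    linear_combination hx + x * (x - 1) * hw +
      (-(x ^ 3) + x ^ 2 * (u : F) + x - x ^ 3 * (u : F)) * h2
  rcases mul_eq_zero.1 e with e | e <;> rcases mul_eq_zero.1 e with e | e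
  · exact ⟨0, by rw [e]; exact map_zero _⟩
  · exact ⟨1, by rw [sub_eq_zero.1 e]; exact map_one _⟩
  · exact ⟨⟨0, 1⟩, by rw [sub_eq_zero.1 e]; exact hom⟩
  · refine ⟨(⟨0, 1⟩ : K4) + 1, ?_⟩
    rw [sub_eq_zero.1 e]
    show f _ = _
    rw [map_add, map_one, hom]

/-- `PSL₃(F)`. -/
abbrev P3 (F : Type*) [Field F] := Matrix.ProjectiveSpecialLinearGroup (Fin 3) F

theorem mk_eq_one_of_scalar (A : Matrix.SpecialLinearGroup (Fin 3) F) (c : F)
    (h : (A : Matrix (Fin 3) (Fin 3) F) = c • 1) : (QuotientGroup.mk A : P3 F) = 1 := by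
  rw [QuotientGroup.eq_one_iff, Matrix.SpecialLinearGroup.mem_center_iff]
  refine ⟨c, ?_, by rw [h, Matrix.scalar_apply, Matrix.smul_one_eq_diagonal]⟩
  have := A.2
  rw [h] at this
  simpa using this

theorem exists_scalar_of_mk_eq_one (A : Matrix.SpecialLinearGroup (Fin 3) F)
    (h : (QuotientGroup.mk A : P3 F) = 1) :
    ∃ c : F, c ^ 3 = 1 ∧ (A : Matrix (Fin 3) (Fin 3) F) = c • 1 := by
  rw [QuotientGroup.eq_one_iff, Matrix.SpecialLinearGroup.mem_center_iff] at h
  obtain ⟨c, hc, hA⟩ := h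
  exact ⟨c, by simpa using hc, by rw [← hA, Matrix.scalar_apply, Matrix.smul_one_eq_diagonal]⟩

/-- Every element order divides 5, 12 or 21. -/
theorem orderOf_cases (hF : Fintype.card F = 4) (g : P3 F) :
    orderOf g ∣ 5 ∨ orderOf g ∣ 12 ∨ orderOf g ∣ 21 := by
  obtain ⟨A, rfl⟩ := QuotientGroup.mk_surjective g
  obtain ⟨φ, hφ⟩ := exists_model hF
  obtain ⟨a, ha⟩ := hφ (A : Matrix (Fin 3) (Fin 3) F).trace
  obtain ⟨b, hb⟩ := hφ (minorSum (A : Matrix (Fin 3) (Fin 3) F))
  obtain ⟨a0, a1⟩ := a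
  obtain ⟨b0, b1⟩ := b
  obtain ⟨k, hk, hzero⟩ := table a0 a1 b0 b1
  have hord : orderOf (QuotientGroup.mk A : P3 F) ∣ k := by
    apply orderOf_dvd_of_pow_eq_one
    rw [← QuotientGroup.mk_pow]
    refine mk_eq_one_of_scalar _ (φ (powCoeff (⟨a0, a1⟩ : K4) ⟨b0, b1⟩ k).1) ?_
    rw [Matrix.SpecialLinearGroup.coe_pow, pow_eq_coeff _ A.2, ← ha, ← hb, powCoeff_map, hzero]
    simp
  simp only [List.mem_cons, List.not_mem_nil, or_false] at hk
  rcases hk with rfl | rfl | rfl
  · exact Or.inl hord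
  · exact Or.inr (Or.inl hord)
  · exact Or.inr (Or.inr hord)

/-- The standard transvection. -/
def stdTrans (F : Type*) [Field F] : Matrix.SpecialLinearGroup (Fin 3) F :=
  ⟨!![1, 0, 1; 0, 1, 0; 0, 0, 1], by simp [Matrix.det_fin_three]⟩

/-- In `SL₃` of characteristic two all involutions are conjugate to the standard transvection. -/
theorem isConj_stdTrans (h2 : (2 : F) = 0) (A : Matrix.SpecialLinearGroup (Fin 3) F)
    (hA : A * A = 1) (hA1 : A ≠ 1) : IsConj (stdTrans F) A := by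
  classical
  set N : Matrix (Fin 3) (Fin 3) F := (A : Matrix (Fin 3) (Fin 3) F) - 1 with hN
  have hAA : (A : Matrix (Fin 3) (Fin 3) F) * (A : Matrix (Fin 3) (Fin 3) F) = 1 :=
    congrArg Subtype.val hA
  have hNN : N * N = 0 := by
    have e : N * N = (2 : F) • (1 - (A : Matrix (Fin 3) (Fin 3) F)) := by
      rw [hN]
      simp only [sub_mul, mul_sub, one_mul, mul_one, hAA]
      module
    rw [e, h2, zero_smul]
  let f : (Fin 3 → F) →ₗ[F] (Fin 3 → F) := Matrix.mulVecLin N
  obtain ⟨v, hv⟩ : ∃ v, f v ≠ 0 := by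
    by_contra hc
    push Not at hc
    have h0 : N = 0 := Matrix.mulVec_injective (funext fun v => by
      rw [Matrix.zero_mulVec]; exact hc v)
    exact hA1 (Subtype.ext (sub_eq_zero.1 h0))
  have hff : ∀ x, f (f x) = 0 := fun x => by
    show N *ᵥ (N *ᵥ x) = 0
    rw [Matrix.mulVec_mulVec, hNN, Matrix.zero_mulVec]
  have hle : LinearMap.range f ≤ LinearMap.ker f := by rintro _ ⟨x, rfl⟩; exact hff x
  have hk : 2 ≤ Module.finrank F (LinearMap.ker f) := by
    have h1 := f.finrank_range_add_finrank_ker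
    rw [Module.finrank_fin_fun] at h1
    have h3 := Submodule.finrank_mono hle
    omega
  obtain ⟨w, hw, hwu⟩ : ∃ w ∈ LinearMap.ker f, w ∉ Submodule.span F {f v} := by
    by_contra hc
    push Not at hc
    have := Submodule.finrank_mono (show LinearMap.ker f ≤ Submodule.span F {f v} from hc)
    rw [finrank_span_singleton hv] at this
    omega
  let P : Matrix (Fin 3) (Fin 3) F := (Matrix.of ![f v, w, v])ᵀ
  have hP : P.det ≠ 0 := by
    intro h0
    obtain ⟨c, hc0, hc⟩ := Matrix.exists_mulVec_eq_zero_iff.2 h0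
    have e : c 0 • f v + c 1 • w + c 2 • v = 0 := by
      ext i
      have := congrFun hc i
      simp [P, Matrix.mulVec, dotProduct, Fin.sum_univ_three] at this
      simp
      linear_combination this
    have h2c : c 2 = 0 := by
      have := congrArg f e
      simp only [map_add, map_smul, hff, LinearMap.mem_ker.1 hw, smul_zero, zero_add, map_zero] at this
      exact (smul_eq_zero.1 this).resolve_right hv
    rw [h2c, zero_smul, add_zero] at e
    have h1c : c 1 = 0 := by
      by_contra h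
      refine hwu (Submodule.mem_span_singleton.2 ⟨-((c 1)⁻¹ * c 0), ?_⟩)
      have e' : c 1 • w = -(c 0 • f v) := eq_neg_of_add_eq_zero_right e
      rw [neg_smul, ← smul_smul, ← smul_neg, ← e', smul_smul, inv_mul_cancel₀ h, one_smul]
    rw [h1c, zero_smul, add_zero] at e
    have h0c : c 0 = 0 := (smul_eq_zero.1 e).resolve_right hv
    exact hc0 (funext fun i => by fin_cases i <;> simp [h0c, h1c, h2c])
  let Q : Matrix (Fin 3) (Fin 3) F := (Matrix.of ![f v, P.det⁻¹ • w, v])ᵀ
  have hQ : Q.det = 1 := by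
    have e : Q.det = P.det⁻¹ * P.det := by
      simp only [Q, P, Matrix.det_transpose, Matrix.det_fin_three]
      simp
      ring
    rw [e, inv_mul_cancel₀ hP]
  refine isConj_iff.2 ⟨⟨Q, hQ⟩, ?_⟩
  refine (mul_inv_eq_iff_eq_mul (G := Matrix.SpecialLinearGroup (Fin 3) F)).2 ?_
  apply Subtype.ext
  show Q * !![1, 0, 1; 0, 1, 0; 0, 0, 1] = (A : Matrix (Fin 3) (Fin 3) F) * Q
  have hAe : (A : Matrix (Fin 3) (Fin 3) F) = N + 1 := (sub_add_cancel _ _).symm
  have hfix : ∀ x, (A : Matrix (Fin 3) (Fin 3) F) *ᵥ x = f x + x := fun x => by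
    rw [hAe, Matrix.add_mulVec, Matrix.one_mulVec]; rfl
  have hcol : ∀ j, (A : Matrix (Fin 3) (Fin 3) F) *ᵥ (![f v, P.det⁻¹ • w, v] j) =
      (![f v, P.det⁻¹ • w, f v + v] j) := by
    intro j
    fin_cases j <;> simp [hfix, hff, LinearMap.mem_ker.1 hw]
  ext i j
  have := congrFun (hcol j) i
  simp only [Matrix.mulVec, dotProduct] at this
  rw [Matrix.mul_apply, Matrix.mul_apply]
  fin_cases j <;> simp [Q, Fin.sum_univ_three] at this ⊢ <;> exact this.symm

theorem involutions_conj (hF : Fintype.card F = 4) (x y : P3 F) (hx : orderOf x = 2)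
    (hy : orderOf y = 2) : IsConj x y := by
  have h2 := two_eq_zero hF
  have lift : ∀ z : P3 F, orderOf z = 2 → ∃ A : Matrix.SpecialLinearGroup (Fin 3) F,
      A * A = 1 ∧ A ≠ 1 ∧ (QuotientGroup.mk A : P3 F) = z := by
    intro z hz
    obtain ⟨A, rfl⟩ := QuotientGroup.mk_surjective z
    have hsq : (QuotientGroup.mk (A * A) : P3 F) = 1 := by
      rw [QuotientGroup.mk_mul, ← pow_two]; exact orderOf_dvd_iff_pow_eq_one.1 hz.dvd
    obtain ⟨c, hc, hAA⟩ := exists_scalar_of_mk_eq_one _ hsq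
    let Z : Matrix.SpecialLinearGroup (Fin 3) F := ⟨c • 1, by simp [hc]⟩
    have hZ : (QuotientGroup.mk Z : P3 F) = 1 := mk_eq_one_of_scalar Z c rfl
    refine ⟨Z * A, ?_, fun e => ?_, by rw [QuotientGroup.mk_mul, hZ, one_mul]⟩
    · apply Subtype.ext
      show (c • 1 * (A : Matrix (Fin 3) (Fin 3) F)) * (c • 1 * (A : Matrix (Fin 3) (Fin 3) F)) = 1
      rw [Matrix.smul_mul, Matrix.one_mul, Matrix.smul_mul, Matrix.mul_smul, smul_smul,
        show (A : Matrix (Fin 3) (Fin 3) F) * (A : Matrix (Fin 3) (Fin 3) F) = c • 1 from hAA,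
        smul_smul, ← pow_two, ← pow_succ, hc, one_smul]
    · have e2 : (QuotientGroup.mk (Z * A) : P3 F) = 1 := by rw [e]; rfl
      rw [QuotientGroup.mk_mul, hZ, one_mul] at e2
      rw [e2, orderOf_one] at hz
      norm_num at hz
  obtain ⟨A, hA, hA1, rfl⟩ := lift x hx
  obtain ⟨B, hB, hB1, rfl⟩ := lift y hy
  exact (QuotientGroup.mk' _).map_isConj
    ((isConj_stdTrans h2 A hA hA1).symm.trans (isConj_stdTrans h2 B hB hB1))

end CfsgLib.Linear.ThreeFour
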