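import Cfsg.Prelude.Def_CaseTheorems
import Cfsg.Agent.Unitary.Two
import Mathlib.FieldTheory.Finite.Extension

/-!
Sylow 2-subgroups of GL2 and GU2 in odd characteristic are quasi-dihedral or wreathed.
-/

set_option autoImplicit false
set_option linter.style.haveILetI false

namespace CfsgLib.Linear.TwoSylow

open Matrix

theorem fact_two_of_odd {a : ℕ} (ha : Odd a) : a.factorization 2 = 0 :=
  Nat.factorization_eq_zero_of_not_dvd fun h => (Nat.not_even_iff_odd.2 ha) (even_iff_two_dvd.2 h)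

theorem fact_two_of_mod {a : ℕ} (ha : a % 4 = 2) : a.factorization 2 = 1 := by
  obtain ⟨c, rfl⟩ : ∃ c, a = 2 * c := ⟨a / 2, by omega⟩
  rw [Nat.factorization_mul (by norm_num) (by omega), Finsupp.add_apply,
    fact_two_of_odd (a := c) (Nat.odd_iff.2 (by omega)), Nat.Prime.factorization_self Nat.prime_two]

theorem two_le_fact_of_mod {a : ℕ} (ha : a % 4 = 0) (h0 : a ≠ 0) : 2 ≤ a.factorization 2 :=
  (Nat.prime_two.pow_dvd_iff_le_factorization h0).1 (Nat.dvd_of_mod_eq_zero ha)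

/-- Residue of a number `q` with `q + 1` exactly divisible by `2 ^ s`. -/
theorem mod_two_pow {a : ℕ} (h0 : a ≠ 0) :
    ∃ r, a = 2 ^ a.factorization 2 * (2 * r + 1) := by
  obtain ⟨k, m, hm, rfl⟩ := Nat.exists_eq_two_pow_mul_odd h0
  obtain ⟨r, rfl⟩ := hm
  refine ⟨r, ?_⟩
  have h : (2 ^ k * (2 * r + 1)).factorization 2 = k := by
    rw [Nat.factorization_mul (pow_ne_zero _ (by norm_num)) (by omega), Finsupp.add_apply,
      fact_two_of_odd (a := 2 * r + 1) ⟨r, rfl⟩, Nat.Prime.factorization_pow Nat.prime_two]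
    simp
  rw [h]

theorem exists_orderOf_of_dvd {U : Type*} [Group U] [Finite U] [IsCyclic U] {d : ℕ}
    (hd : d ∣ Nat.card U) : ∃ u : U, orderOf u = d := by
  obtain ⟨g, hg⟩ := IsCyclic.exists_generator (α := U)
  have hgo : orderOf g = Nat.card U := orderOf_eq_card_of_forall_mem_zpowers hg
  obtain ⟨c, hc⟩ := hd
  have hc0 : c ≠ 0 := fun h => Nat.card_pos.ne' (by rw [hc, h, mul_zero])
  exact ⟨g ^ c, by rw [orderOf_pow_of_dvd hc0 (by rw [hgo, hc]; exact Dvd.intro_left d rfl), hgo, hc,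
    Nat.mul_div_cancel _ (Nat.pos_of_ne_zero hc0)]⟩

variable {H : Type*} [Group H] [Finite H]

omit [Finite H] in
theorem isPGroup_zpowers {x : H} {n : ℕ} (hx : orderOf x = 2 ^ n) : IsPGroup 2 (Subgroup.zpowers x) :=
  IsPGroup.of_card (n := n) (by rw [Nat.card_zpowers, hx])

theorem isQuasiDihedral_of {n : ℕ} (hn : 3 ≤ n) (hcard : (Nat.card H).factorization 2 = n + 1)
    {x y : H} (hx : orderOf x = 2 ^ n) (hy : orderOf y = 2)
    (hxy : y * x * y⁻¹ = x ^ (2 ^ (n - 1) - 1)) (P : Sylow 2 H) :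
    Cfsg.IsQuasiDihedral (P : Subgroup H) := by
  haveI : Fact (Nat.Prime 2) := ⟨Nat.prime_two⟩
  have hle : Subgroup.zpowers y ≤ Subgroup.normalizer ((Subgroup.zpowers x : Subgroup H) : Set H) := by
    refine Subgroup.zpowers_le.2 (mem_normalizer_of_le _ ?_)
    rintro _ ⟨i, rfl⟩
    rw [← conj_zpow, hxy]
    exact zpow_mem (pow_mem (Subgroup.mem_zpowers x) _) _
  obtain ⟨T, hT⟩ := ((isPGroup_zpowers hx).to_sup_of_normal_left'
    (isPGroup_zpowers (n := 1) (by rw [hy, pow_one])) hle).exists_le_sylow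
  obtain ⟨g, rfl⟩ := MulAction.exists_smul_eq H T P
  have hc : Nat.card (g • T : Sylow 2 H) = 2 ^ (n + 1) := by rw [Sylow.card_eq_multiplicity, hcard]
  have hxT : x ∈ (T : Subgroup H) := hT (Subgroup.mem_sup_left (Subgroup.mem_zpowers x))
  have hyT : y ∈ (T : Subgroup H) := hT (Subgroup.mem_sup_right (Subgroup.mem_zpowers y))
  let e : (T : Subgroup H) ≃* ((g • T : Sylow 2 H) : Subgroup H) := T.equiv (g • T)
  refine ⟨n, hn, hc, e ⟨x, hxT⟩, e ⟨y, hyT⟩, ?_, ?_, ?_⟩
  · rw [e.orderOf_eq, Subgroup.orderOf_mk, hx]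
  · rw [e.orderOf_eq, Subgroup.orderOf_mk, hy]
  · rw [← map_inv, ← map_mul, ← map_mul, ← map_pow]
    exact congrArg e (Subtype.ext hxy)
where
  mem_normalizer_of_le {g : H} (K : Subgroup H) (h : ∀ k ∈ K, g * k * g⁻¹ ∈ K) :
      g ∈ Subgroup.normalizer (K : Set H) := by
    rw [Subgroup.mem_normalizer_iff]
    intro k
    refine ⟨h k, fun hk => ?_⟩
    have hinj : Function.Injective fun a : K => (⟨g * a * g⁻¹, h a a.2⟩ : K) := fun a b hab =>
      Subtype.ext (mul_left_cancel (mul_right_cancel (congrArg Subtype.val hab)))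
    obtain ⟨⟨a, ha⟩, hak⟩ := (Finite.injective_iff_surjective.1 hinj) ⟨_, hk⟩
    rwa [← mul_left_cancel (mul_right_cancel (congrArg Subtype.val hak))]

theorem isWreathed_of {n : ℕ} (hn : 2 ≤ n) (hcard : (Nat.card H).factorization 2 = 2 * n + 1)
    {x y z : H} (hx : orderOf x = 2 ^ n) (hy : orderOf y = 2 ^ n) (hxy : x * y = y * x)
    (hdis : ∀ i j : ℤ, x ^ i = y ^ j → x ^ i = 1)
    (hz : orderOf z = 2) (hzx : z * x * z⁻¹ = y) (P : Sylow 2 H) :
    Cfsg.IsWreathed (P : Subgroup H) := by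
  haveI : Fact (Nat.Prime 2) := ⟨Nat.prime_two⟩
  have hxy' : Subgroup.zpowers y ≤ Subgroup.normalizer ((Subgroup.zpowers x : Subgroup H) : Set H) := by
    refine Subgroup.zpowers_le.2 (isQuasiDihedral_of.mem_normalizer_of_le _ ?_)
    rintro _ ⟨i, rfl⟩
    rw [← conj_zpow, show y * x * y⁻¹ = x by rw [← hxy, mul_inv_cancel_right]]
    exact zpow_mem (Subgroup.mem_zpowers x) i
  have hB := (isPGroup_zpowers hx).to_sup_of_normal_left' (isPGroup_zpowers hy) hxy'
  set B := Subgroup.zpowers x ⊔ Subgroup.zpowers y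
  have hzy : z * y * z⁻¹ = x := by
    have h := congrArg (fun u => z * u * z⁻¹) hzx
    have hzz : z * z = 1 := by rw [← sq, ← hz, pow_orderOf_eq_one]
    rw [← h, show z * (z * x * z⁻¹) * z⁻¹ = (z * z) * x * (z * z)⁻¹ by group, hzz]
    group
  have hzB : Subgroup.zpowers z ≤ Subgroup.normalizer (B : Set H) := by
    refine Subgroup.zpowers_le.2 (isQuasiDihedral_of.mem_normalizer_of_le _ fun k hk => ?_)
    have h : B.map (MulAut.conj z).toMonoidHom ≤ B := by
      rw [Subgroup.map_sup, MonoidHom.map_zpowers, MonoidHom.map_zpowers]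
      refine sup_le (Subgroup.zpowers_le.2 ?_) (Subgroup.zpowers_le.2 ?_)
      · exact Subgroup.mem_sup_right (by
          show z * x * z⁻¹ ∈ _
          rw [hzx]; exact Subgroup.mem_zpowers y)
      · exact Subgroup.mem_sup_left (by
          show z * y * z⁻¹ ∈ _
          rw [hzy]; exact Subgroup.mem_zpowers x)
    exact h ⟨k, hk, rfl⟩
  obtain ⟨T, hT⟩ := (hB.to_sup_of_normal_left' (isPGroup_zpowers (n := 1) (by rw [hz, pow_one])) hzB).exists_le_sylow
  obtain ⟨g, rfl⟩ := MulAction.exists_smul_eq H T P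
  have hc : Nat.card (g • T : Sylow 2 H) = 2 ^ (2 * n + 1) := by rw [Sylow.card_eq_multiplicity, hcard]
  have hxT : x ∈ (T : Subgroup H) := hT (Subgroup.mem_sup_left (Subgroup.mem_sup_left (Subgroup.mem_zpowers x)))
  have hyT : y ∈ (T : Subgroup H) := hT (Subgroup.mem_sup_left (Subgroup.mem_sup_right (Subgroup.mem_zpowers y)))
  have hzT : z ∈ (T : Subgroup H) := hT (Subgroup.mem_sup_right (Subgroup.mem_zpowers z))
  let e : (T : Subgroup H) ≃* ((g • T : Sylow 2 H) : Subgroup H) := T.equiv (g • T)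
  refine ⟨n, hn, hc, e ⟨x, hxT⟩, e ⟨y, hyT⟩, e ⟨z, hzT⟩, ?_, ?_, ?_, ?_, ?_⟩
  · rw [e.orderOf_eq, Subgroup.orderOf_mk, hx]
  · rw [← map_mul, ← map_mul]
    exact congrArg e (Subtype.ext hxy)
  · rw [eq_bot_iff]
    rintro u ⟨⟨i, rfl⟩, j, hj⟩
    simp only [← map_zpow] at hj ⊢
    rw [Subgroup.mem_bot, MulEquiv.map_eq_one_iff]
    exact Subtype.ext (by simpa using hdis i j (by simpa using congrArg Subtype.val (e.injective hj).symm))
  · rw [e.orderOf_eq, Subgroup.orderOf_mk, hz]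
  · rw [← map_inv, ← map_mul, ← map_mul]
    exact congrArg e (Subtype.ext hzx)

/-! ### GL2 -/

variable {F : Type*} [Field F] [Fintype F]

theorem card_GL_two : Nat.card (GL (Fin 2) F) =
    Fintype.card F * ((Fintype.card F - 1) * (Fintype.card F - 1) * (Fintype.card F + 1)) := by
  rw [Matrix.card_GL_field, Fin.prod_univ_two]
  obtain ⟨c, hc⟩ : ∃ c, Fintype.card F = c + 1 := ⟨Fintype.card F - 1, by have := Fintype.card_pos (α := F); omega⟩
  rw [hc]
  simp only [Fin.val_zero, Fin.val_one, pow_zero, pow_one, Nat.add_sub_cancel]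
  rw [show (c + 1) ^ 2 - 1 = c * (c + 2) by
      rw [Nat.sub_eq_iff_eq_add (Nat.one_le_pow _ _ (by omega))]; ring,
    show (c + 1) ^ 2 - (c + 1) = c * (c + 1) by
      rw [Nat.sub_eq_iff_eq_add (by nlinarith)]; ring]
  ring

theorem orderOf_diag {n : Type*} [Fintype n] [DecidableEq n] {K : Type*} [Field K] (g : GL n K) (a : Kˣ)
    (h : ∀ m : ℕ, g ^ m = 1 ↔ a ^ m = 1) : orderOf g = orderOf a :=
  Nat.dvd_antisymm (orderOf_dvd_of_pow_eq_one ((h _).2 (pow_orderOf_eq_one a)))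
    (orderOf_dvd_of_pow_eq_one ((h _).1 (pow_orderOf_eq_one g)))

/-- Diagonal units. -/
def diagHom {K : Type*} [Field K] : Kˣ × Kˣ →* GL (Fin 2) K where
  toFun p :=
    { val := !![(p.1 : K), 0; 0, (p.2 : K)]
      inv := !![((p.1⁻¹ : Kˣ) : K), 0; 0, ((p.2⁻¹ : Kˣ) : K)]
      val_inv := by ext i j; fin_cases i <;> fin_cases j <;> simp
      inv_val := by ext i j; fin_cases i <;> fin_cases j <;> simp }
  map_one' := Units.ext (by ext i j; fin_cases i <;> fin_cases j <;> simp)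
  map_mul' p p' := Units.ext (by ext i j; fin_cases i <;> fin_cases j <;> simp)

theorem diagHom_val {K : Type*} [Field K] (p : Kˣ × Kˣ) :
    (diagHom p : Matrix (Fin 2) (Fin 2) K) = !![(p.1 : K), 0; 0, (p.2 : K)] := rfl

theorem diagHom_injective {K : Type*} [Field K] : Function.Injective (diagHom (K := K)) := by
  rintro ⟨a, b⟩ ⟨a', b'⟩ h
  have h1 := congrArg (fun g : GL (Fin 2) K => (g : Matrix (Fin 2) (Fin 2) K) 0 0) h
  have h2 := congrArg (fun g : GL (Fin 2) K => (g : Matrix (Fin 2) (Fin 2) K) 1 1) h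
  simp only [diagHom_val] at h1 h2
  exact Prod.ext (Units.ext (by simpa using h1)) (Units.ext (by simpa using h2))

/-- The swap. -/
def swapGL (K : Type*) [Field K] : GL (Fin 2) K :=
  ⟨!![0, 1; 1, 0], !![0, 1; 1, 0], by ext i j; fin_cases i <;> fin_cases j <;> simp,
    by ext i j; fin_cases i <;> fin_cases j <;> simp⟩

theorem orderOf_swapGL {K : Type*} [Field K] : orderOf (swapGL K) = 2 := by
  refine orderOf_eq_prime (Units.ext ?_) fun h => ?_
  · rw [sq, Units.val_mul]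
    exact (swapGL K).val_inv
  · simpa [swapGL] using congrArg (fun g : GL (Fin 2) K => (g : Matrix (Fin 2) (Fin 2) K) 0 0) h

theorem swap_conj {K : Type*} [Field K] (a b : Kˣ) :
    swapGL K * diagHom (a, b) * (swapGL K)⁻¹ = diagHom (b, a) := by
  rw [mul_inv_eq_iff_eq_mul]
  refine Units.ext ?_
  rw [Units.val_mul, Units.val_mul, diagHom_val, diagHom_val]
  ext i j; fin_cases i <;> fin_cases j <;> simp [swapGL, Matrix.mul_apply, Fin.sum_univ_two]

theorem orderOf_diag_left {K : Type*} [Field K] (a : Kˣ) : orderOf (diagHom (a, (1 : Kˣ))) = orderOf a := by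
  rw [orderOf_injective diagHom diagHom_injective, Prod.orderOf_mk, orderOf_one, Nat.lcm_one_right]

theorem orderOf_diag_right {K : Type*} [Field K] (a : Kˣ) : orderOf (diagHom ((1 : Kˣ), a)) = orderOf a := by
  rw [orderOf_injective diagHom diagHom_injective, Prod.orderOf_mk, orderOf_one, Nat.lcm_one_left]

theorem sylow_GL_two_wreathed (h : Fintype.card F % 4 = 1) (P : Sylow 2 (GL (Fin 2) F)) :
    Cfsg.IsWreathed (P : Subgroup (GL (Fin 2) F)) := by
  set q := Fintype.card F with hq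
  have hq2 : 2 ≤ q := Fintype.one_lt_card
  set k := (q - 1).factorization 2 with hk
  obtain ⟨a, ha⟩ := exists_orderOf_of_dvd (U := Fˣ) (d := 2 ^ k) (by
    rw [Nat.card_units, Nat.card_eq_fintype_card, ← hq]; exact Nat.ordProj_dvd _ _)
  refine isWreathed_of (n := k) (two_le_fact_of_mod (by omega) (by omega)) ?_ (x := diagHom (a, 1))
    (y := diagHom (1, a)) (by rw [orderOf_diag_left, ha]) (by rw [orderOf_diag_right, ha]) ?_ ?_
    orderOf_swapGL (swap_conj a 1) P
  · rw [card_GL_two, ← hq, Nat.factorization_mul (by omega) (by simp; omega),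
      Nat.factorization_mul (by simp; omega) (by omega), Nat.factorization_mul (by omega) (by omega)]
    simp only [Finsupp.add_apply]
    rw [fact_two_of_odd (a := q) (Nat.odd_iff.2 (by omega)), fact_two_of_mod (a := q + 1) (by omega), ← hk]
    omega
  · rw [← map_mul, ← map_mul, mul_comm (a, (1 : Fˣ))]
  · intro i j hij
    rw [← map_zpow, ← map_zpow] at hij
    have h1 := congrArg Prod.fst (diagHom_injective hij)
    simp at h1
    rw [← map_zpow, Prod.pow_mk, h1, _root_.one_zpow, Prod.mk_one_one, map_one]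

theorem sylow_GL_two_quasiDihedral (h : Fintype.card F % 4 = 3) (P : Sylow 2 (GL (Fin 2) F)) :
    Cfsg.IsQuasiDihedral (P : Subgroup (GL (Fin 2) F)) := by
  classical
  set q := Fintype.card F with hq
  obtain ⟨p, hp⟩ := CharP.exists F
  haveI : Fact p.Prime := ⟨CharP.char_is_prime F p⟩
  set E := FiniteField.Extension F p 2
  have hE : Nat.card E = q ^ 2 := by
    rw [FiniteField.natCard_extension, Nat.card_eq_fintype_card]
  set s := (q + 1).factorization 2 with hs
  have hs2 : 2 ≤ s := two_le_fact_of_mod (by omega) (by omega)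
  obtain ⟨a, ha⟩ := exists_orderOf_of_dvd (U := Eˣ) (d := 2 ^ (s + 1)) (by
    rw [Nat.card_units, hE, show q ^ 2 - 1 = (q + 1) * (q - 1) by rw [← Nat.sq_sub_sq, one_pow], pow_succ]
    exact Nat.mul_dvd_mul (Nat.ordProj_dvd _ _) (Nat.dvd_of_mod_eq_zero (by omega)))
  let b := Module.finBasisOfFinrankEq F E (FiniteField.finrank_extension F p 2)
  let f : E →ₐ[F] Matrix (Fin 2) (Fin 2) F := (LinearMap.toMatrixAlgEquiv b).toAlgHom.comp (Algebra.lmul F E)
  let φ : E →ₐ[F] E := FiniteField.frobeniusAlgHom F E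
  have hφ : ∀ x : E, φ x = x ^ q := fun x => rfl
  have hφφ : ∀ x : E, φ (φ x) = x := fun x => by
    haveI := Fintype.ofFinite E
    rw [hφ, hφ, ← pow_mul, ← sq, ← hE, Nat.card_eq_fintype_card, FiniteField.pow_card]
  let Y : Matrix (Fin 2) (Fin 2) F := LinearMap.toMatrixAlgEquiv b φ.toLinearMap
  have hYY : Y * Y = 1 := by
    show LinearMap.toMatrixAlgEquiv b _ * LinearMap.toMatrixAlgEquiv b _ = 1
    rw [← map_mul, ← map_one (LinearMap.toMatrixAlgEquiv b)]
    exact congrArg _ (LinearMap.ext hφφ)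
  have hf : Function.Injective f := f.toRingHom.injective
  set x : GL (Fin 2) F := Units.map (f : E →* Matrix (Fin 2) (Fin 2) F) a
  set y : GL (Fin 2) F := ⟨Y, Y, hYY, hYY⟩
  have hx : orderOf x = 2 ^ (s + 1) := by
    rw [← ha]
    exact orderOf_injective (Units.map (f : E →* Matrix (Fin 2) (Fin 2) F)) (Units.map_injective hf) a
  refine isQuasiDihedral_of (n := s + 1) (by omega) ?_ hx (y := y) ?_ ?_ P
  · rw [card_GL_two, ← hq, Nat.factorization_mul (by omega) (by simp; omega),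
      Nat.factorization_mul (by simp; omega) (by omega), Nat.factorization_mul (by omega) (by omega)]
    simp only [Finsupp.add_apply]
    rw [fact_two_of_odd (a := q) (Nat.odd_iff.2 (by omega)), fact_two_of_mod (a := q - 1) (by omega), ← hs]
    omega
  · refine orderOf_eq_prime (Units.ext (by rw [sq, Units.val_mul]; exact hYY)) fun h1 => ?_
    have h2 : φ.toLinearMap = (1 : Module.End F E) := (LinearMap.toMatrixAlgEquiv b).injective (by
      rw [map_one]; exact congrArg Units.val h1)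
    have h3 : ((a ^ q : Eˣ) : E) = a := by
      rw [Units.val_pow_eq_pow_val, ← hφ]; exact LinearMap.congr_fun h2 _
    have h4 : a ^ (q - 1) = 1 := by
      have h5 : a ^ (q - 1) * a = a := by rw [← pow_succ, Nat.sub_add_cancel (by omega)]; exact Units.ext h3
      exact mul_eq_right.1 h5
    have h6 := orderOf_dvd_of_pow_eq_one h4
    rw [ha] at h6
    have h7 := (Nat.pow_dvd_pow 2 (show 2 ≤ s + 1 by omega)).trans h6
    omega
  · obtain ⟨r, hr⟩ := mod_two_pow (a := q + 1) (by omega)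
    rw [← hs] at hr
    have hpow : x ^ (2 ^ (s + 1 - 1) - 1) = x ^ q := by
      rw [Nat.add_sub_cancel, pow_eq_pow_iff_modEq, hx]
      refine (Nat.modEq_iff_dvd' ?_).2 ⟨r, ?_⟩
      · have : q + 1 ≥ 2 ^ s := by rw [hr]; exact Nat.le_mul_of_pos_right _ (by omega)
        omega
      · have h1 : 0 < 2 ^ s := Nat.two_pow_pos s
        have h2 : q + 1 = 2 ^ s + 2 ^ (s + 1) * r := by rw [hr]; ring
        omega
    rw [hpow, mul_inv_eq_iff_eq_mul]
    refine Units.ext ?_
    rw [Units.val_mul, Units.val_mul, Units.val_pow_eq_pow_val]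
    show LinearMap.toMatrixAlgEquiv b φ.toLinearMap * LinearMap.toMatrixAlgEquiv b (Algebra.lmul F E a) =
      (f a) ^ q * LinearMap.toMatrixAlgEquiv b φ.toLinearMap
    rw [← map_pow f, ← map_mul]
    show _ = LinearMap.toMatrixAlgEquiv b (Algebra.lmul F E ((a : E) ^ q)) * LinearMap.toMatrixAlgEquiv b φ.toLinearMap
    rw [← map_mul (LinearMap.toMatrixAlgEquiv b)]
    congr 1
    refine LinearMap.ext fun v => ?_
    show φ ((a : E) * v) = (a : E) ^ q * φ v
    rw [map_mul, hφ (a : E)]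

/-! ### GU2 -/

open CfsgLib.Forms CfsgLib.Unitary

variable {q : ℕ} (hF : Nat.card F = q ^ 2)
include hF

theorem card_GU_two : Nat.card (Cfsg.GU 2 F q) = q * ((q + 1) * (q + 1) * (q - 1)) := by
  rw [card_GU hF, Finset.prod_range_succ, Finset.prod_range_one, if_pos (by decide), if_neg (by decide)]
  rw [show q ^ 2 - 1 = (q + 1) * (q - 1) by rw [← Nat.sq_sub_sq, one_pow]]
  ring

omit [Fintype F] in
omit hF in
theorem mem_GU_diag {a b : Fˣ} (ha : a ^ (q + 1) = 1) (hb : b ^ (q + 1) = 1) :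
    diagHom (a, b) ∈ Cfsg.GU 2 F q := by
  rw [mem_GU_iff]
  intro u v
  have ha' : (a : F) * (a : F) ^ q = 1 := by
    rw [← pow_succ', ← Units.val_pow_eq_pow_val, ha, Units.val_one]
  have hb' : (b : F) * (b : F) ^ q = 1 := by
    rw [← pow_succ', ← Units.val_pow_eq_pow_val, hb, Units.val_one]
  simp only [Cfsg.hermForm, diagHom_val, Fin.sum_univ_two, Matrix.mulVec, dotProduct, Matrix.of_apply,
    Matrix.cons_val_zero, Matrix.cons_val_one, zero_mul, add_zero, zero_add, mul_pow]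
  linear_combination (u 0 * v 0 ^ q) * ha' + (u 1 * v 1 ^ q) * hb'

omit [Fintype F] in
omit hF in
theorem mem_GU_swap : swapGL F ∈ Cfsg.GU 2 F q := by
  rw [mem_GU_iff]
  intro u v
  simp only [Cfsg.hermForm, swapGL, Fin.sum_univ_two, Matrix.mulVec, dotProduct, Matrix.of_apply,
    Matrix.cons_val_zero, Matrix.cons_val_one, zero_mul, one_mul, add_zero, zero_add]
  ring

theorem sylow_GU_two_wreathed (h : q % 4 = 3) (P : Sylow 2 (Cfsg.GU 2 F q)) :
    Cfsg.IsWreathed (P : Subgroup (Cfsg.GU 2 F q)) := by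
  set k := (q + 1).factorization 2 with hk
  obtain ⟨a, ha⟩ := exists_orderOf_of_dvd (U := Fˣ) (d := 2 ^ k) (by
    rw [card_units_eq hF]; exact (Nat.ordProj_dvd _ _).mul_right _)
  have haq : a ^ (q + 1) = 1 := orderOf_dvd_iff_pow_eq_one.1 (ha ▸ Nat.ordProj_dvd _ _)
  let x : Cfsg.GU 2 F q := ⟨diagHom (a, 1), mem_GU_diag haq (one_pow _)⟩
  let y : Cfsg.GU 2 F q := ⟨diagHom (1, a), mem_GU_diag (one_pow _) haq⟩
  let z : Cfsg.GU 2 F q := ⟨swapGL F, mem_GU_swap⟩
  refine isWreathed_of (n := k) (two_le_fact_of_mod (by omega) (by omega)) ?_ (x := x) (y := y) (z := z)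
    (by rw [Subgroup.orderOf_mk, orderOf_diag_left, ha]) (by rw [Subgroup.orderOf_mk, orderOf_diag_right, ha])
    ?_ ?_ (by rw [Subgroup.orderOf_mk]; exact orderOf_swapGL) (Subtype.ext (swap_conj a 1)) P
  · rw [card_GU_two hF, Nat.factorization_mul (by omega) (by simp; omega),
      Nat.factorization_mul (by simp) (by omega), Nat.factorization_mul (by omega) (by omega)]
    simp only [Finsupp.add_apply]
    rw [fact_two_of_odd (a := q) (Nat.odd_iff.2 (by omega)), fact_two_of_mod (a := q - 1) (by omega), ← hk]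
    omega
  · refine Subtype.ext ?_
    show diagHom _ * diagHom _ = diagHom _ * diagHom _
    rw [← map_mul, ← map_mul, mul_comm (a, (1 : Fˣ))]
  · intro i j hij
    have h0 : diagHom (a, 1) ^ i = diagHom ((1 : Fˣ), a) ^ j := congrArg Subtype.val hij
    rw [← map_zpow, ← map_zpow] at h0
    have h1 := congrArg Prod.fst (diagHom_injective h0)
    simp at h1
    refine Subtype.ext ?_
    show diagHom (a, 1) ^ i = 1
    rw [← map_zpow, Prod.pow_mk, h1, _root_.one_zpow, Prod.mk_one_one, map_one]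

theorem sylow_GU_two_quasiDihedral (h : q % 4 = 1) (P : Sylow 2 (Cfsg.GU 2 F q)) :
    Cfsg.IsQuasiDihedral (P : Subgroup (Cfsg.GU 2 F q)) := by
  have hq : 2 ≤ q := two_le_q hF
  obtain ⟨Pm, hPu, hP⟩ := exists_hyperbolic_two hF
  set s := (q - 1).factorization 2 with hs
  have hs2 : 2 ≤ s := two_le_fact_of_mod (by omega) (by omega)
  obtain ⟨a, ha⟩ := exists_orderOf_of_dvd (U := Fˣ) (d := 2 ^ (s + 1)) (by
    rw [card_units_eq hF, pow_succ, mul_comm (q + 1)]
    exact Nat.mul_dvd_mul (Nat.ordProj_dvd _ _) (Nat.dvd_of_mod_eq_zero (by omega)))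
  let Pg : GL (Fin 2) F := Matrix.GeneralLinearGroup.mk'' Pm hPu
  have hPg : ∀ u, (Pg : Matrix (Fin 2) (Fin 2) F) *ᵥ u = Pm *ᵥ u := fun u => rfl
  have htrans : ∀ g : GL (Fin 2) F,
      (∀ u v : Fin 2 → F, ((g : Matrix (Fin 2) (Fin 2) F) *ᵥ u) 0 * ((g : Matrix (Fin 2) (Fin 2) F) *ᵥ v) 1 ^ q +
        ((g : Matrix (Fin 2) (Fin 2) F) *ᵥ u) 1 * ((g : Matrix (Fin 2) (Fin 2) F) *ᵥ v) 0 ^ q =
          u 0 * v 1 ^ q + u 1 * v 0 ^ q) →
      MulAut.conj Pg g ∈ Cfsg.GU 2 F q := by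
    intro g hg
    rw [mem_GU_iff]
    intro u v
    have hu : ∀ u : Fin 2 → F, (Pg : Matrix (Fin 2) (Fin 2) F) *ᵥ (((Pg⁻¹ : GL (Fin 2) F) : Matrix (Fin 2) (Fin 2) F) *ᵥ u) = u := by
      intro u; rw [Matrix.mulVec_mulVec, ← Units.val_mul, mul_inv_cancel, Units.val_one, Matrix.one_mulVec]
    simp only [MulAut.conj_apply, Units.val_mul, ← Matrix.mulVec_mulVec]
    rw [hPg, hPg, hP, hg, ← hP, ← hPg, ← hPg, hu, hu]
  have hfrob : ((a : F) ^ q) ^ q = a := pow_q_q hF _
  have hd : ∀ u v : Fin 2 → F,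
      ((diagHom (a, (a ^ q)⁻¹) : Matrix (Fin 2) (Fin 2) F) *ᵥ u) 0 * ((diagHom (a, (a ^ q)⁻¹) : Matrix (Fin 2) (Fin 2) F) *ᵥ v) 1 ^ q +
      ((diagHom (a, (a ^ q)⁻¹) : Matrix (Fin 2) (Fin 2) F) *ᵥ u) 1 * ((diagHom (a, (a ^ q)⁻¹) : Matrix (Fin 2) (Fin 2) F) *ᵥ v) 0 ^ q =
        u 0 * v 1 ^ q + u 1 * v 0 ^ q := by
    intro u v
    have h1 : (a : F) * (((a : F) ^ q)⁻¹) ^ q = 1 := by
      rw [inv_pow, hfrob, mul_inv_cancel₀ a.ne_zero]
    have h2 : ((a : F) ^ q)⁻¹ * (a : F) ^ q = 1 := inv_mul_cancel₀ (pow_ne_zero _ a.ne_zero)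
    simp only [diagHom_val, Matrix.mulVec, dotProduct, Fin.sum_univ_two, Matrix.of_apply, Matrix.cons_val_zero,
      Matrix.cons_val_one, zero_mul, add_zero, zero_add, mul_pow, Units.val_inv_eq_inv_val, Units.val_pow_eq_pow_val]
    linear_combination (u 0 * v 1 ^ q) * h1 + (u 1 * v 0 ^ q) * h2
  let x : Cfsg.GU 2 F q := ⟨_, htrans (diagHom (a, (a ^ q)⁻¹)) hd⟩
  let y : Cfsg.GU 2 F q := ⟨_, htrans (swapGL F) fun u v => by
    simp only [swapGL, Matrix.mulVec, dotProduct, Fin.sum_univ_two, Matrix.of_apply, Matrix.cons_val_zero,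
      Matrix.cons_val_one, zero_mul, one_mul, add_zero, zero_add]
    ring⟩
  have hx : orderOf x = 2 ^ (s + 1) := by
    rw [Subgroup.orderOf_mk, MulEquiv.orderOf_eq, orderOf_injective diagHom diagHom_injective, Prod.orderOf_mk,
      orderOf_inv, ha, Nat.lcm_eq_left]
    rw [← ha]; exact orderOf_pow_dvd q
  refine isQuasiDihedral_of (n := s + 1) (by omega) ?_ hx (y := y)
    (by rw [Subgroup.orderOf_mk, MulEquiv.orderOf_eq, orderOf_swapGL]) ?_ P
  · rw [card_GU_two hF, Nat.factorization_mul (by omega) (by simp; omega),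
      Nat.factorization_mul (by simp) (by omega), Nat.factorization_mul (by omega) (by omega)]
    simp only [Finsupp.add_apply]
    rw [fact_two_of_odd (a := q) (Nat.odd_iff.2 (by omega)), fact_two_of_mod (a := q + 1) (by omega), ← hs]
    omega
  · obtain ⟨r, hr⟩ := mod_two_pow (a := q - 1) (by omega)
    rw [← hs] at hr
    have hpow : x ^ (2 ^ (s + 1 - 1) - 1) = (x ^ q)⁻¹ := by
      rw [eq_inv_iff_mul_eq_one, ← pow_add, ← orderOf_dvd_iff_pow_eq_one, hx, Nat.add_sub_cancel]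
      refine ⟨r + 1, ?_⟩
      have h1 : 0 < 2 ^ s := Nat.two_pow_pos s
      have h2 : q - 1 = 2 ^ s + 2 ^ (s + 1) * r := by rw [hr]; ring
      have h3 : 2 ^ (s + 1) = 2 * 2 ^ s := by ring
      rw [mul_add, mul_one]
      omega
    rw [hpow]
    refine Subtype.ext ?_
    show MulAut.conj Pg (swapGL F) * MulAut.conj Pg (diagHom (a, (a ^ q)⁻¹)) * (MulAut.conj Pg (swapGL F))⁻¹ =
      ((MulAut.conj Pg (diagHom (a, (a ^ q)⁻¹))) ^ q)⁻¹
    rw [← map_inv, ← map_mul, ← map_mul, ← map_pow, ← map_inv, swap_conj, ← map_pow, ← map_inv]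
    refine congrArg _ (congrArg _ (Prod.ext rfl ?_))
    have h4 : (a ^ q) ^ q = a := Units.ext (by rw [Units.val_pow_eq_pow_val, Units.val_pow_eq_pow_val]; exact hfrob)
    show a = ((a ^ q)⁻¹ ^ q)⁻¹
    rw [inv_pow, inv_inv, h4]

end CfsgLib.Linear.TwoSylow
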