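import Mathlib
import Cfsg.Agent.RadFree.Linear

/-!
The action of a subgroup of order `2520` of `GL(4, 2)` on ordered pairs of distinct nonzero vectors.
-/

set_option autoImplicit false

namespace CfsgLib.AltSevenFourTwo

open MulAction

variable {F : Type*} [Field F] [Fintype F]

instance vecAction : MulAction (GL (Fin 4) F) (Fin 4 → F) where
  smul g v := (g : Matrix (Fin 4) (Fin 4) F).mulVec v
  one_smul v := Matrix.one_mulVec v
  mul_smul g h v := (Matrix.mulVec_mulVec v _ _).symm

omit [Fintype F] in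
theorem smul_def (g : GL (Fin 4) F) (v : Fin 4 → F) : g • v = (g : Matrix (Fin 4) (Fin 4) F).mulVec v := rfl

/-- An element of prime order `r > 2` has few fixed vectors. -/
theorem fixed_count (hF : Fintype.card F = 2) {g : GL (Fin 4) F} {r : ℕ} [hr : Fact r.Prime] (hg : orderOf g = r) :
    ∃ c : ℕ, Nat.card {v : Fin 4 → F // g • v = v} = c ∧ c ∣ 16 ∧ c < 16 ∧ c ≡ 16 [MOD r] := by
  classical
  refine ⟨_, rfl, ?_, ?_, ?_⟩
  · let K : AddSubgroup (Fin 4 → F) :=
      { carrier := {v | g • v = v}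
        zero_mem' := by simp [smul_def]
        add_mem' := fun {a b} ha hb => by
          simp only [Set.mem_setOf_eq, smul_def] at *
          rw [Matrix.mulVec_add, ha, hb]
        neg_mem' := fun {a} ha => by
          simp only [Set.mem_setOf_eq, smul_def] at *
          rw [Matrix.mulVec_neg, ha] }
    have h := AddSubgroup.card_addSubgroup_dvd_card K
    rw [Nat.card_fun, Nat.card_eq_fintype_card (α := F), hF, Nat.card_fin] at h
    exact h
  · by_contra hlt
    push_neg at hlt
    have hall : ∀ v : Fin 4 → F, g • v = v := by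
      intro v
      by_contra hv
      have : Nat.card {v : Fin 4 → F // g • v = v} < Nat.card (Fin 4 → F) :=
        Finite.card_subtype_lt hv
      rw [Nat.card_fun, Nat.card_eq_fintype_card (α := F), hF, Nat.card_fin] at this
      omega
    have : g = 1 := Units.ext (Matrix.ext_of_mulVec_single fun i => by
      rw [← smul_def, hall, Units.val_one, Matrix.one_mulVec])
    rw [this, orderOf_one] at hg
    exact hr.out.one_lt.ne hg
  · have hP : IsPGroup r (Subgroup.zpowers g) :=
      IsPGroup.of_card (n := 1) (by rw [Nat.card_zpowers, hg, pow_one])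
    have h := hP.card_modEq_card_fixedPoints (Fin 4 → F)
    rw [Nat.card_fun, Nat.card_eq_fintype_card (α := F), hF, Nat.card_fin] at h
    have he : Nat.card {v : Fin 4 → F // g • v = v} =
        Nat.card (fixedPoints (Subgroup.zpowers g) (Fin 4 → F)) := by
      refine Nat.card_congr (Equiv.subtypeEquivRight fun v => ?_)
      refine ⟨fun hv x => ?_, fun h' => h' ⟨g, Subgroup.mem_zpowers g⟩⟩
      have : g ∈ MulAction.stabilizer (GL (Fin 4) F) v := hv
      exact Subgroup.zpowers_le.2 this x.2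
    rw [he]
    exact h.symm

theorem eq_of_five (hF : Fintype.card F = 2) {g : GL (Fin 4) F} [Fact (Nat.Prime 5)] (hg : orderOf g = 5) {v : Fin 4 → F}
    (hv : g • v = v) : v = 0 := by
  classical
  obtain ⟨c, hc, hdvd, hlt, hmod⟩ := fixed_count hF hg
  have hc1 : c = 1 := by
    have h1 : c ∈ Nat.divisors 16 := Nat.mem_divisors.2 ⟨hdvd, by norm_num⟩
    rw [show Nat.divisors 16 = {1, 2, 4, 8, 16} from rfl] at h1
    simp only [Finset.mem_insert, Finset.mem_singleton] at h1
    rcases h1 with rfl | rfl | rfl | rfl | rfl <;> simp_all [Nat.ModEq]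
  rw [hc1] at hc
  have h0 : g • (0 : Fin 4 → F) = 0 := by simp [smul_def]
  exact congrArg Subtype.val ((Nat.card_eq_one_iff_unique.1 hc).1.elim
    (⟨v, hv⟩ : {v : Fin 4 → F // g • v = v}) ⟨0, h0⟩)

theorem two_fixed_seven (hF : Fintype.card F = 2) {g : GL (Fin 4) F} [Fact (Nat.Prime 7)] (hg : orderOf g = 7)
    {v w : Fin 4 → F} (hv : g • v = v) (hw : g • w = w) (hv0 : v ≠ 0) (hw0 : w ≠ 0) : v = w := by
  classical
  obtain ⟨c, hc, hdvd, hlt, hmod⟩ := fixed_count hF hg
  have hc1 : c = 2 := by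
    have h1 : c ∈ Nat.divisors 16 := Nat.mem_divisors.2 ⟨hdvd, by norm_num⟩
    rw [show Nat.divisors 16 = {1, 2, 4, 8, 16} from rfl] at h1
    simp only [Finset.mem_insert, Finset.mem_singleton] at h1
    rcases h1 with rfl | rfl | rfl | rfl | rfl <;> simp_all [Nat.ModEq]
  rw [hc1] at hc
  by_contra hne
  have h0 : g • (0 : Fin 4 → F) = 0 := by simp [smul_def]
  have h3 : ({⟨0, h0⟩, ⟨v, hv⟩, ⟨w, hw⟩} : Finset {v : Fin 4 → F // g • v = v}).card = 3 := by
    rw [Finset.card_insert_of_notMem, Finset.card_pair]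
    · exact fun h => hne (congrArg Subtype.val h)
    · simp [Ne.symm hv0, Ne.symm hw0]
  have := Finset.card_le_univ ({⟨0, h0⟩, ⟨v, hv⟩, ⟨w, hw⟩} : Finset {v : Fin 4 → F // g • v = v})
  rw [h3, ← Nat.card_eq_fintype_card, hc] at this
  omega

/-- Ordered pairs of distinct nonzero vectors form one orbit. -/
theorem pairs_transitive (hF : Fintype.card F = 2) (H : Subgroup (GL (Fin 4) F)) (hH : Nat.card H = 2520)
    {v w v' w' : Fin 4 → F} (hv : v ≠ 0) (hw : w ≠ 0) (hvw : v ≠ w) (hv' : v' ≠ 0) (hw' : w' ≠ 0) (hvw' : v' ≠ w') :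
    ∃ g ∈ H, g • v = v' ∧ g • w = w' := by
  classical
  haveI : Fact (Nat.Prime 5) := ⟨by norm_num⟩
  haveI : Fact (Nat.Prime 7) := ⟨by norm_num⟩
  haveI : Fact (Nat.Prime 2) := ⟨Nat.prime_two⟩
  obtain ⟨g5, hg5⟩ := exists_prime_orderOf_dvd_card' (G := H) 5 (by rw [hH]; norm_num)
  obtain ⟨g7, hg7⟩ := exists_prime_orderOf_dvd_card' (G := H) 7 (by rw [hH]; norm_num)
  obtain ⟨g2, hg2⟩ := exists_prime_orderOf_dvd_card' (G := H) 2 (by rw [hH]; norm_num)
  let X := {x : Fin 4 → F // x ≠ 0}
  have hX : Nat.card X = 15 := by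
    rw [Nat.card_eq_fintype_card, Fintype.card_subtype_compl, Fintype.card_subtype_eq, Fintype.card_fun, hF]
    rfl
  have hne : ∀ (g : GL (Fin 4) F) {x : Fin 4 → F}, x ≠ 0 → g • x ≠ 0 := fun g x hx h => hx (by
    have := congrArg (fun y => g⁻¹ • y) h
    simpa [smul_def] using this)
  letI : MulAction H X :=
    { smul := fun g x => ⟨(g : GL (Fin 4) F) • x.1, hne _ x.2⟩
      one_smul := fun x => Subtype.ext (one_smul _ x.1)
      mul_smul := fun a b x => Subtype.ext (mul_smul (a : GL (Fin 4) F) b x.1) }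
  have hsmul : ∀ (g : H) (x : X), (g • x).1 = (g : GL (Fin 4) F) • x.1 := fun _ _ => rfl
  have hdiv : ∀ (Y : Type _) [MulAction H Y] (y : Y) (r : ℕ) [Fact r.Prime],
      r ∣ 2520 → ¬ r ^ 2 ∣ 2520 → (∀ g : H, orderOf g = r → g • y ≠ y) → r ∣ Nat.card (orbit H y) := by
    intro Y _ y r hr hd hd2 hfix
    have h := Nat.card_congr (MulAction.orbitProdStabilizerEquivGroup H y)
    rw [Nat.card_prod, hH] at h
    rcases (hr.out.dvd_mul).1 (h.symm ▸ hd) with h1 | h1
    · exact h1
    · obtain ⟨g, hg⟩ := exists_prime_orderOf_dvd_card' (G := stabilizer H y) r h1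
      exact absurd g.2 (hfix g (by rw [← hg, Subgroup.orderOf_coe]))
  -- transitivity on nonzero vectors
  have horb : ∀ x : X, Nat.card (orbit H x) = 15 := by
    intro x
    have h5 : 5 ∣ Nat.card (orbit H x) := hdiv X x 5 (by norm_num) (by norm_num) fun g hg hgx =>
      x.2 (eq_of_five hF (g := (g : GL (Fin 4) F)) (by rw [Subgroup.orderOf_coe, hg])
        ((hsmul g x).symm.trans (congrArg Subtype.val hgx)))
    have hle : Nat.card (orbit H x) ≤ 15 := hX ▸ Finite.card_subtype_le _
    have hpos : 0 < Nat.card (orbit H x) := by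
      haveI : Nonempty (orbit H x) := ⟨⟨x, mem_orbit_self x⟩⟩
      exact Nat.card_pos
    -- an element of order seven fixes at most one point of the orbit
    have hP : IsPGroup 7 (Subgroup.zpowers g7) :=
      IsPGroup.of_card (n := 1) (by rw [Nat.card_zpowers, hg7, pow_one])
    have hmod := hP.card_modEq_card_fixedPoints (orbit H x)
    have hfix : Nat.card (fixedPoints (Subgroup.zpowers g7) (orbit H x)) ≤ 1 := by
      rw [Finite.card_le_one_iff_subsingleton]
      refine ⟨fun a b => Subtype.ext (Subtype.ext (Subtype.ext ?_))⟩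
      refine two_fixed_seven hF (g := (g7 : GL (Fin 4) F)) (by rw [Subgroup.orderOf_coe, hg7]) ?_ ?_ a.1.1.2 b.1.1.2
      · exact congrArg (fun y : orbit H x => y.1.1) (a.2 ⟨g7, Subgroup.mem_zpowers g7⟩)
      · exact congrArg (fun y : orbit H x => y.1.1) (b.2 ⟨g7, Subgroup.mem_zpowers g7⟩)
    have := hmod.symm
    unfold Nat.ModEq at this
    obtain ⟨k, hk⟩ := h5
    rw [hk] at this hle hpos ⊢
    generalize hfp : Nat.card (fixedPoints (Subgroup.zpowers g7) (orbit H x)) = fp at this hfix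
    have hk3 : k ≤ 3 := by omega
    interval_cases k <;> interval_cases fp <;> omega
  -- orbits on ordered pairs
  let P := X × X
  have hpairs : Nat.card {z : P // z.1 ≠ z.2} = 210 := by
    rw [Nat.card_eq_fintype_card, Fintype.card_subtype_compl]
    rw [Fintype.card_congr (⟨fun z => z.1.1, fun x => ⟨(x, x), rfl⟩,
      fun z => Subtype.ext (Prod.ext rfl z.2), fun _ => rfl⟩ : {z : P // z.1 = z.2} ≃ X)]
    rw [Fintype.card_prod, ← Nat.card_eq_fintype_card, hX]
  obtain ⟨a, ha⟩ : ∃ a : X, g2 • a ≠ a := by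
    by_contra hcon
    push_neg at hcon
    have hg : ((g2 : H) : GL (Fin 4) F) = 1 := Units.ext (Matrix.ext_of_mulVec_single fun i => by
      rw [Units.val_one, Matrix.one_mulVec, ← smul_def]
      exact congrArg Subtype.val (hcon ⟨Pi.single i 1, by simp⟩))
    rw [show g2 = 1 from Subtype.ext hg, orderOf_one] at hg2
    omega
  let z : P := (a, g2 • a)
  have h22 : g2 • (g2 • a) = a := by
    rw [← mul_smul, ← pow_two, ← hg2, pow_orderOf_eq_one, one_smul]
  have hsub : orbit H z ⊆ {y : P | y.1 ≠ y.2} := by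
    rintro _ ⟨g, rfl⟩ h
    exact ha (smul_left_cancel g h).symm
  -- the orbit is stable under swapping
  have heven : 2 ∣ Nat.card (orbit H z) := by
    have hswap : ∀ y : P, y ∈ orbit H z → y.swap ∈ orbit H z := by
      rintro _ ⟨g, rfl⟩
      refine ⟨g * g2, ?_⟩
      show ((g * g2) • a, (g * g2) • g2 • a) = (g • g2 • a, g • a)
      rw [mul_smul, mul_smul, h22]
    let τ : Equiv.Perm (orbit H z) :=
      { toFun := fun y => ⟨y.1.swap, hswap _ y.2⟩
        invFun := fun y => ⟨y.1.swap, hswap _ y.2⟩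
        left_inv := fun y => Subtype.ext (Prod.swap_swap _)
        right_inv := fun y => Subtype.ext (Prod.swap_swap _) }
    have hsum : ∑ _y : orbit H z, (1 : ZMod 2) = 0 := by
      refine Finset.sum_involution (fun y _ => τ y) (fun y _ => show (1 : ZMod 2) + 1 = 0 from rfl) (fun y _ _ h => ?_)
        (fun y _ => Finset.mem_univ _) (fun y _ => Subtype.ext (Prod.swap_swap _))
      exact hsub y.2 (congrArg (fun u : orbit H z => u.1.2) h)
    rw [Finset.sum_const, Finset.card_univ, nsmul_eq_mul, mul_one] at hsum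
    rw [Nat.card_eq_fintype_card]
    exact (ZMod.natCast_eq_zero_iff _ _).1 hsum
  have h7 : 7 ∣ Nat.card (orbit H z) := hdiv P z 7 (by norm_num) (by norm_num) fun g hg hgz => by
    have h1 := congrArg Subtype.val (congrArg Prod.fst hgz)
    have h2 := congrArg Subtype.val (congrArg Prod.snd hgz)
    exact ha (Subtype.ext (two_fixed_seven hF (g := (g : GL (Fin 4) F)) (by rw [Subgroup.orderOf_coe, hg])
      h1 h2 a.2 (g2 • a).2).symm)
  have h15 : 15 ∣ Nat.card (orbit H z) := by
    have h1 := Nat.card_congr (MulAction.orbitProdStabilizerEquivGroup H z)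
    have h2 := Nat.card_congr (MulAction.orbitProdStabilizerEquivGroup H a)
    rw [Nat.card_prod, hH] at h1 h2
    rw [horb] at h2
    have h3 : Nat.card (stabilizer H z) ∣ Nat.card (stabilizer H a) :=
      Subgroup.card_dvd_of_le fun g hg => congrArg Prod.fst hg
    obtain ⟨c, hc⟩ := h3
    refine ⟨c, ?_⟩
    have hs : 0 < Nat.card (stabilizer H z) := Nat.card_pos
    rw [hc] at h2
    exact Nat.eq_of_mul_eq_mul_right hs (h1.trans (by rw [← h2]; ring))
  have hall : orbit H z = {y : P | y.1 ≠ y.2} := by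
    refine Set.eq_of_subset_of_ncard_le hsub ?_
    rw [← Nat.card_coe_set_eq, ← Nat.card_coe_set_eq]
    have hle : Nat.card (orbit H z) ≤ 210 :=
      hpairs ▸ Nat.card_mono (Set.toFinite _) hsub
    have hpos : 0 < Nat.card (orbit H z) := by
      haveI : Nonempty (orbit H z) := ⟨⟨z, mem_orbit_self z⟩⟩
      exact Nat.card_pos
    show Nat.card {y : P // y.1 ≠ y.2} ≤ _
    rw [hpairs]
    omega
  have hmem : ∀ (x y : X), x ≠ y → (x, y) ∈ orbit H z := fun x y hxy => hall ▸ hxy
  obtain ⟨g, hg⟩ := hmem ⟨v, hv⟩ ⟨w, hw⟩ (fun h => hvw (congrArg Subtype.val h))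
  obtain ⟨g', hg'⟩ := hmem ⟨v', hv'⟩ ⟨w', hw'⟩ (fun h => hvw' (congrArg Subtype.val h))
  have hgg : (g' * g⁻¹) • ((⟨v, hv⟩, ⟨w, hw⟩) : P) = (⟨v', hv'⟩, ⟨w', hw'⟩) := by
    simp only at hg hg'
    rw [← hg, ← hg']
    exact (mul_smul (g' * g⁻¹) g z).symm.trans (congrArg (fun k : H => k • z) (inv_mul_cancel_right g' g))
  refine ⟨(g' * g⁻¹ : H), SetLike.coe_mem _, ?_, ?_⟩
  · exact congrArg (fun y : P => y.1.1) hgg
  · exact congrArg (fun y : P => y.2.1) hgg

end CfsgLib.AltSevenFourTwo
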