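import Cfsg.Agent.Classical.SmallSubPSL
import Cfsg.Agent.Classical.PSLTwo
import Cfsg.Agent.QuadPairs.Dickson
import Cfsg.Agent.ZJ.SL2Basic
import Cfsg.Agent.SL2C.Normalizer

/-!
Dickson's generation theorem: the two transvections with parameters `1` and `λ`.
-/

set_option autoImplicit false
set_option linter.unusedSectionVars false

namespace CfsgLib.Linear.DicksonGen

open Matrix OnePoint
open CfsgLib.Dickson
open CfsgLib.Linear.SmallSub (proj proj_eq_one_iff)

section

variable {F : Type*} [Field F]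

/-- `SL₂(F)`. -/
abbrev S2 (F : Type*) [Field F] := Matrix.SpecialLinearGroup (Fin 2) F

/-- The lower transvection with parameter `1`. -/
def lo : S2 F := CfsgLib.SL2Pair.low (1 : F)

/-- The upper transvection with parameter `λ`. -/
def hi (lam : F) : S2 F := CfsgLib.SL2Pair.up lam

theorem lo_coe : ((lo : S2 F) : Matrix (Fin 2) (Fin 2) F) = !![1, 0; 1, 1] :=
  CfsgLib.SL2Pair.low_coe _

theorem hi_coe (lam : F) : ((hi lam : S2 F) : Matrix (Fin 2) (Fin 2) F) = !![1, lam; 0, 1] :=
  CfsgLib.SL2Pair.up_coe _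

/-- The subgroup generated by the two transvections. -/
def two (lam : F) : Subgroup (S2 F) := Subgroup.closure {lo, hi lam}

theorem two_eq (lam : F) : two lam =
    Subgroup.closure {g : S2 F | (g : Matrix (Fin 2) (Fin 2) F) = !![1, 0; 1, 1] ∨
      (g : Matrix (Fin 2) (Fin 2) F) = !![1, lam; 0, 1]} := by
  refine congrArg (Subgroup.closure (G := S2 F)) (Set.ext fun g => ⟨?_, ?_⟩)
  · rintro (rfl | rfl)
    · exact Or.inl lo_coe
    · exact Or.inr (hi_coe lam)
  · rintro (h | h)
    · exact Or.inl (Subtype.ext (h.trans lo_coe.symm))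
    · exact Or.inr (Subtype.ext (h.trans (hi_coe lam).symm))

theorem proj_surjective : Function.Surjective (proj (F := F)) := QuotientGroup.mk'_surjective _

/-- The trace of a product of the generators. -/
theorem trace_pow_hi (lam : F) :
    ((lo * hi lam : S2 F) : Matrix (Fin 2) (Fin 2) F).trace = 2 + lam ∧
      ((lo * lo * hi lam : S2 F) : Matrix (Fin 2) (Fin 2) F).trace = 2 + 2 * lam := by
  constructor <;>
    · simp [lo_coe, hi_coe, Matrix.trace_fin_two]
      ring

variable [Fintype F]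

theorem card_ker_proj (hodd : Odd (Fintype.card F)) : Nat.card (proj (F := F)).ker = 2 := by
  rw [show (proj (F := F)).ker = Subgroup.center (S2 F) from QuotientGroup.ker_mk' _,
    CfsgLib.Linear.card_center_SL, Fintype.card_fin, Nat.card_eq_fintype_card (α := F)]
  exact Nat.gcd_eq_left (by obtain ⟨k, hk⟩ := hodd; omega)

/-- A subgroup whose image has even order contains `-1`, hence the kernel. -/
theorem ker_le (hodd : Odd (Fintype.card F)) (H : Subgroup (S2 F))
    (h : 2 ∣ Nat.card (H.map (proj (F := F)))) : (proj (F := F)).ker ≤ H := by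
  have := Fact.mk Nat.prime_two
  obtain ⟨⟨g, hg⟩, ho⟩ := exists_prime_orderOf_dvd_card' (G := H) 2
    (h.trans (Subgroup.card_map_dvd _ _))
  rw [← Subgroup.orderOf_coe] at ho
  replace ho : orderOf g = 2 := ho
  have hg1 : g = CfsgLib.SL2C.negOne F :=
    (CfsgLib.SL2C.center_cases (CfsgLib.SL2C.mem_center_of_mul_self hodd
      (by rw [← pow_two]; exact orderOf_dvd_iff_pow_eq_one.1 ho.dvd))).resolve_left
      (fun e => by rw [e, orderOf_one] at ho; exact absurd ho (by norm_num))
  intro z hz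
  rw [show (proj (F := F)).ker = Subgroup.center (S2 F) from QuotientGroup.ker_mk' _] at hz
  rcases CfsgLib.SL2C.center_cases hz with rfl | rfl
  · exact one_mem H
  · exact hg1 ▸ hg

theorem card_two_mul (hodd : Odd (Fintype.card F)) (H : Subgroup (S2 F))
    (h : 2 ∣ Nat.card (H.map (proj (F := F)))) :
    Nat.card H = Nat.card (H.map (proj (F := F))) * 2 := by
  have hle := ker_le hodd H h
  have e := Subgroup.card_eq_card_quotient_mul_card_subgroup ((proj (F := F)).comp H.subtype).ker
  rw [Nat.card_congr (QuotientGroup.quotientKerEquivRange _).toEquiv, MonoidHom.range_comp,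
    Subgroup.range_subtype] at e
  rw [e]
  congr 1
  rw [← MonoidHom.comap_ker]
  exact (Nat.card_congr (Subgroup.subgroupOfEquivOfLe hle).toEquiv).trans (card_ker_proj hodd)

theorem top_of_map_top (hodd : Odd (Fintype.card F)) (H : Subgroup (S2 F))
    (h : H.map (proj (F := F)) = ⊤) : H = ⊤ := by
  obtain ⟨p, hp⟩ := CharP.exists F
  have hev : 2 ∣ Nat.card (H.map (proj (F := F))) := by
    rw [h, Subgroup.card_top]
    show 2 ∣ Nat.card (PSL2 F)
    rw [CfsgLib.Linear.PSLTwo.card_eq, Nat.card_eq_fintype_card]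
    obtain ⟨k, hk⟩ := hodd
    exact Dvd.dvd.mul_right (by omega) _
  rw [eq_top_iff]
  intro g _
  obtain ⟨a, ha, he⟩ : proj g ∈ H.map (proj (F := F)) := h ▸ Subgroup.mem_top _
  have : a⁻¹ * g ∈ H := ker_le hodd H hev (by
    rw [MonoidHom.mem_ker, map_mul, map_inv, he, inv_mul_cancel])
  simpa using mul_mem ha this

/-! ### Characteristic other than three -/

theorem two_top_of_ne_three (p : ℕ) [Fact p.Prime] [CharP F p] (hp2 : p ≠ 2) (hp3 : p ≠ 3)
    {lam : F} (hlam : lam ≠ 0) (hgen : Subfield.closure ({lam} : Set F) = ⊤) : two lam = ⊤ := by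
  let _ : Algebra (ZMod p) F := ZMod.algebra F p
  have h2 : (2 : ZMod p) ≠ 0 := by
    intro h
    have h' : ((2 : ℕ) : ZMod p) = 0 := by exact_mod_cast h
    exact hp2 ((Nat.prime_dvd_prime_iff_eq Fact.out Nat.prime_two).1
      ((ZMod.natCast_eq_zero_iff 2 p).1 h'))
  have hA : Algebra.adjoin (ZMod p) ({lam} : Set F) = ⊤ := by
    rw [eq_top_iff]
    intro x _
    let S : Subfield F :=
      { (Algebra.adjoin (ZMod p) ({lam} : Set F)).toSubring with
        inv_mem' := fun y hy => by
          by_cases h0 : y = 0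
          · subst h0
            simp
          · have e : y⁻¹ = y ^ (Fintype.card F - 2) := by
              refine inv_eq_of_mul_eq_one_right ?_
              have := Fintype.one_lt_card (α := F)
              rw [← pow_succ', show Fintype.card F - 2 + 1 = Fintype.card F - 1 by omega,
                FiniteField.pow_card_sub_one_eq_one y h0]
            rw [e]
            exact Subalgebra.pow_mem _ hy _ }
    have : Subfield.closure ({lam} : Set F) ≤ S :=
      Subfield.closure_le.2 (Algebra.subset_adjoin (R := ZMod p))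
    exact this (hgen ▸ Subfield.mem_top x)
  have key := CfsgLib.QP.gen_contains (k := ZMod p) h2 (by rw [Nat.card_zmod]; exact hp3)
    (isUnit_iff_ne_zero.2 hlam) hA
  -- conjugate by the Weyl element
  let w : S2 F := ⟨!![0, 1; -1, 0], by simp [Matrix.det_fin_two]⟩
  set H := (two lam).map (MulAut.conj w).toMonoidHom with hH
  have hu : CfsgLib.QP.up (-1 : F) ∈ H := by
    refine ⟨lo, Subgroup.subset_closure (Or.inl rfl), ?_⟩
    rw [MulEquiv.coe_toMonoidHom, MulAut.conj_apply, mul_inv_eq_iff_eq_mul]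
    apply Subtype.ext
    simp only [Matrix.SpecialLinearGroup.coe_mul, lo_coe, CfsgLib.QP.up_coe]
    simp [w]
  have hl : CfsgLib.QP.low (-lam) ∈ H := by
    refine ⟨hi lam, Subgroup.subset_closure (Or.inr rfl), ?_⟩
    rw [MulEquiv.coe_toMonoidHom, MulAut.conj_apply, mul_inv_eq_iff_eq_mul]
    apply Subtype.ext
    simp only [Matrix.SpecialLinearGroup.coe_mul, hi_coe, CfsgLib.QP.low_coe]
    simp [w]
  have hu1 : CfsgLib.QP.up (1 : F) ∈ H := by
    have := inv_mem hu
    rwa [CfsgLib.QP.up_inv, neg_neg] at this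
  have hl1 : CfsgLib.QP.low lam ∈ H := by
    have := inv_mem hl
    rwa [CfsgLib.QP.low_inv, neg_neg] at this
  have hle : CfsgLib.QP.gen (ZMod p) lam ≤ H := by
    refine (Subgroup.closure_le H).2 ?_
    rintro g (⟨c, rfl⟩ | ⟨c, rfl⟩)
    · obtain ⟨n, rfl⟩ := ZMod.natCast_zmod_surjective c
      rw [map_natCast]
      induction n with
      | zero => rw [Nat.cast_zero, CfsgLib.QP.up_zero]; exact one_mem H
      | succ m ih => rw [Nat.cast_succ, ← CfsgLib.QP.up_mul]; exact mul_mem ih hu1
    · obtain ⟨n, rfl⟩ := ZMod.natCast_zmod_surjective c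
      rw [Nat.cast_smul_eq_nsmul, nsmul_eq_mul]
      induction n with
      | zero => rw [Nat.cast_zero, zero_mul, CfsgLib.QP.low_zero]; exact one_mem H
      | succ m ih =>
        rw [Nat.cast_succ, add_mul, one_mul, ← CfsgLib.QP.low_mul]
        exact mul_mem ih hl1
  have htop : H = ⊤ := by
    rw [eq_top_iff]
    intro g _
    refine CfsgLib.ZJ.sl2_upper_lower_induction g H (fun a => ?_) (fun a => ?_)
    · exact hle (key a).1
    · exact hle (key a).2
  exact Subgroup.map_injective (MulAut.conj w).injective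
    (htop.trans (Subgroup.map_top_of_surjective _ (MulAut.conj w).surjective).symm)

/-! ### The exceptional group of order `120` -/

theorem card_two_exception (hF : Fintype.card F = 9) {lam : F} (hlam : lam ^ 2 = -1) :
    Nat.card (two lam) = 120 := by
  have h3 : (3 : F) = 0 := by
    have h : ((Fintype.card F : ℕ) : F) = 0 := Nat.cast_card_eq_zero F
    rw [hF] at h
    push_cast at h
    exact pow_eq_zero_iff two_ne_zero |>.1 (show (3 : F) ^ 2 = 0 by linear_combination h)
  have hodd : Odd (Fintype.card F) := by rw [hF]; decide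
  set ab : S2 F := lo * hi lam with hab
  have htab : (ab : Matrix (Fin 2) (Fin 2) F).trace = 2 + lam := (trace_pow_hi lam).1
  have hab5 : proj ab ^ 5 = 1 := by
    refine CfsgLib.Linear.SmallSub.proj_pow_five htab (mul_eq_zero.1 ?_)
    linear_combination (lam ^ 2 + 8 * lam + 20) * hlam + (4 * lam - 5) * h3
  have hy : ((ab ^ 2 : S2 F) : Matrix (Fin 2) (Fin 2) F).trace = 1 + lam := by
    rw [Matrix.SpecialLinearGroup.coe_pow, pow_two, CfsgLib.Linear.SmallSub.mul_self_eq,
      Matrix.trace_sub, Matrix.trace_smul, htab, smul_eq_mul, Matrix.trace_one, Fintype.card_fin]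
    push_cast
    linear_combination hlam + lam * h3
  have hx : proj (lo : S2 F) ^ 3 = 1 := by
    refine CfsgLib.Linear.SmallSub.proj_pow_three (t := (2 : F)) ?_ (by linear_combination h3)
    simp [lo_coe, Matrix.trace_fin_two]
    ring
  have hy5 : proj (ab ^ 2) ^ 5 = 1 := by
    rw [map_pow, ← pow_mul, mul_comm, pow_mul, hab5, one_pow]
  have hxy : (proj (lo : S2 F) * proj (ab ^ 2)) ^ 2 = 1 := by
    rw [← map_mul]
    refine CfsgLib.Linear.SmallSub.proj_pow_two (t := 0) ?_ rfl
    simp [hab, pow_two, lo_coe, hi_coe, Matrix.trace_fin_two]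
    linear_combination 2 * hlam + (2 * lam) * h3
  obtain ⟨f, hf, hr⟩ := CfsgLib.Linear.SmallSub.exists_emb_altFive _ _ hx hy5 hxy
    (CfsgLib.Linear.SmallSub.proj_ne_one (Or.inr (by simp [lo_coe])))
  have hmap : (two lam).map (proj (F := F)) = f.range := by
    rw [hr, two, MonoidHom.map_closure]
    refine le_antisymm ((Subgroup.closure_le _).2 ?_) ((Subgroup.closure_le _).2 ?_)
    · rintro _ ⟨g, hg, rfl⟩
      have hxm : proj (lo : S2 F) ∈ Subgroup.closure {proj (lo : S2 F), proj (ab ^ 2)} :=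
        Subgroup.subset_closure (Or.inl rfl)
      rcases hg with rfl | rfl
      · exact hxm
      · have e : proj ab = proj (ab ^ 2) ^ 3 := by
          rw [map_pow, ← pow_mul, show 2 * 3 = 5 + 1 by norm_num, pow_succ, hab5, one_mul]
        rw [show (hi lam : S2 F) = lo⁻¹ * ab by rw [hab]; group, map_mul, map_inv, e]
        have hym : proj (ab ^ 2) ∈ Subgroup.closure {proj (lo : S2 F), proj (ab ^ 2)} :=
          Subgroup.subset_closure (Or.inr rfl)
        exact mul_mem (inv_mem hxm) (pow_mem hym 3)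
    · have hl : proj (lo : S2 F) ∈ Subgroup.closure (proj '' ({lo, hi lam} : Set (S2 F))) :=
        Subgroup.subset_closure ⟨lo, Or.inl rfl, rfl⟩
      rintro g (rfl | rfl)
      · exact hl
      · rw [map_pow, hab, map_mul]
        exact pow_mem (mul_mem hl (Subgroup.subset_closure ⟨hi lam, Or.inr rfl, rfl⟩)) 2
  have hc : Nat.card ((two lam).map (proj (F := F))) = 60 := by
    rw [hmap, ← Nat.card_congr (MonoidHom.ofInjective hf).toEquiv, nat_card_alternatingGroup,
      Nat.card_fin]
    decide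
  rw [card_two_mul hodd _ (by rw [hc]; norm_num), hc]

end

/-! ### Traces in conjugates of subfield groups -/

theorem trace_sq_mem {K : Type*} [Field K] (L : Subfield K) (g : PGL2 K)
    (A : Matrix.SpecialLinearGroup (Fin 2) K)
    (h : g * Matrix.SpecialLinearGroup.toPGL A * g⁻¹ ∈ pglImage L.subtype) :
    (A : Matrix (Fin 2) (Fin 2) K).trace ^ 2 ∈ L := by
  obtain ⟨B, hB⟩ := h
  obtain ⟨B, rfl⟩ := Matrix.ProjGenLinGroup.mk_surjective B
  obtain ⟨G, rfl⟩ := Matrix.ProjGenLinGroup.mk_surjective g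
  rw [Matrix.ProjGenLinGroup.map_mk, eq_mul_inv_iff_mul_eq] at hB
  change Matrix.ProjGenLinGroup.mk _ * Matrix.ProjGenLinGroup.mk G =
    Matrix.ProjGenLinGroup.mk G * Matrix.ProjGenLinGroup.mk _ at hB
  rw [← map_mul, ← map_mul, Matrix.ProjGenLinGroup.mk_eq_mk_iff] at hB
  obtain ⟨u, hu⟩ := hB
  set M : Matrix (Fin 2) (Fin 2) K := (B : Matrix (Fin 2) (Fin 2) L).map L.subtype with hM
  have hmat : M * (G : Matrix (Fin 2) (Fin 2) K) * ((u : K) • 1) =
      (G : Matrix (Fin 2) (Fin 2) K) * (A : Matrix (Fin 2) (Fin 2) K) := by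
    have := congrArg Units.val hu
    simpa [Matrix.scalar_apply, ← Matrix.smul_one_eq_diagonal, hM] using this
  rw [Matrix.mul_smul, Matrix.mul_one] at hmat
  have hA : (A : Matrix (Fin 2) (Fin 2) K) =
      (u : K) • (((G⁻¹ : GL (Fin 2) K) : Matrix (Fin 2) (Fin 2) K) * M *
        (G : Matrix (Fin 2) (Fin 2) K)) := by
    rw [Matrix.mul_assoc, ← Matrix.mul_smul, hmat, ← Matrix.mul_assoc, ← Units.val_mul,
      inv_mul_cancel, Units.val_one, Matrix.one_mul]
  have ht : (A : Matrix (Fin 2) (Fin 2) K).trace =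
      (u : K) * L.subtype (B : Matrix (Fin 2) (Fin 2) L).trace := by
    rw [hA, Matrix.trace_smul, Matrix.trace_units_conj', smul_eq_mul, hM]
    simp [Matrix.trace_fin_two]
  have hd : (1 : K) = (u : K) ^ 2 * L.subtype (B : Matrix (Fin 2) (Fin 2) L).det := by
    rw [← A.2, hA, Matrix.det_smul, Matrix.det_units_conj', Fintype.card_fin, hM, RingHom.map_det]
    rfl
  have hd0 : L.subtype (B : Matrix (Fin 2) (Fin 2) L).det ≠ 0 := by
    intro e
    rw [e, mul_zero] at hd
    exact one_ne_zero hd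
  have : (A : Matrix (Fin 2) (Fin 2) K).trace ^ 2 =
      L.subtype ((B : Matrix (Fin 2) (Fin 2) L).trace ^ 2 / (B : Matrix (Fin 2) (Fin 2) L).det) := by
    rw [map_div₀, map_pow, eq_div_iff hd0, ht]
    linear_combination (-(L.subtype (B : Matrix (Fin 2) (Fin 2) L).trace ^ 2)) * hd
  rw [this]
  exact ((B : Matrix (Fin 2) (Fin 2) L).trace ^ 2 / (B : Matrix (Fin 2) (Fin 2) L).det).2

/-! ### Characteristic three -/

section Three

variable {F : Type*} [Field F] [Fintype F] [CharP F 3]

theorem trace_sq_pow_nine (A : S2 F) (n : ℕ) (hn : n = 1 ∨ n = 2 ∨ n = 3 ∨ n = 5)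
    (h : proj A ^ n = 1) :
    (A : Matrix (Fin 2) (Fin 2) F).trace ^ 2 = 0 ∨ (A : Matrix (Fin 2) (Fin 2) F).trace ^ 2 = 1 ∨
      ((A : Matrix (Fin 2) (Fin 2) F).trace ^ 2) ^ 2 = -1 := by
  have h3 : (3 : F) = 0 := by exact_mod_cast CharP.cast_eq_zero F 3
  set t := (A : Matrix (Fin 2) (Fin 2) F).trace with ht
  -- either a scalar matrix or a vanishing coefficient
  have hscal : ∀ c : F, (A : Matrix (Fin 2) (Fin 2) F) = c • 1 → t ^ 2 = 1 := fun c hc => by
    have hdet := A.2
    rw [hc] at hdet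
    simp at hdet
    have hc2 : c ^ 2 = 1 := by rcases hdet with rfl | rfl <;> ring
    rw [ht, hc, Matrix.trace_smul, Matrix.trace_one, Fintype.card_fin, smul_eq_mul]
    push_cast
    linear_combination 4 * hc2 + h3
  have hlin : ∀ a b c : F, a • (A : Matrix (Fin 2) (Fin 2) F) - b • 1 = c • 1 →
      a = 0 ∨ t ^ 2 = 1 := fun a b c he => by
    by_cases ha : a = 0
    · exact Or.inl ha
    · refine Or.inr (hscal (a⁻¹ * (b + c)) ?_)
      rw [← smul_smul, eq_inv_smul_iff₀ ha, add_smul, ← he]
      abel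
  rw [← map_pow, proj_eq_one_iff] at h
  obtain ⟨c, hc⟩ := h
  rw [Matrix.SpecialLinearGroup.coe_pow] at hc
  rcases hn with rfl | rfl | rfl | rfl
  · rw [pow_one] at hc
    exact Or.inr (Or.inl (hscal c hc))
  · rw [pow_two, CfsgLib.Linear.SmallSub.mul_self_eq, ← ht] at hc
    rcases hlin t 1 c (by rwa [one_smul]) with e | e
    · exact Or.inl (by rw [e]; ring)
    · exact Or.inr (Or.inl e)
  · rw [pow_succ, pow_two, CfsgLib.Linear.SmallSub.mul_self_eq, Matrix.sub_mul, Matrix.smul_mul,
      CfsgLib.Linear.SmallSub.mul_self_eq, ← ht, Matrix.one_mul, smul_sub, smul_smul] at hc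
    rcases hlin (t * t - 1) t c (by rw [sub_smul, one_smul, ← hc]; abel) with e | e
    · exact Or.inr (Or.inl (by linear_combination e))
    · exact Or.inr (Or.inl e)
  · rw [CfsgLib.Linear.SmallSub.pow_five_eq ht.symm] at hc
    rcases hlin _ _ c hc with e | e
    · exact Or.inr (Or.inr (by linear_combination e + t ^ 2 * h3))
    · exact Or.inr (Or.inl e)

theorem card_le_of_fixed {lam : F} (hgen : Subfield.closure ({lam} : Set F) = ⊤) (k : ℕ)
    (hk : 1 < 3 ^ k) (h : lam ^ 3 ^ k = lam) : Fintype.card F ≤ 3 ^ k := by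
  classical
  let S : Subfield F := RingHom.eqLocusField (iterateFrobenius F 3 k) (RingHom.id F)
  have hS : ∀ x : F, x ^ 3 ^ k = x := fun x => by
    have hle : Subfield.closure ({lam} : Set F) ≤ S :=
      Subfield.closure_le.2 (Set.singleton_subset_iff.2 (show iterateFrobenius F 3 k lam = lam by
        rw [iterateFrobenius_def]; exact h))
    have := hle (hgen ▸ Subfield.mem_top x)
    rw [← iterateFrobenius_def]
    exact this
  have h := Polynomial.card_le_degree_of_subset_roots
    (p := (Polynomial.X ^ 3 ^ k - Polynomial.X : Polynomial F)) (Z := Finset.univ) (fun x _ => by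
      rw [Polynomial.mem_roots (FiniteField.X_pow_card_sub_X_ne_zero F hk)]
      simp [hS x])
  rwa [FiniteField.X_pow_card_sub_X_natDegree_eq F hk, Finset.card_univ] at h

theorem exception_of_cond {lam : F} (hlam : lam ≠ 0)
    (hgen : Subfield.closure ({lam} : Set F) = ⊤) (hnp : lam ≠ 1) (hnm : lam ≠ -1)
    (h1 : (2 + lam) ^ 2 = 0 ∨ (2 + lam) ^ 2 = 1 ∨ ((2 + lam) ^ 2) ^ 2 = -1)
    (h2 : (2 + 2 * lam) ^ 2 = 0 ∨ (2 + 2 * lam) ^ 2 = 1 ∨ ((2 + 2 * lam) ^ 2) ^ 2 = -1) :
    Fintype.card F = 9 ∧ lam ^ 2 = -1 := by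
  classical
  have h3 : (3 : F) = 0 := by exact_mod_cast CharP.cast_eq_zero F 3
  have a0 : lam - 1 ≠ 0 := sub_ne_zero.2 hnp
  have a1 : lam + 1 ≠ 0 := fun e => hnm (eq_neg_of_add_eq_zero_left e)
  have u : ((2 + lam) ^ 2) ^ 2 = -1 := by
    rcases h1 with h | h | h
    · exact absurd ((pow_eq_zero_iff two_ne_zero).1 h) (fun e => a0 (by linear_combination e - h3))
    · rcases mul_eq_zero.1 (show lam * (lam + 1) = 0 by linear_combination h - (lam + 1) * h3) with e | e
      · exact absurd e hlam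
      · exact absurd e a1
    · exact h
  have v : ((2 + 2 * lam) ^ 2) ^ 2 = -1 := by
    rcases h2 with h | h | h
    · exact absurd ((pow_eq_zero_iff two_ne_zero).1 h)
        (fun e => a1 (by linear_combination -e + (lam + 1) * h3))
    · rcases mul_eq_zero.1 (show lam * (lam - 1) = 0 by
        linear_combination h - (lam ^ 2 + 3 * lam + 1) * h3) with e | e
      · exact absurd e hlam
      · exact absurd e a0
    · exact h
  have hl : lam ^ 2 = -1 := by
    rcases mul_eq_zero.1 (show lam * (lam ^ 2 + 1) = 0 by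
      linear_combination u - v +
        (5 * lam ^ 4 + 19 * lam ^ 3 + 24 * lam ^ 2 + 11 * lam) * h3) with e | e
    · exact absurd e hlam
    · linear_combination e
  refine ⟨?_, hl⟩
  have hl9 : lam ^ 9 = lam := by
    rw [show lam ^ 9 = (lam ^ 2) ^ 4 * lam by ring, hl]
    ring
  have hle : Fintype.card F ≤ 9 := card_le_of_fixed hgen 2 (by norm_num) hl9
  obtain ⟨n, -, hn⟩ := FiniteField.card F 3
  rcases n with ⟨n, hn0⟩
  simp only [PNat.mk_coe] at hn
  have hn2 : n ≤ 2 := (Nat.pow_le_pow_iff_right (by norm_num : 1 < 3)).1 (show 3 ^ n ≤ 3 ^ 2 by omega)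
  interval_cases n
  · exfalso
    have h := FiniteField.pow_card lam
    rw [hn, pow_one, show lam ^ 3 = lam ^ 2 * lam by ring, hl] at h
    exact hlam (by linear_combination h + lam * h3)
  · simpa using hn

theorem two_top_of_three {lam : F} (hlam : lam ≠ 0)
    (hgen : Subfield.closure ({lam} : Set F) = ⊤)
    (hnex : ¬ (Fintype.card F = 9 ∧ lam ^ 2 = -1)) : two lam = ⊤ := by
  classical
  have hodd : Odd (Fintype.card F) := by
    obtain ⟨n, -, hn⟩ := FiniteField.card F 3
    rw [hn]
    exact Odd.pow (by decide)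
  refine top_of_map_top hodd _ ?_
  set Hb := (two lam).map (proj (F := F)) with hHb
  let K := AlgebraicClosure F
  let φ : F →+* K := algebraMap F K
  have : CharP K 3 := (φ.charP_iff φ.injective 3).1 inferInstance
  have h3 : (3 : F) = 0 := by exact_mod_cast CharP.cast_eq_zero F 3
  let ι := pslHom φ
  have hι : Function.Injective ι := pslHom_injective φ
  let H' : Subgroup (PGL2 K) := Hb.map ι
  let e : Hb ≃* H' := Hb.equivMapOfInjective ι hι
  have : Finite H' := Finite.of_equiv _ e.toEquiv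
  have hX : proj (lo : S2 F) ∈ Hb := ⟨lo, Subgroup.subset_closure (Or.inl rfl), rfl⟩
  have hY : proj (hi lam : S2 F) ∈ Hb := ⟨hi lam, Subgroup.subset_closure (Or.inr rfl), rfl⟩
  have hXo : orderOf (proj (lo : S2 F)) = 3 := by
    refine orderOf_eq_prime (CfsgLib.Linear.SmallSub.proj_pow_three (t := (2 : F)) ?_
      (by linear_combination h3)) (CfsgLib.Linear.SmallSub.proj_ne_one (Or.inr (by simp [lo_coe])))
    simp [lo_coe, Matrix.trace_fin_two]
    ring
  have h3dvd : 3 ∣ Nat.card H' := by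
    rw [← Nat.card_congr e.toEquiv, ← hXo]
    exact (Subgroup.orderOf_mk _ hX).symm.dvd.trans (orderOf_dvd_natCard _)
  have tr : ∀ A : S2 F,
      (Matrix.SpecialLinearGroup.map φ A : Matrix (Fin 2) (Fin 2) K).trace =
        φ (A : Matrix (Fin 2) (Fin 2) F).trace := fun A => by
    simp [Matrix.trace_fin_two]
  rcases classification 3 H' with ⟨x, hx⟩ | ⟨n, -, hpn, hN, -⟩ | ⟨h, -⟩ | ⟨h, -⟩ |
    ⟨-, -, hN, ⟨d⟩⟩ | ⟨f, hf, g, hg⟩
  · exfalso
    have hy : ι (proj (hi lam)) • x = x := hx _ ⟨_, hY, rfl⟩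
    have hx' : ι (proj (lo : S2 F)) • x = x := hx _ ⟨_, hX, rfl⟩
    have e1 : ι (proj (hi lam)) = aff (1 : Kˣ) (φ lam) := pslHom_up φ lam
    have hinf : x = ∞ := by
      have : x ∈ fix (aff (1 : Kˣ) (φ lam)) := by rw [← e1]; exact hy
      rwa [fix_aff_one (by simpa using hlam)] at this
    rw [hinf] at hx'
    exact OnePoint.coe_ne_infty (1 : K) ((pslHom_low_smul_infty φ).symm.trans hx')
  · exfalso
    rw [hN] at h3dvd
    rcases Nat.prime_three.dvd_mul.1 h3dvd with h | h
    · norm_num at h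
    · exact hpn h
  · omega
  · omega
  · exfalso
    have h60 : Nat.card Hb = 60 := (Nat.card_congr e.toEquiv).trans hN
    have hA5 : ∀ z : alternatingGroup (Fin 5), z ^ 1 = 1 ∨ z ^ 2 = 1 ∨ z ^ 3 = 1 ∨ z ^ 5 = 1 := by
      decide +kernel
    have hord : ∀ A ∈ two lam, ∃ n, (n = 1 ∨ n = 2 ∨ n = 3 ∨ n = 5) ∧ proj A ^ n = 1 := by
      intro A hA
      let a : Hb := ⟨proj A, A, hA, rfl⟩
      have key : ∀ n : ℕ, (e.trans d) a ^ n = 1 → proj A ^ n = 1 := fun n hn => by
        rw [← map_pow, MulEquiv.map_eq_one_iff] at hn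
        exact congrArg Subtype.val hn
      rcases hA5 ((e.trans d) a) with h | h | h | h <;>
        exact ⟨_, by norm_num, key _ h⟩
    have hne : ∀ c : F, lam = c → c ^ 3 = c → False := by
      rintro c rfl hc
      have hle := card_le_of_fixed hgen 1 (by norm_num) (by rw [pow_one]; exact hc)
      rw [pow_one] at hle
      have hq : 1 < Fintype.card F := Fintype.one_lt_card
      have hd := Subgroup.card_le_card_group Hb
      rw [h60] at hd
      have hc2 := CfsgLib.Linear.PSLTwo.mul_card (F := F)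
      rw [Nat.card_eq_fintype_card (α := F)] at hc2
      interval_cases Fintype.card F
      · exact absurd hodd (by decide)
      · rw [show Nat.gcd 2 (3 - 1) = 2 by norm_num] at hc2
        norm_num [-Nat.card_eq_fintype_card] at hc2
        change 60 ≤ Nat.card (PSL2 F) at hd
        omega
    have hlo : (lo : S2 F) ∈ two lam := Subgroup.subset_closure (Or.inl rfl)
    have hhi : (hi lam : S2 F) ∈ two lam := Subgroup.subset_closure (Or.inr rfl)
    obtain ⟨n₁, hn₁, he₁⟩ := hord _ (mul_mem hlo hhi)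
    obtain ⟨n₂, hn₂, he₂⟩ := hord _ (mul_mem (mul_mem hlo hlo) hhi)
    have c1 := trace_sq_pow_nine _ n₁ hn₁ he₁
    have c2 := trace_sq_pow_nine _ n₂ hn₂ he₂
    rw [(trace_pow_hi lam).1] at c1
    rw [(trace_pow_hi lam).2] at c2
    exact hnex (exception_of_cond hlam hgen (fun h => hne 1 h (by ring))
      (fun h => hne (-1) h (by ring)) c1 c2)
  · set L := frobFix (K := K) 3 f
    have := finite_frobFix (K := K) 3 hf
    have hsub : H' ≤ (pglImage L.subtype).comap (MulAut.conj g).toMonoidHom := by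
      intro x hx
      have hx' : g * x * g⁻¹ ∈ conjH g H' := mem_conjH hx
      rcases hg with hg | ⟨-, hg⟩
      · rw [hg] at hx'
        exact hx'
      · rw [hg] at hx'
        obtain ⟨y, hy⟩ := hx'
        exact ⟨_, hy⟩
    have htr : ∀ A ∈ two lam, φ ((A : Matrix (Fin 2) (Fin 2) F).trace) ^ 2 ∈ L := fun A hA => by
      have h1 : ι (proj A) ∈ H' := ⟨_, ⟨A, hA, rfl⟩, rfl⟩
      have h2 := hsub h1
      rw [show ι (proj A) = Matrix.SpecialLinearGroup.toPGL (Matrix.SpecialLinearGroup.map φ A) from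
        pslHom_mk φ A] at h2
      have := trace_sq_mem L g _ h2
      rwa [tr] at this
    have hlo : (lo : S2 F) ∈ two lam := Subgroup.subset_closure (Or.inl rfl)
    have hhi : (hi lam : S2 F) ∈ two lam := Subgroup.subset_closure (Or.inr rfl)
    have m1 := htr _ (mul_mem hlo hhi)
    have m2 := htr _ (mul_mem (mul_mem hlo hlo) hhi)
    rw [(trace_pow_hi lam).1] at m1
    rw [(trace_pow_hi lam).2] at m2
    have h3K : (3 : K) = 0 := by exact_mod_cast CharP.cast_eq_zero K 3
    have hlamL : φ lam ∈ L := by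
      have hfour := sub_mem (mul_mem (natCast_mem L 4) (sub_mem m1 (natCast_mem L 4)))
        (sub_mem m2 (natCast_mem L 4))
      have : φ lam = ((2 : ℕ) : K) * (((4 : ℕ) : K) * (φ (2 + lam) ^ 2 - ((4 : ℕ) : K)) -
          (φ (2 + 2 * lam) ^ 2 - ((4 : ℕ) : K))) := by
        simp only [map_add, map_mul, map_ofNat]
        push_cast
        linear_combination (-5 * φ lam) * h3K
      rw [this]
      exact mul_mem (natCast_mem L 2) hfour
    have hall : ∀ x : F, φ x ∈ L := fun x => by
      have hle : Subfield.closure ({lam} : Set F) ≤ L.comap φ :=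
        Subfield.closure_le.2 (Set.singleton_subset_iff.2 hlamL)
      exact hle (hgen ▸ Subfield.mem_top x)
    let ψ : F →+* L := φ.codRestrict L hall
    have hqle : Nat.card F ≤ Nat.card L := Nat.card_le_card_of_injective ψ ψ.injective
    let _ := Fintype.ofFinite L
    have hsubL : pslImage L.subtype ≤ conjH g H' := by
      rcases hg with hg | ⟨-, hg⟩
      · rw [hg]; rintro _ ⟨y, rfl⟩; exact ⟨_, rfl⟩
      · rw [hg]
    have hcle : Nat.card (PSL2 L) ≤ Nat.card Hb := by
      rw [Nat.card_congr (pslImageEquiv L.subtype).toEquiv, Nat.card_congr e.toEquiv,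
        Nat.card_congr (conjHEquiv g H').toEquiv]
      have : Finite (conjH g H') := Finite.of_equiv _ (conjHEquiv g H').toEquiv
      exact Nat.le_of_dvd Nat.card_pos (Subgroup.card_dvd_of_le hsubL)
    refine Subgroup.eq_top_of_le_card Hb (le_trans ?_ hcle)
    have cF := CfsgLib.Linear.PSLTwo.mul_card (F := F)
    have cL := CfsgLib.Linear.PSLTwo.mul_card (F := L)
    have hoddF : Odd (Nat.card F) := by rwa [Nat.card_eq_fintype_card]
    have hoddL : Odd (Nat.card L) := by
      rw [card_frobFix 3 hf]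
      exact Odd.pow (by decide)
    rw [CfsgLib.Linear.PSLTwo.gcd_eq_two hoddF] at cF
    rw [CfsgLib.Linear.PSLTwo.gcd_eq_two hoddL] at cL
    have hmono : Nat.card F * (Nat.card F ^ 2 - 1) ≤ Nat.card L * (Nat.card L ^ 2 - 1) :=
      Nat.mul_le_mul hqle (Nat.sub_le_sub_right (Nat.pow_le_pow_left hqle 2) 1)
    rw [← cF, ← cL] at hmono
    exact Nat.le_of_mul_le_mul_left hmono two_pos

end Three

end CfsgLib.Linear.DicksonGen
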