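import Cfsg.Prelude.Def_ClassicalGeometry
import Mathlib.LinearAlgebra.Matrix.GeneralLinearGroup.Card
import Mathlib.LinearAlgebra.Matrix.SchurComplement
import Mathlib.LinearAlgebra.Matrix.Transvection

/-!
Maximal parabolic subgroups of `GL_n`: order, maximality, isomorphism `k ↔ n - k`.
-/

set_option autoImplicit false
set_option linter.flexible false

namespace CfsgLib.Linear.Parabolic

open Matrix

variable {F : Type*} [Field F] {a b : Type} [Fintype a] [DecidableEq a] [Fintype b] [DecidableEq b]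

/-- The coordinate subspace of the first block. -/
def firstSet (F : Type*) [Field F] (a b : Type) : Set (a ⊕ b → F) := {v | ∀ j, v (Sum.inr j) = 0}

/-- Its stabiliser. -/
def par (F : Type*) [Field F] (a b : Type) [Fintype a] [DecidableEq a] [Fintype b] [DecidableEq b] :
    Subgroup (GL (a ⊕ b) F) :=
  Cfsg.stabilizing (Cfsg.glToMat (a ⊕ b) F) (firstSet F a b)

theorem mem_par {g : GL (a ⊕ b) F} :
    g ∈ par F a b ↔ (g : Matrix (a ⊕ b) (a ⊕ b) F).toBlocks₂₁ = 0 := by
  constructor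
  · intro h
    ext j i
    have h1 := (h (Pi.single (Sum.inl i) 1)).1 (fun j => by simp) j
    change ((g : Matrix (a ⊕ b) (a ⊕ b) F) *ᵥ Pi.single (Sum.inl i) 1) (Sum.inr j) = 0 at h1
    rw [Matrix.mulVec_single_one] at h1
    exact h1
  · intro h v
    have hd : (g : Matrix (a ⊕ b) (a ⊕ b) F).toBlocks₂₂.det ≠ 0 := by
      have := g.det_ne_zero
      rw [← Matrix.fromBlocks_toBlocks (g : Matrix (a ⊕ b) (a ⊕ b) F), h,
        Matrix.det_fromBlocks_zero₂₁] at this
      exact right_ne_zero_of_mul this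
    have hv : ∀ j, ((g : Matrix (a ⊕ b) (a ⊕ b) F) *ᵥ v) (Sum.inr j) =
        ((g : Matrix (a ⊕ b) (a ⊕ b) F).toBlocks₂₂ *ᵥ (v ∘ Sum.inr)) j := by
      intro j
      conv_lhs => rw [← Matrix.fromBlocks_toBlocks (g : Matrix (a ⊕ b) (a ⊕ b) F),
        Matrix.fromBlocks_mulVec, h]
      simp
    change (∀ j, v (Sum.inr j) = 0) ↔ ∀ j, ((g : Matrix (a ⊕ b) (a ⊕ b) F) *ᵥ v) (Sum.inr j) = 0
    simp only [hv]
    constructor
    · intro h0 j
      rw [show v ∘ Sum.inr = 0 from funext h0, Matrix.mulVec_zero]; rfl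
    · intro h0 j
      exact congrFun (Matrix.eq_zero_of_mulVec_eq_zero hd (funext h0)) j

/-- Elements of `GL_(a+b)` from their blocks. -/
noncomputable def parMk (A : GL a F) (D : GL b F) (X : Matrix a b F) : GL (a ⊕ b) F :=
  GeneralLinearGroup.mkOfDetNeZero
    (Matrix.fromBlocks (A : Matrix a a F) X 0 (D : Matrix b b F))
    (by rw [Matrix.det_fromBlocks_zero₂₁]; exact mul_ne_zero A.det_ne_zero D.det_ne_zero)

theorem parMk_coe (A : GL a F) (D : GL b F) (X : Matrix a b F) :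
    (parMk A D X : Matrix (a ⊕ b) (a ⊕ b) F) =
      Matrix.fromBlocks (A : Matrix a a F) X 0 (D : Matrix b b F) := rfl

theorem parMk_mem (A : GL a F) (D : GL b F) (X : Matrix a b F) : parMk A D X ∈ par F a b :=
  mem_par.2 (by rw [parMk_coe, Matrix.toBlocks_fromBlocks₂₁])

theorem exists_parMk {g : GL (a ⊕ b) F} (hg : g ∈ par F a b) :
    ∃ (A : GL a F) (D : GL b F) (X : Matrix a b F), g = parMk A D X := by
  have h := mem_par.1 hg
  have hd := g.det_ne_zero
  rw [← Matrix.fromBlocks_toBlocks (g : Matrix (a ⊕ b) (a ⊕ b) F), h,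
    Matrix.det_fromBlocks_zero₂₁] at hd
  refine ⟨GeneralLinearGroup.mkOfDetNeZero _ (left_ne_zero_of_mul hd),
    GeneralLinearGroup.mkOfDetNeZero _ (right_ne_zero_of_mul hd),
    (g : Matrix (a ⊕ b) (a ⊕ b) F).toBlocks₁₂, Units.ext ?_⟩
  conv_lhs => rw [← Matrix.fromBlocks_toBlocks (g : Matrix (a ⊕ b) (a ⊕ b) F), h]
  rfl

theorem parMk_inj {A A' : GL a F} {D D' : GL b F} {X X' : Matrix a b F}
    (h : parMk A D X = parMk A' D' X') : A = A' ∧ D = D' ∧ X = X' := by
  have h' := congrArg (fun g : GL (a ⊕ b) F => (g : Matrix (a ⊕ b) (a ⊕ b) F)) h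
  simp only [parMk_coe] at h'
  exact ⟨Units.ext (by simpa using congrArg Matrix.toBlocks₁₁ h'),
    Units.ext (by simpa using congrArg Matrix.toBlocks₂₂ h'),
    by simpa using congrArg Matrix.toBlocks₁₂ h'⟩

theorem card_par [Finite F] : Nat.card (par F a b) =
    Nat.card F ^ (Fintype.card a * Fintype.card b) * Nat.card (GL a F) * Nat.card (GL b F) := by
  rw [← Nat.card_eq_of_bijective (fun p : (a → b → F) × GL a F × GL b F =>
      (⟨parMk p.2.1 p.2.2 (Matrix.of p.1), parMk_mem _ _ _⟩ : par F a b)) ⟨?_, ?_⟩,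
    Nat.card_prod, Nat.card_prod, Nat.card_fun, Nat.card_fun, ← pow_mul,
    Nat.card_eq_fintype_card (α := a), Nat.card_eq_fintype_card (α := b), mul_comm (Fintype.card b),
    mul_assoc]
  · intro p r h
    obtain ⟨h1, h2, h3⟩ := parMk_inj (congrArg Subtype.val h)
    exact Prod.ext (Matrix.of.injective h3) (Prod.ext h1 h2)
  · rintro ⟨g, hg⟩
    obtain ⟨A, D, X, rfl⟩ := exists_parMk hg
    exact ⟨(fun i j => X i j, A, D), rfl⟩

/-! ### Transitivity and invariant subspaces -/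

theorem exists_gl_single {ι : Type} [Fintype ι] [DecidableEq ι] {w : ι → F} (hw : w ≠ 0) (i : ι) :
    ∃ g : GL ι F, (g : Matrix ι ι F) *ᵥ Pi.single i 1 = w := by
  obtain ⟨j, hj⟩ : ∃ j, w j ≠ 0 := Function.ne_iff.1 hw
  set A := ((1 : Matrix ι ι F).updateCol j w).submatrix id (Equiv.swap i j)
  have hA : A.det ≠ 0 := by
    have h1 : ((1 : Matrix ι ι F).updateCol j w).det = w j := by
      rw [← Matrix.cramer_apply, Matrix.cramer_one]; rfl
    rw [show A.det = _ from Matrix.det_permute' _ _, h1]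
    exact mul_ne_zero ((Units.isUnit (Equiv.Perm.sign (Equiv.swap i j))).map (Int.castRingHom F)).ne_zero hj
  refine ⟨GeneralLinearGroup.mkOfDetNeZero A hA, ?_⟩
  funext k
  change (A *ᵥ Pi.single i 1) k = w k
  rw [Matrix.mulVec_single_one]
  simp [A, Matrix.col]

theorem exists_gl_map {ι : Type} [Fintype ι] [DecidableEq ι] {u w : ι → F} (hu : u ≠ 0)
    (hw : w ≠ 0) : ∃ g : GL ι F, (g : Matrix ι ι F) *ᵥ u = w := by
  obtain ⟨i, -⟩ : ∃ i, u i ≠ 0 := Function.ne_iff.1 hu
  obtain ⟨g, hg⟩ := exists_gl_single hu i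
  obtain ⟨h, hh⟩ := exists_gl_single hw i
  refine ⟨h * g⁻¹, ?_⟩
  rw [Units.val_mul, ← Matrix.mulVec_mulVec, ← hg, Matrix.mulVec_mulVec _ (g⁻¹ : GL ι F).val,
    ← Units.val_mul, inv_mul_cancel, Units.val_one, Matrix.one_mulVec, hh]

theorem mulVec_parMk (A : GL a F) (D : GL b F) (X : Matrix a b F) (x : a → F) (y : b → F) :
    (parMk A D X : Matrix (a ⊕ b) (a ⊕ b) F) *ᵥ Sum.elim x y =
      Sum.elim ((A : Matrix a a F) *ᵥ x + X *ᵥ y) ((D : Matrix b b F) *ᵥ y) := by
  rw [parMk_coe, Matrix.fromBlocks_mulVec]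
  simp

/-- The subspace of the first block. -/
def firstSub (F : Type*) [Field F] (a b : Type) : Submodule F (a ⊕ b → F) where
  carrier := firstSet F a b
  zero_mem' _ := rfl
  add_mem' {u v} hu hv j := by simp [hu j, hv j]
  smul_mem' c {v} hv j := by simp [hv j]

theorem invariant_subspace (W : Submodule F (a ⊕ b → F))
    (hW : ∀ g ∈ par F a b, ∀ v ∈ W, (g : Matrix (a ⊕ b) (a ⊕ b) F) *ᵥ v ∈ W) :
    W = ⊥ ∨ W = firstSub F a b ∨ W = ⊤ := by
  by_cases hle : W ≤ firstSub F a b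
  · by_cases hbot : W = ⊥
    · exact Or.inl hbot
    refine Or.inr (Or.inl (le_antisymm hle fun v hv => ?_))
    obtain ⟨w, hw, hw0⟩ := Submodule.exists_mem_ne_zero_of_ne_bot hbot
    have hsplit : ∀ x : a ⊕ b → F, x ∈ firstSub F a b → x = Sum.elim (x ∘ Sum.inl) 0 := fun x hx =>
      funext fun i => by rcases i with i | i <;> first | rfl | exact hx i
      
    by_cases hv0 : v = 0
    · rw [hv0]; exact W.zero_mem
    have hne : ∀ x, x ∈ firstSub F a b → x ≠ 0 → x ∘ Sum.inl ≠ 0 := fun x hx hx0 e =>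
      hx0 ((hsplit x hx).trans (by rw [e]; funext i; rcases i with i | i <;> rfl))
    obtain ⟨A, hA⟩ := exists_gl_map (hne w (hle hw) hw0) (hne v hv hv0)
    have := hW _ (parMk_mem A 1 0) w hw
    rwa [hsplit w (hle hw), mulVec_parMk, hA, Matrix.mulVec_zero, Matrix.mulVec_zero, add_zero,
      ← hsplit v hv] at this
  · refine Or.inr (Or.inr (eq_top_iff.2 fun v _ => ?_))
    obtain ⟨w, hw, hwS⟩ := SetLike.not_le_iff_exists.1 hle
    have hw2 : w ∘ Sum.inr ≠ 0 := fun e => hwS fun j => congrFun e j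
    obtain ⟨k, hk⟩ : ∃ k, (w ∘ Sum.inr) k ≠ 0 := Function.ne_iff.1 hw2
    have hS : ∀ x : a → F, Sum.elim x (0 : b → F) ∈ W := by
      intro x
      have h1 := hW _ (parMk_mem 1 1 (Matrix.of fun i j => if j = k then x i / (w ∘ Sum.inr) k else 0)) w hw
      rw [← Sum.elim_comp_inl_inr w, mulVec_parMk] at h1
      have h2 := W.sub_mem h1 hw
      convert h2 using 1
      funext i
      rcases i with i | i
      · simp [Matrix.mulVec, dotProduct]
        field_simp [show w (Sum.inr k) ≠ 0 from hk]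
      · simp [Matrix.mulVec, dotProduct, Matrix.one_apply]
    have hsplit : v = Sum.elim (v ∘ Sum.inl) (0 : b → F) + Sum.elim (0 : a → F) (v ∘ Sum.inr) := by
      funext i; rcases i with i | i <;> simp
    rw [hsplit]
    refine W.add_mem (hS _) ?_
    by_cases hv : v ∘ Sum.inr = 0
    · rw [hv]; convert W.zero_mem; funext i; rcases i with i | i <;> rfl
    obtain ⟨D, hD⟩ := exists_gl_map hw2 hv
    have h1 := hW _ (parMk_mem 1 D 0) w hw
    rw [← Sum.elim_comp_inl_inr w, mulVec_parMk, hD] at h1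
    have h2 := W.sub_mem h1 (hS (w ∘ Sum.inl))
    convert h2 using 1
    funext i
    rcases i with i | i <;> simp

/-! ### Maximality -/

/-- `1 + w ⊗ ψ` for `ψ w = 0`. -/
noncomputable def tvec {ι : Type} [Fintype ι] [DecidableEq ι] (w ψ : ι → F) (h : ψ ⬝ᵥ w = 0) :
    GL ι F :=
  ⟨1 + Matrix.vecMulVec w ψ, 1 - Matrix.vecMulVec w ψ, by
    rw [mul_sub, mul_one, add_mul, one_mul, Matrix.vecMulVec_mul_vecMulVec, h, zero_smul,
      Matrix.vecMulVec_zero, add_zero, add_sub_cancel_right], by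
    rw [sub_mul, one_mul, mul_add, mul_one, Matrix.vecMulVec_mul_vecMulVec, h, zero_smul,
      Matrix.vecMulVec_zero, add_zero, add_sub_cancel_right]⟩

theorem conj_tvec {ι : Type} [Fintype ι] [DecidableEq ι] (g : GL ι F) (w ψ : ι → F)
    (h : ψ ⬝ᵥ w = 0) : ∃ h', g * tvec w ψ h * g⁻¹ =
      tvec ((g : Matrix ι ι F) *ᵥ w) (ψ ᵥ* (g⁻¹ : GL ι F).val) h' := by
  refine ⟨?_, Units.ext ?_⟩
  · rw [← Matrix.dotProduct_mulVec, Matrix.mulVec_mulVec, ← Units.val_mul, inv_mul_cancel,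
      Units.val_one, Matrix.one_mulVec, h]
  · change (g : Matrix ι ι F) * (1 + Matrix.vecMulVec w ψ) * (g⁻¹ : GL ι F).val = 1 + _
    rw [Matrix.mul_add, Matrix.mul_one, Matrix.add_mul, ← Units.val_mul, mul_inv_cancel,
      Units.val_one, Matrix.mul_vecMulVec, Matrix.vecMulVec_mul]

theorem par_ne_top [Nonempty a] [Nonempty b] : par F a b ≠ ⊤ := by
  intro h
  obtain ⟨i⟩ := ‹Nonempty a›
  obtain ⟨j⟩ := ‹Nonempty b›
  have hw : (Pi.single (Sum.inl i) 1 : a ⊕ b → F) ≠ 0 := by simp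
  have hv : (Pi.single (Sum.inr j) 1 : a ⊕ b → F) ≠ 0 := by simp
  obtain ⟨g, hg⟩ := exists_gl_map hw hv
  have h1 := (((eq_top_iff.1 h) (Subgroup.mem_top g) : g ∈ par F a b) (Pi.single (Sum.inl i) 1)).1
    (fun j => by simp) j
  change ((g : Matrix (a ⊕ b) (a ⊕ b) F) *ᵥ _) (Sum.inr j) = 0 at h1
  rw [hg, Pi.single_eq_same] at h1
  exact one_ne_zero h1

theorem eq_top_of_lt [Nonempty a] [Nonempty b] [Finite F] {M : Subgroup (GL (a ⊕ b) F)}
    (hM : par F a b < M) : M = ⊤ := by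
  obtain ⟨g, hgM, hg⟩ := SetLike.exists_of_lt hM
  obtain ⟨u, hu, hgu⟩ : ∃ u ∈ firstSet F a b, (g : Matrix (a ⊕ b) (a ⊕ b) F) *ᵥ u ∉ firstSet F a b := by
    by_contra hc
    push Not at hc
    refine hg (mem_par.2 (Matrix.ext fun j i => ?_))
    have h1 := hc (Pi.single (Sum.inl i) 1) (fun j => by simp) j
    rw [Matrix.mulVec_single_one] at h1
    exact h1
  -- transvections centred at a vector of the first block lie in the parabolic
  have hP : ∀ ψ (h : ψ ⬝ᵥ u = 0), tvec u ψ h ∈ M := fun ψ h => hM.le (mem_par.2 (by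
    ext j i
    change (1 + Matrix.vecMulVec u ψ : Matrix (a ⊕ b) (a ⊕ b) F) (Sum.inr j) (Sum.inl i) = 0
    simp [Matrix.vecMulVec_apply, hu j]))
  set w := (g : Matrix (a ⊕ b) (a ⊕ b) F) *ᵥ u with hw
  have hT : ∀ ψ (h : ψ ⬝ᵥ w = 0), tvec w ψ h ∈ M := by
    intro ψ h
    have h0 : (ψ ᵥ* (g : Matrix (a ⊕ b) (a ⊕ b) F)) ⬝ᵥ u = 0 := by
      rw [← Matrix.dotProduct_mulVec]; exact h
    obtain ⟨h', e⟩ := conj_tvec g u _ h0
    have hmem := mul_mem (mul_mem hgM (hP _ h0)) (inv_mem hgM)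
    rw [e] at hmem
    convert hmem using 2
    rw [Matrix.vecMul_vecMul, ← Units.val_mul, mul_inv_cancel, Units.val_one, Matrix.vecMul_one]
  have hw2 : w ∘ Sum.inr ≠ 0 := fun e => hgu fun j => congrFun e j
  -- all elementary transvections in the missing block
  have hlow : ∀ (i : b) (j : a) (c : F),
      ∃ t ∈ M, (t : Matrix (a ⊕ b) (a ⊕ b) F) = Matrix.transvection (Sum.inr i) (Sum.inl j) c := by
    intro i j c
    obtain ⟨D, hD⟩ := exists_gl_map hw2 (show (Pi.single i 1 : b → F) ≠ 0 by simp)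
    obtain ⟨k, hk⟩ : ∃ k, (w ∘ Sum.inr) k ≠ 0 := Function.ne_iff.1 hw2
    set X : Matrix a b F := Matrix.of fun l m => if m = k then -(w (Sum.inl l)) / (w ∘ Sum.inr) k else 0
    set p := parMk (1 : GL a F) D X
    have hp : (p : Matrix (a ⊕ b) (a ⊕ b) F) *ᵥ w = Pi.single (Sum.inr i) 1 := by
      rw [← Sum.elim_comp_inl_inr w, mulVec_parMk, hD]
      funext l
      rcases l with l | l
      · simp [X, Matrix.mulVec, dotProduct, Matrix.one_apply]
        field_simp [show w (Sum.inr k) ≠ 0 from hk]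
        ring
      · simp [Pi.single_apply]
    set φ : a ⊕ b → F := Pi.single (Sum.inl j) c
    have hφ : (φ ᵥ* (p : Matrix (a ⊕ b) (a ⊕ b) F)) ⬝ᵥ w = 0 := by
      rw [← Matrix.dotProduct_mulVec, hp]
      simp [φ]
    obtain ⟨h', e⟩ := conj_tvec p w _ hφ
    have hpM : p ∈ M := hM.le (parMk_mem _ _ _)
    refine ⟨_, mul_mem (mul_mem hpM (hT _ hφ)) (inv_mem hpM), ?_⟩
    rw [e]
    change (1 + Matrix.vecMulVec _ _ : Matrix (a ⊕ b) (a ⊕ b) F) = _
    rw [hp, Matrix.vecMul_vecMul, ← Units.val_mul, mul_inv_cancel, Units.val_one, Matrix.vecMul_one]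
    ext l m
    simp [Matrix.transvection, Matrix.vecMulVec_apply, φ, Pi.single_apply, Matrix.single_apply]
    aesop
  rw [eq_top_iff]
  intro x _
  refine (?_ : ∀ A : Matrix (a ⊕ b) (a ⊕ b) F, A.det ≠ 0 →
    ∀ y : GL (a ⊕ b) F, (y : Matrix (a ⊕ b) (a ⊕ b) F) = A → y ∈ M) _ x.det_ne_zero x rfl
  intro A hA0
  refine Matrix.diagonal_transvection_induction_of_det_ne_zero
    (fun A => ∀ y : GL (a ⊕ b) F, (y : Matrix (a ⊕ b) (a ⊕ b) F) = A → y ∈ M) A hA0
    (fun D _ => ?_) (fun t => ?_) (fun A B hdA hdB hA' hB' => ?_)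
  ·
    intro y hy
    exact hM.le (mem_par.2 (by rw [hy]; ext i j; simp [Matrix.toBlocks₂₁]))
  ·
    intro y hy
    obtain ⟨i, j, hij, c⟩ := t
    by_cases hcase : ∃ i' j', i = Sum.inr i' ∧ j = Sum.inl j'
    · obtain ⟨i', j', rfl, rfl⟩ := hcase
      obtain ⟨s, hs, hse⟩ := hlow i' j' c
      rwa [show y = s from Units.ext (hy.trans hse.symm)]
    · refine hM.le (mem_par.2 ?_)
      rw [hy]
      ext l m
      have : ¬ (i = Sum.inr l ∧ j = Sum.inl m) := fun h => hcase ⟨_, _, h.1, h.2⟩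
      simp [Matrix.TransvectionStruct.toMatrix, Matrix.transvection, Matrix.toBlocks₂₁,
        Matrix.single_apply, this]
  ·
    intro y hy
    rw [show y = GeneralLinearGroup.mkOfDetNeZero A hdA * GeneralLinearGroup.mkOfDetNeZero B hdB from
      Units.ext hy]
    exact mul_mem (hA' _ rfl) (hB' _ rfl)

theorem isCoatom_par [Nonempty a] [Nonempty b] [Finite F] : IsCoatom (par F a b) :=
  ⟨par_ne_top, fun _ h => eq_top_of_lt h⟩

/-! ### Reindexing -/

/-- Reindexing `GL`. -/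
def glCongr {ι ι' : Type} [Fintype ι] [DecidableEq ι] [Fintype ι'] [DecidableEq ι'] (F : Type*)
    [Field F] (e : ι ≃ ι') : GL ι F ≃* GL ι' F :=
  Units.mapEquiv (Matrix.reindexAlgEquiv F F e).toMulEquiv

theorem glCongr_coe {ι ι' : Type} [Fintype ι] [DecidableEq ι] [Fintype ι'] [DecidableEq ι']
    (e : ι ≃ ι') (g : GL ι F) :
    (glCongr F e g : Matrix ι' ι' F) = (g : Matrix ι ι F).submatrix e.symm e.symm := rfl

theorem stabilizing_congr {ι ι' : Type} [Fintype ι] [DecidableEq ι] [Fintype ι'] [DecidableEq ι']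
    (e : ι ≃ ι') (S : Set (ι → F)) :
    Cfsg.stabilizing (Cfsg.glToMat ι' F) {v | v ∘ e ∈ S} =
      (Cfsg.stabilizing (Cfsg.glToMat ι F) S).map (glCongr F e).toMonoidHom := by
  ext x
  obtain ⟨g, rfl⟩ := (glCongr F e).surjective x
  rw [Subgroup.mem_map_equiv, MulEquiv.symm_apply_apply]
  have key : ∀ v : ι' → F, ((glCongr F e g : Matrix ι' ι' F) *ᵥ v) ∘ e = (g : Matrix ι ι F) *ᵥ (v ∘ e) := by
    intro v
    funext i
    simp only [Function.comp_apply, glCongr_coe, Matrix.mulVec, dotProduct, Matrix.submatrix_apply,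
      Equiv.symm_apply_apply]
    exact (Fintype.sum_equiv e _ _ fun j => by simp).symm
  constructor
  · intro h u
    have := h (u ∘ e.symm)
    change (u ∘ e.symm ∘ e ∈ S ↔ ((glCongr F e g : Matrix ι' ι' F) *ᵥ (u ∘ e.symm)) ∘ e ∈ S) at this
    rw [key, Equiv.symm_comp_self, Function.comp_id, Function.comp_assoc, Equiv.symm_comp_self,
      Function.comp_id] at this
    exact this
  · intro h v
    change v ∘ e ∈ S ↔ ((glCongr F e g : Matrix ι' ι' F) *ᵥ v) ∘ e ∈ S
    rw [key]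
    exact h _

/-- The splitting of `Fin n` after `k`. -/
def splitEquiv {n k : ℕ} (hk : k ≤ n) : Fin k ⊕ Fin (n - k) ≃ Fin n :=
  finSumFinEquiv.trans (finCongr (by omega))

theorem coordSet_eq {n k : ℕ} (hk : k ≤ n) :
    {v : Fin n → F | ∀ i : Fin n, k ≤ (i : ℕ) → v i = 0} =
      {v | v ∘ splitEquiv hk ∈ firstSet F (Fin k) (Fin (n - k))} := by
  ext v
  constructor
  · intro h j
    exact h _ (by simp [splitEquiv])
  · intro h i hi
    obtain ⟨x, rfl⟩ := (splitEquiv hk).surjective i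
    rcases x with x | x
    · have := x.isLt
      simp [splitEquiv] at hi
      omega
    · exact h x

theorem stabilizing_coord {n k : ℕ} (hk : k ≤ n) :
    Cfsg.stabilizing (Cfsg.glToMat (Fin n) F) {v : Fin n → F | ∀ i : Fin n, k ≤ (i : ℕ) → v i = 0} =
      (par F (Fin k) (Fin (n - k))).map (glCongr F (splitEquiv hk)).toMonoidHom := by
  rw [coordSet_eq hk]
  exact stabilizing_congr _ _

theorem card_coord [Fintype F] {q : ℕ} (hF : Fintype.card F = q) (n k : ℕ) (hk : k ≤ n) :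
    Nat.card (Cfsg.stabilizing (Cfsg.glToMat (Fin n) F)
      {v : Fin n → F | ∀ i : Fin n, k ≤ (i : ℕ) → v i = 0}) =
      q ^ (k * (n - k)) * (∏ i : Fin k, (q ^ k - q ^ (i : ℕ))) *
        ∏ i : Fin (n - k), (q ^ (n - k) - q ^ (i : ℕ)) := by
  rw [stabilizing_coord hk]
  refine (Nat.card_congr ((par F (Fin k) (Fin (n - k))).equivMapOfInjective _
      (glCongr F (splitEquiv hk)).injective).toEquiv).symm.trans ?_
  rw [card_par, Matrix.card_GL_field, Matrix.card_GL_field, Fintype.card_fin, Fintype.card_fin,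
    Nat.card_eq_fintype_card, hF]

theorem isCoatom_coord [Finite F] (n k : ℕ) (hk0 : 0 < k) (hkn : k < n) :
    IsCoatom (Cfsg.stabilizing (Cfsg.glToMat (Fin n) F)
      {v : Fin n → F | ∀ i : Fin n, k ≤ (i : ℕ) → v i = 0}) := by
  haveI : Nonempty (Fin k) := ⟨⟨0, hk0⟩⟩
  haveI : Nonempty (Fin (n - k)) := ⟨⟨0, by omega⟩⟩
  rw [stabilizing_coord hkn.le]
  exact ((glCongr F (splitEquiv hkn.le)).mapSubgroup.isCoatom_iff _).2 isCoatom_par

/-- Transpose inverse, exchanging the two blocks. -/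
noncomputable def dualPar : par F a b ≃* par F b a :=
  let θ : GL (a ⊕ b) F ≃* GL (b ⊕ a) F :=
    { toFun := fun g => glCongr F (Equiv.sumComm a b)
        ⟨((g⁻¹ : GL (a ⊕ b) F).val)ᵀ, (g : Matrix (a ⊕ b) (a ⊕ b) F)ᵀ,
          by rw [← Matrix.transpose_mul, ← Units.val_mul, mul_inv_cancel, Units.val_one, Matrix.transpose_one],
          by rw [← Matrix.transpose_mul, ← Units.val_mul, inv_mul_cancel, Units.val_one, Matrix.transpose_one]⟩
      invFun := fun g =>
        let h := (glCongr F (Equiv.sumComm a b)).symm g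
        ⟨((h⁻¹ : GL (a ⊕ b) F).val)ᵀ, (h : Matrix (a ⊕ b) (a ⊕ b) F)ᵀ,
          by rw [← Matrix.transpose_mul, ← Units.val_mul, mul_inv_cancel, Units.val_one, Matrix.transpose_one],
          by rw [← Matrix.transpose_mul, ← Units.val_mul, inv_mul_cancel, Units.val_one, Matrix.transpose_one]⟩
      left_inv := fun g => Units.ext (by simp)
      right_inv := fun g => by
        apply (glCongr F (Equiv.sumComm a b)).symm.injective
        simp only [MulEquiv.symm_apply_apply]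
        exact Units.ext (by simp)
      map_mul' := fun g h => by
        rw [← map_mul]
        congr 1
        exact Units.ext (by simp [Matrix.transpose_mul]) }
  (θ.subgroupMap (par F a b)).trans (MulEquiv.subgroupCongr (by
    have h21 : ∀ g : GL (a ⊕ b) F, θ g ∈ par F b a ↔ g⁻¹ ∈ par F a b := by
      intro g
      rw [mem_par, mem_par]
      have : ((θ g : GL (b ⊕ a) F) : Matrix (b ⊕ a) (b ⊕ a) F).toBlocks₂₁ =
          ((g⁻¹ : GL (a ⊕ b) F).val).toBlocks₂₁ᵀ := by
        ext i j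
        rfl
      rw [this, Matrix.transpose_eq_zero]
    ext x
    obtain ⟨g, rfl⟩ := θ.surjective x
    rw [Subgroup.mem_map]
    refine ⟨fun ⟨y, hy, e⟩ => (h21 g).2 (inv_mem (θ.injective e ▸ hy)),
      fun h => ⟨g, inv_mem_iff.1 ((h21 g).1 h), rfl⟩⟩))

theorem nonempty_coord_equiv (n k : ℕ) (hk : k ≤ n) :
    Nonempty (Cfsg.stabilizing (Cfsg.glToMat (Fin n) F)
        {v : Fin n → F | ∀ i : Fin n, k ≤ (i : ℕ) → v i = 0} ≃*
      Cfsg.stabilizing (Cfsg.glToMat (Fin n) F)
        {v : Fin n → F | ∀ i : Fin n, n - k ≤ (i : ℕ) → v i = 0}) := by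
  rw [stabilizing_coord hk, stabilizing_coord (Nat.sub_le n k)]
  have e0 : Nonempty (par F (Fin (n - k)) (Fin k) ≃* par F (Fin (n - k)) (Fin (n - (n - k)))) := by
    rw [Nat.sub_sub_self hk]; exact ⟨MulEquiv.refl _⟩
  obtain ⟨e0⟩ := e0
  exact ⟨((Subgroup.equivMapOfInjective _ _ (glCongr F (splitEquiv hk)).injective).symm.trans
    (dualPar.trans e0)).trans (Subgroup.equivMapOfInjective _ _ (glCongr F (splitEquiv _)).injective)⟩

/-- The coordinate subspace of `Fin n`. -/
def coordSub (F : Type*) [Field F] (n k : ℕ) : Submodule F (Fin n → F) where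
  carrier := {v | ∀ i : Fin n, k ≤ (i : ℕ) → v i = 0}
  zero_mem' _ _ := rfl
  add_mem' {u v} hu hv i hi := by simp [hu i hi, hv i hi]
  smul_mem' c {v} hv i hi := by simp [hv i hi]

theorem finrank_coordSub (n k : ℕ) (hk : k ≤ n) : Module.finrank F (coordSub F n k) = k := by
  let e : coordSub F n k ≃ₗ[F] (Fin k → F) :=
    { toFun := fun v i => v.1 (Fin.castLE hk i)
      map_add' := fun _ _ => rfl
      map_smul' := fun _ _ => rfl
      invFun := fun x => ⟨fun i => if h : (i : ℕ) < k then x ⟨i, h⟩ else 0, fun i hi => by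
        simp [not_lt.2 hi]⟩
      left_inv := fun v => Subtype.ext (funext fun i => by
        by_cases h : (i : ℕ) < k
        · simp only [h, dif_pos]; rfl
        · simp only [h, dif_neg, not_false_iff]; exact (v.2 i (not_lt.1 h)).symm)
      right_inv := fun x => funext fun i => by simp [i.isLt] }
  rw [e.finrank_eq, Module.finrank_fin_fun]

theorem not_conj_coord (n k : ℕ) (hk0 : 0 < k) (hkn : k < n) (h2 : 2 * k ≠ n) (g : GL (Fin n) F) :
    (Cfsg.stabilizing (Cfsg.glToMat (Fin n) F)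
        {v : Fin n → F | ∀ i : Fin n, k ≤ (i : ℕ) → v i = 0}).map (MulAut.conj g).toMonoidHom ≠
      Cfsg.stabilizing (Cfsg.glToMat (Fin n) F)
        {v : Fin n → F | ∀ i : Fin n, n - k ≤ (i : ℕ) → v i = 0} := by
  intro heq
  set L := Matrix.mulVecLin (g : Matrix (Fin n) (Fin n) F)
  have hLinj : Function.Injective L :=
    Matrix.mulVec_injective_of_isUnit (Units.isUnit g)
  set W := (coordSub F n k).map L
  have hW : Module.finrank F W = k :=
    ((coordSub F n k).equivMapOfInjective L hLinj).symm.finrank_eq.trans (finrank_coordSub n k hkn.le)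
  have hinv : ∀ x ∈ Cfsg.stabilizing (Cfsg.glToMat (Fin n) F)
        {v : Fin n → F | ∀ i : Fin n, n - k ≤ (i : ℕ) → v i = 0},
      ∀ v ∈ W, (x : Matrix (Fin n) (Fin n) F) *ᵥ v ∈ W := by
    intro x hx v hv
    rw [← heq, Subgroup.mem_map] at hx
    obtain ⟨y, hy, rfl⟩ := hx
    obtain ⟨u, hu, rfl⟩ := hv
    refine ⟨(y : Matrix (Fin n) (Fin n) F) *ᵥ u, (hy u).1 hu, ?_⟩
    simp only [MulEquiv.coe_toMonoidHom, MulAut.conj_apply, L, Matrix.mulVecLin_apply, Units.val_mul,
      Matrix.mulVec_mulVec, mul_assoc, Units.inv_mul, mul_one]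
  set e := splitEquiv (Nat.sub_le n k)
  let E : (Fin (n - k) ⊕ Fin (n - (n - k)) → F) ≃ₗ[F] (Fin n → F) := LinearEquiv.funCongrLeft F F e.symm
  set W' := W.comap E.toLinearMap
  have hW' : Module.finrank F W' = k := by
    exact ((E.ofSubmodule' W).finrank_eq).trans hW
  rcases invariant_subspace W' (fun x hx v hv => by
      have hx' : glCongr F e x ∈ Cfsg.stabilizing (Cfsg.glToMat (Fin n) F)
          {v : Fin n → F | ∀ i : Fin n, n - k ≤ (i : ℕ) → v i = 0} := by
        rw [stabilizing_coord (Nat.sub_le n k)]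
        exact ⟨x, hx, rfl⟩
      have := hinv _ hx' _ hv
      have hE : E ((x : Matrix _ _ F) *ᵥ v) = (glCongr F e x : Matrix (Fin n) (Fin n) F) *ᵥ E v := ?_
      · change E ((x : Matrix _ _ F) *ᵥ v) ∈ W
        rw [hE]
        exact this
      funext i
      simp only [E, LinearEquiv.funCongrLeft_apply, glCongr_coe, Matrix.mulVec, dotProduct,
        Matrix.submatrix_apply, LinearMap.funLeft_apply]
      exact (Fintype.sum_equiv e _ _ fun j => by simp)) with h | h | h
  · rw [h, finrank_bot] at hW'; omega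
  · have : W'.map E.toLinearMap = coordSub F n (n - k) := by
      rw [h]
      ext v
      rw [Submodule.mem_map_equiv]
      exact Set.ext_iff.1 (coordSet_eq (F := F) (Nat.sub_le n k)).symm v
    have h3 := finrank_coordSub (F := F) n (n - k) (Nat.sub_le n k)
    rw [← this, E.finrank_map_eq, hW'] at h3
    omega
  · rw [h, finrank_top, Module.finrank_fintype_fun_eq_card, Fintype.card_sum, Fintype.card_fin,
      Fintype.card_fin] at hW'
    omega

end CfsgLib.Linear.Parabolic
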