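import Mathlib.LinearAlgebra.Matrix.GeneralLinearGroup.Card
import Mathlib.FieldTheory.Finite.Basic
import Mathlib.GroupTheory.Sylow
import Mathlib.LinearAlgebra.Matrix.Adjugate
import Mathlib.LinearAlgebra.Matrix.Rank
import Mathlib.LinearAlgebra.Matrix.Block
import Mathlib.Algebra.Group.Pi.Units

/-!
`GL_n`: Sylow order in the defining characteristic, the Borel subgroup, monomial matrices,
transvections.
-/

set_option autoImplicit false
set_option linter.flexible false

namespace CfsgLib.Linear.GLn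

open Matrix

variable {F : Type*} [Field F]

theorem two_dvd_mul_pred (n : ℕ) : n * (n - 1) / 2 = ∑ i : Fin n, (i : ℕ) := by
  rw [Fin.sum_univ_eq_sum_range fun i => i, Finset.sum_range_id]

theorem card_sylow [Fintype F] (p : ℕ) [Fact p.Prime] [CharP F p] (n : ℕ)
    (P : Sylow p (GL (Fin n) F)) : Nat.card P = Fintype.card F ^ (n * (n - 1) / 2) := by
  obtain ⟨k, -, hk⟩ := FiniteField.card F p
  have hp : p.Prime := Fact.out
  have hcard : Nat.card (GL (Fin n) F) =
      Fintype.card F ^ (n * (n - 1) / 2) * ∏ i : Fin n, (Fintype.card F ^ (n - (i : ℕ)) - 1) := by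
    rw [Matrix.card_GL_field, two_dvd_mul_pred, ← Finset.prod_pow_eq_pow_sum,
      ← Finset.prod_mul_distrib]
    refine Finset.prod_congr rfl fun i _ => ?_
    rw [Nat.mul_sub, mul_one, ← pow_add]
    congr 2
    omega
  have hnd : ¬ p ∣ ∏ i : Fin n, (Fintype.card F ^ (n - (i : ℕ)) - 1) := by
    refine Prime.not_dvd_finset_prod hp.prime fun i _ h => ?_
    have h1 : p ∣ Fintype.card F ^ (n - (i : ℕ)) := by
      rw [hk, ← pow_mul]
      exact dvd_pow_self _ (Nat.mul_ne_zero k.2.ne' (by omega))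
    have h2 := Nat.dvd_sub h1 h
    have : 1 ≤ Fintype.card F ^ (n - (i : ℕ)) := Nat.one_le_pow _ _ Fintype.card_pos
    rw [show Fintype.card F ^ (n - (i : ℕ)) - (Fintype.card F ^ (n - (i : ℕ)) - 1) = 1 by omega] at h2
    exact hp.not_dvd_one h2
  have hne : Fintype.card F ^ (n * (n - 1) / 2) ≠ 0 := pow_ne_zero _ Fintype.card_pos.ne'
  have hne' : (∏ i : Fin n, (Fintype.card F ^ (n - (i : ℕ)) - 1)) ≠ 0 := fun e => hnd (e ▸ dvd_zero p)
  rw [P.card_eq_multiplicity, hcard, Nat.factorization_mul hne hne', Finsupp.add_apply,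
    Nat.factorization_eq_zero_of_not_dvd hnd, add_zero, hk, ← pow_mul, Nat.factorization_pow,
    Finsupp.smul_apply, hp.factorization_self, smul_eq_mul, mul_one]

theorem card_lower [Fintype F] (n : ℕ) :
    Nat.card {g : GL (Fin n) F // ∀ i j : Fin n, i < j → (g : Matrix (Fin n) (Fin n) F) i j = 0} =
      Fintype.card F ^ (n * (n - 1) / 2) * (Fintype.card F - 1) ^ n := by
  classical
  have key : ∀ (d : Fin n → Fˣ) (l : {x : Fin n × Fin n // x.2 < x.1} → F),
      (Matrix.of fun i j => if h : j < i then l ⟨(i, j), h⟩ else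
        if i = j then (d i : F) else 0).det = ∏ i, (d i : F) := by
    intro d l
    rw [Matrix.det_of_lowerTriangular]
    · exact Finset.prod_congr rfl fun i _ => by simp
    · intro i j hij
      have hij : i < j := hij
      simp [not_lt.2 hij.le, hij.ne]
  let f : (Fin n → Fˣ) × ({x : Fin n × Fin n // x.2 < x.1} → F) →
      {g : GL (Fin n) F // ∀ i j : Fin n, i < j → (g : Matrix (Fin n) (Fin n) F) i j = 0} := fun r =>
    ⟨GeneralLinearGroup.mkOfDetNeZero
      (Matrix.of fun i j => if h : j < i then r.2 ⟨(i, j), h⟩ else if i = j then (r.1 i : F) else 0)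
      (by rw [key]; exact Finset.prod_ne_zero_iff.2 fun i _ => (r.1 i).ne_zero),
      fun i j hij => by simp [GeneralLinearGroup.mkOfDetNeZero, not_lt.2 hij.le, hij.ne]⟩
  have hf : Function.Bijective f := by
    constructor
    · rintro ⟨d, l⟩ ⟨d', l'⟩ e
      have e' : ∀ i j, ((f (d, l)).1 : Matrix (Fin n) (Fin n) F) i j = ((f (d', l')).1 : Matrix (Fin n) (Fin n) F) i j :=
        fun i j => by rw [e]
      refine Prod.ext (funext fun i => Units.ext ?_) (funext fun x => ?_)
      · simpa [f, GeneralLinearGroup.mkOfDetNeZero] using e' i i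
      · simpa [f, GeneralLinearGroup.mkOfDetNeZero, x.2] using e' x.1.1 x.1.2
    · rintro ⟨g, hg⟩
      have hd : ∀ i, (g : Matrix (Fin n) (Fin n) F) i i ≠ 0 := by
        intro i
        have h := g.det_ne_zero
        rw [Matrix.det_of_lowerTriangular _ (fun a b hab => hg a b hab)] at h
        exact Finset.prod_ne_zero_iff.1 h i (Finset.mem_univ _)
      refine ⟨(fun i => Units.mk0 _ (hd i), fun x => (g : Matrix (Fin n) (Fin n) F) x.1.1 x.1.2),
        Subtype.ext (Units.ext ?_)⟩
      ext i j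
      rcases lt_trichotomy i j with h | rfl | h
      · simp [f, GeneralLinearGroup.mkOfDetNeZero, not_lt.2 h.le, h.ne, hg i j h]
      · simp [f, GeneralLinearGroup.mkOfDetNeZero]
      · simp [f, GeneralLinearGroup.mkOfDetNeZero, h]
  have hcount : Nat.card {x : Fin n × Fin n // x.2 < x.1} = n * (n - 1) / 2 := by
    rw [Nat.card_congr (Equiv.subtypeProdEquivSigmaSubtype fun a b => b < a), Nat.card_sigma,
      two_dvd_mul_pred]
    refine Finset.sum_congr rfl fun i _ => ?_
    rw [Nat.card_eq_fintype_card, Fintype.card_subtype, Finset.filter_gt_eq_Iio, Fin.card_Iio]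
  rw [← Nat.card_eq_of_bijective f hf, Nat.card_prod, Nat.card_fun, Nat.card_fun, hcount,
    Nat.card_units, Nat.card_eq_fintype_card (α := F), Nat.card_eq_fintype_card (α := Fin n), Fintype.card_fin, mul_comm]

theorem mem_normalizer_diagonal_iff (hF : ∃ a : F, a ≠ 0 ∧ a ≠ 1) (n : ℕ) (g : GL (Fin n) F) :
    g ∈ Subgroup.normalizer ((Units.map (Matrix.diagonalRingHom (Fin n) F).toMonoidHom).range :
      Subgroup (GL (Fin n) F)) ↔
      ∀ i : Fin n, ∃! j : Fin n, (g : Matrix (Fin n) (Fin n) F) i j ≠ 0 := by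
  classical
  obtain ⟨a, ha0, ha1⟩ := hF
  set D := (Units.map (Matrix.diagonalRingHom (Fin n) F).toMonoidHom).range
  have hcomm : ∀ (d d' : (Fin n → F)ˣ),
      g * Units.map (Matrix.diagonalRingHom (Fin n) F).toMonoidHom d * g⁻¹ =
        Units.map (Matrix.diagonalRingHom (Fin n) F).toMonoidHom d' ↔
      ∀ i j, (g : Matrix (Fin n) (Fin n) F) i j * (d : Fin n → F) j =
        (d' : Fin n → F) i * (g : Matrix (Fin n) (Fin n) F) i j := by
    intro d d'
    rw [mul_inv_eq_iff_eq_mul, Units.ext_iff, ← Matrix.ext_iff]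
    refine forall₂_congr fun i j => ?_
    simp only [Units.val_mul, Units.coe_map, RingHom.toMonoidHom_eq_coe, MonoidHom.coe_coe,
      Matrix.diagonalRingHom_apply]
    rw [Matrix.mul_diagonal, Matrix.diagonal_mul]
  have hrow : ∀ i, ∃ j, (g : Matrix (Fin n) (Fin n) F) i j ≠ 0 := by
    intro i
    by_contra h
    push Not at h
    exact g.det_ne_zero (Matrix.det_eq_zero_of_row_eq_zero i h)
  constructor
  · intro hg i
    obtain ⟨j, hj⟩ := hrow i
    refine ⟨j, hj, fun k hk => ?_⟩
    by_contra hne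
    set d : Fin n → F := Function.update (fun _ => 1) j a
    have hd : IsUnit d := Pi.isUnit_iff.2 fun l => isUnit_iff_ne_zero.2 (by
      simp only [d, Function.update_apply]; split <;> simp [ha0])
    obtain ⟨d', hd'⟩ := (Subgroup.mem_normalizer_iff.1 hg _).1 ⟨hd.unit, rfl⟩
    have h := (hcomm _ _).1 hd'.symm
    have e1 := h i j
    have e2 := h i k
    simp only [IsUnit.unit_spec, d, Function.update_self, Function.update_of_ne hne, mul_one] at e1 e2
    rw [mul_comm] at e1
    exact ha1 ((mul_right_cancel₀ hj e1).trans (mul_right_cancel₀ hk ((one_mul _).trans e2)).symm)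
  · intro hg
    choose σ hσ huniq using hg
    have hzero : ∀ i j, j ≠ σ i → (g : Matrix (Fin n) (Fin n) F) i j = 0 := fun i j hj => by
      by_contra h
      exact hj (huniq i j h)
    have hbij : Function.Bijective σ := by
      refine Finite.injective_iff_bijective.1 fun i i' e => ?_
      by_contra hne
      refine g.det_ne_zero ?_
      rw [← Matrix.det_updateRow_add_smul_self (g : Matrix (Fin n) (Fin n) F) hne
        (-((g : Matrix (Fin n) (Fin n) F) i (σ i) / (g : Matrix (Fin n) (Fin n) F) i' (σ i)))]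
      refine Matrix.det_eq_zero_of_row_eq_zero i fun j => ?_
      rw [Matrix.updateRow_self, Pi.add_apply, Pi.smul_apply, smul_eq_mul]
      by_cases hj : j = σ i
      · subst hj
        have : (g : Matrix (Fin n) (Fin n) F) i' (σ i) ≠ 0 := by rw [e]; exact hσ i'
        field_simp
        ring
      · rw [hzero i j hj, hzero i' j (e ▸ hj)]; ring
    have hmain : ∀ d d' : (Fin n → F)ˣ, (∀ i, (d : Fin n → F) (σ i) = (d' : Fin n → F) i) →
        g * Units.map (Matrix.diagonalRingHom (Fin n) F).toMonoidHom d * g⁻¹ =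
          Units.map (Matrix.diagonalRingHom (Fin n) F).toMonoidHom d' := by
      intro d d' h
      rw [hcomm]
      intro i j
      by_cases hj : j = σ i
      · rw [hj, h, mul_comm]
      · rw [hzero i j hj]; ring
    have hunit : ∀ (d : (Fin n → F)ˣ) (s : Fin n → Fin n), IsUnit fun i => (d : Fin n → F) (s i) :=
      fun d s => Pi.isUnit_iff.2 fun i => Pi.isUnit_iff.1 d.isUnit (s i)
    refine Subgroup.mem_normalizer_iff.2 fun x => ⟨?_, ?_⟩
    · rintro ⟨d, rfl⟩
      exact ⟨(hunit d σ).unit, (hmain d _ fun i => rfl).symm⟩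
    · rintro ⟨d', hd'⟩
      obtain ⟨τ, hτ⟩ := hbij.2.hasRightInverse
      refine ⟨(hunit d' τ).unit, mul_left_cancel (mul_right_cancel ((hmain _ d' fun i => ?_).trans hd'))⟩
      rw [IsUnit.unit_spec]
      exact congrArg _ (hbij.1 (hτ (σ i)))

theorem exists_sl_row (n : ℕ) {w : Fin (n + 2) → F} (hw : w ≠ 0) :
    ∃ (h : Matrix.SpecialLinearGroup (Fin (n + 2)) F) (c : F), c ≠ 0 ∧
      (h : Matrix (Fin (n + 2)) (Fin (n + 2)) F) 0 = c • w := by
  classical
  obtain ⟨j, hj⟩ : ∃ j, w j ≠ 0 := Function.ne_iff.1 hw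
  set A := ((1 : Matrix (Fin (n + 2)) (Fin (n + 2)) F).updateRow j w).submatrix (Equiv.swap 0 j) id
  have hA0 : A 0 = w := by
    funext l
    simp [A]
  have hdet : A.det ≠ 0 := by
    have h1 : ((1 : Matrix (Fin (n + 2)) (Fin (n + 2)) F).updateRow j w).det = w j := by
      rw [← Matrix.det_transpose, ← Matrix.updateCol_transpose, Matrix.transpose_one,
        ← Matrix.cramer_apply, Matrix.cramer_one]
      rfl
    rw [show A.det = _ from Matrix.det_permute _ _, h1]
    exact mul_ne_zero ((Units.isUnit (Equiv.Perm.sign (Equiv.swap 0 j))).map (Int.castRingHom F)).ne_zero hj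
  refine ⟨⟨A.updateRow 0 (A.det⁻¹ • A 0), ?_⟩, A.det⁻¹, inv_ne_zero hdet, ?_⟩
  · rw [Matrix.det_updateRow_smul, Matrix.updateRow_eq_self, inv_mul_cancel₀ hdet]
  · change (A.updateRow 0 (A.det⁻¹ • A 0)) 0 = _
    rw [Matrix.updateRow_self, hA0]

theorem transvection_conj (n : ℕ) (t : Matrix.SpecialLinearGroup (Fin (n + 2)) F)
    (hrank : ((t : Matrix (Fin (n + 2)) (Fin (n + 2)) F) - 1).rank = 1)
    (hsq : ((t : Matrix (Fin (n + 2)) (Fin (n + 2)) F) - 1) * ((t : Matrix (Fin (n + 2)) (Fin (n + 2)) F) - 1) = 0) :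
    ∃ (g : Matrix.SpecialLinearGroup (Fin (n + 2)) F) (v : Fin (n + 2) → F), v 0 = 0 ∧
      ((g⁻¹ * t * g : Matrix.SpecialLinearGroup (Fin (n + 2)) F) : Matrix (Fin (n + 2)) (Fin (n + 2)) F) =
        1 + Matrix.vecMulVec v (Pi.single 0 1) := by
  classical
  set N := (t : Matrix (Fin (n + 2)) (Fin (n + 2)) F) - 1 with hN
  obtain ⟨i, j, hij⟩ : ∃ i j, N i j ≠ 0 := by
    by_contra h
    push Not at h
    rw [show N = 0 from Matrix.ext h, Matrix.rank_zero] at hrank
    exact zero_ne_one hrank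
  -- the row space is the line through row `i`
  set w := N i with hw
  obtain ⟨u, hu⟩ : ∃ u : Fin (n + 2) → F, N = Matrix.vecMulVec u w := by
    have hspan : Module.finrank F (Submodule.span F (Set.range N.row)) = 1 := by
      rw [← Matrix.rank_eq_finrank_span_row, hrank]
    have hwmem : w ∈ Submodule.span F (Set.range N.row) := Submodule.subset_span ⟨i, rfl⟩
    have hw0 : (⟨w, hwmem⟩ : Submodule.span F (Set.range N.row)) ≠ 0 := fun e =>
      hij (congrFun (congrArg Subtype.val e) j)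
    have hall : ∀ k, ∃ c : F, c • w = N k := fun k => by
      obtain ⟨c, hc⟩ := (finrank_eq_one_iff_of_nonzero' _ hw0).1 hspan ⟨N k, Submodule.subset_span ⟨k, rfl⟩⟩
      exact ⟨c, congrArg Subtype.val hc⟩
    choose u hu using hall
    exact ⟨u, Matrix.ext fun k l => (congrFun (hu k) l).symm⟩
  have hwne : w ≠ 0 := fun e => hij (congrFun e j)
  obtain ⟨h, c, hc, hrow⟩ := exists_sl_row n hwne
  have hwu : w ⬝ᵥ u = 0 := by
    have hu0 : u ≠ 0 := fun e => hij (by
      have := congrFun (congrFun hu i) j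
      simp [e, Matrix.vecMulVec_apply] at this
      exact this)
    rw [hu, Matrix.vecMulVec_mul_vecMulVec] at hsq
    obtain ⟨k, hk⟩ := Function.ne_iff.1 hu0
    have := congrFun (congrFun hsq k) j
    simp [Matrix.vecMulVec_apply] at this
    simp at hk
    tauto
  refine ⟨h⁻¹, c⁻¹ • ((h : Matrix (Fin (n + 2)) (Fin (n + 2)) F) *ᵥ u), ?_, ?_⟩
  · rw [Pi.smul_apply, Matrix.mulVec, hrow, smul_dotProduct, hwu, smul_zero, smul_zero]
  · rw [inv_inv, Matrix.SpecialLinearGroup.coe_mul, Matrix.SpecialLinearGroup.coe_mul,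
      show (t : Matrix (Fin (n + 2)) (Fin (n + 2)) F) = 1 + N from (add_sub_cancel _ _).symm,
      Matrix.mul_add, Matrix.mul_one, Matrix.add_mul, ← Matrix.SpecialLinearGroup.coe_mul,
      mul_inv_cancel, Matrix.SpecialLinearGroup.coe_one, hu]
    congr 1
    rw [Matrix.mul_vecMulVec, Matrix.vecMulVec_mul]
    have e : w ᵥ* ((h⁻¹ : Matrix.SpecialLinearGroup (Fin (n + 2)) F) : Matrix (Fin (n + 2)) (Fin (n + 2)) F) =
        c⁻¹ • Pi.single 0 1 := by
      have h1 : w = c⁻¹ • (h : Matrix (Fin (n + 2)) (Fin (n + 2)) F) 0 := by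
        rw [hrow, smul_smul, inv_mul_cancel₀ hc, one_smul]
      rw [h1, show (h : Matrix (Fin (n + 2)) (Fin (n + 2)) F) 0 =
        Pi.single 0 1 ᵥ* (h : Matrix (Fin (n + 2)) (Fin (n + 2)) F) from (Matrix.single_one_vecMul _ _).symm,
        Matrix.smul_vecMul, Matrix.vecMul_vecMul, ← Matrix.SpecialLinearGroup.coe_mul, mul_inv_cancel,
        Matrix.SpecialLinearGroup.coe_one, Matrix.vecMul_one]
    rw [e, Matrix.vecMulVec_smul, Matrix.smul_vecMulVec]

end CfsgLib.Linear.GLn
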