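import Cfsg.Agent.Forms.OfBilin
import Mathlib

/-!
Finite commutative rings with an involution that is nowhere trivial: Hilbert 90 and norms.
-/

set_option autoImplicit false
set_option linter.style.haveILetI false

namespace CfsgLib.InvolRing

variable {R : Type*} [CommRing R]

omit [CommRing R] in
private theorem lt_or_gt_index {α : Type*} [Fintype α] {a b : α} (h : a ≠ b) :
    (Fintype.equivFin α a).val < (Fintype.equivFin α b).val ∨
      (Fintype.equivFin α b).val < (Fintype.equivFin α a).val :=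
  Nat.lt_or_gt_of_ne fun e => h ((Fintype.equivFin α).injective (Fin.ext e))

theorem isUnit_of_notMem {x : R} (h : ∀ m : Ideal R, m.IsMaximal → x ∉ m) : IsUnit x := by
  by_contra hx
  obtain ⟨m, hm, hxm⟩ := exists_max_ideal_of_mem_nonunits (mem_nonunits_iff.2 hx)
  exact h m hm hxm

variable [Finite R] (τ : R ≃+* R)

/-- The image of a maximal ideal. -/
def flip (m : MaximalSpectrum R) : MaximalSpectrum R :=
  ⟨m.asIdeal.comap (τ : R →+* R), by
    haveI := m.isMaximal
    exact Ideal.comap_isMaximal_of_surjective _ τ.surjective⟩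

/-- Prescribing residues compatibly with the involution. -/
theorem exists_residues (hτ : ∀ x, τ (τ x) = x) (P : MaximalSpectrum R → R → Prop) (a b : R)
    (hfix : ∀ m, flip τ m = m → ∃ c, P m c) :
    ∃ y : R, ∀ m : MaximalSpectrum R,
      (flip τ m = m ∧ ∃ c, P m c ∧ y - c ∈ m.asIdeal ∧ τ y - τ c ∈ m.asIdeal) ∨
      (flip τ m ≠ m ∧ ((y - a ∈ m.asIdeal ∧ τ y - τ b ∈ m.asIdeal) ∨
        (y - b ∈ m.asIdeal ∧ τ y - τ a ∈ m.asIdeal))) := by
  classical
  haveI : Finite (Ideal R) := Finite.of_injective (fun I : Ideal R => (I : Set R)) SetLike.coe_injective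
  haveI : Finite (MaximalSpectrum R) :=
    Finite.of_injective (fun m : MaximalSpectrum R => m.asIdeal) fun _ _ e => MaximalSpectrum.ext e
  haveI := Fintype.ofFinite (MaximalSpectrum R)
  have hinv : ∀ m, flip τ (flip τ m) = m := fun m => MaximalSpectrum.ext (by
    ext x
    show τ (τ x) ∈ m.asIdeal ↔ x ∈ m.asIdeal
    rw [hτ])
  let c : MaximalSpectrum R → R := fun m =>
    if h : flip τ m = m then (hfix m h).choose
    else if (Fintype.equivFin _ m).val < (Fintype.equivFin _ (flip τ m)).val then a else b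
  have hco : Pairwise (Function.onFun IsCoprime fun m : MaximalSpectrum R => m.asIdeal) := by
    intro m n hmn
    exact Ideal.isCoprime_iff_sup_eq.2 (Ideal.IsMaximal.coprime_of_ne m.isMaximal n.isMaximal
      fun e => hmn (MaximalSpectrum.ext e))
  obtain ⟨y, hy⟩ := Ideal.exists_forall_sub_mem_ideal hco c
  have hty : ∀ m, τ y - τ (c (flip τ m)) ∈ m.asIdeal := fun m => by
    have h := hy (flip τ m)
    rw [← map_sub]
    exact h
  refine ⟨y, fun m => ?_⟩
  by_cases h : flip τ m = m
  · refine Or.inl ⟨h, (hfix m h).choose, (hfix m h).choose_spec, ?_, ?_⟩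
    · have := hy m
      simpa only [c, dif_pos h] using this
    · have := hty m
      rw [h] at this
      simpa only [c, dif_pos h] using this
  · refine Or.inr ⟨h, ?_⟩
    have h' : flip τ (flip τ m) ≠ flip τ m := fun e => h (e.symm.trans (hinv m))
    have h1 := hy m
    have h2 := hty m
    simp only [c, dif_neg h, dif_neg h', hinv] at h1 h2
    rcases lt_or_gt_index h with hlt | hlt
    · rw [if_neg (by omega)] at h1
      rw [if_pos hlt] at h2
      exact Or.inr ⟨h1, h2⟩
    · rw [if_pos hlt] at h1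
      rw [if_neg (by omega)] at h2
      exact Or.inl ⟨h1, h2⟩

/-- Hilbert 90. -/
theorem exists_hilbert90 (hτ : ∀ x, τ (τ x) = x) {d : R} (hd : IsUnit (d - τ d)) {T : R}
    (hT : T * τ T = 1) : ∃ z : R, IsUnit z ∧ τ z * T = z := by
  have hTu : IsUnit T := IsUnit.of_mul_eq_one _ hT
  obtain ⟨y, hy⟩ := exists_residues τ hτ (fun m c => c + τ c * T ∉ m.asIdeal) 1 0 fun m _ => by
    by_cases h : 1 + T ∈ m.asIdeal
    · refine ⟨d, fun hc => ?_⟩
      have h1 := sub_mem hc (m.asIdeal.mul_mem_left (τ d) h)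
      rw [show d + τ d * T - τ d * (1 + T) = d - τ d by ring] at h1
      exact m.isMaximal.ne_top (Ideal.eq_top_of_isUnit_mem _ h1 hd)
    · exact ⟨1, by rwa [map_one, one_mul]⟩
  refine ⟨y + τ y * T, isUnit_of_notMem fun m hm hz => ?_, ?_⟩
  · rcases hy ⟨m, hm⟩ with ⟨-, c, hc, h1, h2⟩ | ⟨-, ⟨h1, h2⟩ | ⟨h1, h2⟩⟩
    · apply hc
      have := sub_mem (sub_mem hz h1) (m.mul_mem_right T h2)
      rwa [show y + τ y * T - (y - c) - (τ y - τ c) * T = c + τ c * T by ring] at this
    · rw [map_zero, sub_zero] at h2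
      have := sub_mem (sub_mem hz h1) (m.mul_mem_right T h2)
      rw [show y + τ y * T - (y - 1) - τ y * T = 1 by ring] at this
      exact hm.ne_top ((Ideal.eq_top_iff_one _).2 this)
    · rw [sub_zero] at h1
      rw [map_one] at h2
      have := sub_mem (sub_mem hz h1) (m.mul_mem_right T h2)
      rw [show y + τ y * T - y - (τ y - 1) * T = T by ring] at this
      exact hm.ne_top (Ideal.eq_top_of_isUnit_mem _ this hTu)
  · rw [map_add, map_mul, hτ]
    linear_combination y * hT

theorem exists_norm_one_add (hτ : ∀ x, τ (τ x) = x) {e : R} (he : e + τ e = 1) :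
    ∀ (k : ℕ) (ε : R), τ ε = ε → ε ^ (2 ^ k) = 0 → ∃ u : R, u * τ u = 1 + ε := by
  intro k
  induction k with
  | zero =>
    intro ε _ h0
    rw [pow_zero, pow_one] at h0
    exact ⟨1, by rw [h0, map_one]; ring⟩
  | succ k ih =>
    intro ε hε h0
    set N := (1 + ε * e) * τ (1 + ε * e) with hN
    have hNeq : N = 1 + ε + ε ^ 2 * (e * τ e) := by
      rw [hN, map_add, map_one, map_mul, hε]
      linear_combination ε * he
    have hnil : IsNilpotent (ε + ε ^ 2 * (e * τ e)) := by
      refine (Commute.all _ _).isNilpotent_add ⟨_, h0⟩ ⟨2 ^ k, ?_⟩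
      rw [mul_pow, ← pow_mul, ← pow_succ', h0, zero_mul]
    obtain ⟨w, hw⟩ : ∃ w, N * w = 1 := by
      have : IsUnit N := by rw [hNeq, add_assoc]; exact hnil.isUnit_one_add
      exact this.exists_right_inv
    have hNfix : τ N = N := by rw [hN, map_mul, hτ, mul_comm]
    have hwfix : τ w = w := by
      have h1 := congrArg τ hw
      rw [map_mul, hNfix, map_one] at h1
      calc τ w = τ w * (N * w) := by rw [hw, mul_one]
        _ = N * τ w * w := by ring
        _ = w := by rw [h1, one_mul]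
    obtain ⟨u, hu⟩ := ih ((1 + ε) * w - 1)
      (by rw [map_sub, map_mul, map_add, map_one, hε, hwfix]) (by
        rw [show (1 + ε) * w - 1 = ε ^ 2 * (-(e * τ e) * w) by
          linear_combination (1 : R) * hw - w * hNeq, mul_pow, ← pow_mul, ← pow_succ', h0, zero_mul])
    refine ⟨(1 + ε * e) * u, ?_⟩
    rw [map_mul, mul_mul_mul_comm, ← hN, hu]
    linear_combination (1 + ε) * hw

/-- Norms are surjective onto fixed units. -/
theorem exists_norm (hτ : ∀ x, τ (τ x) = x) {d : R} (hd : IsUnit (d - τ d)) {h : R}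
    (hh : τ h = h) (hu : IsUnit h) : ∃ z : R, z * τ z = h := by
  obtain ⟨d', hd'⟩ := hd.exists_right_inv
  have hd'τ : τ d' = -d' := by
    have h1 := congrArg τ hd'
    rw [map_mul, map_sub, hτ, map_one] at h1
    calc τ d' = τ d' * ((d - τ d) * d') := by rw [hd', mul_one]
      _ = -(((τ d - d) * τ d') * d') := by ring
      _ = -d' := by rw [h1, one_mul]
  obtain ⟨y, hy⟩ := exists_residues τ hτ (fun m c => c * τ c - h ∈ m.asIdeal) h 1 fun m hm => by
    haveI := m.isMaximal
    letI : Field (R ⧸ m.asIdeal) := Ideal.Quotient.field _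
    haveI : Finite (R ⧸ m.asIdeal) := Finite.of_surjective _ Ideal.Quotient.mk_surjective
    let σ : R ⧸ m.asIdeal →+* R ⧸ m.asIdeal := Ideal.quotientMap m.asIdeal (τ : R →+* R)
      (le_of_eq (congrArg MaximalSpectrum.asIdeal hm).symm)
    have hσ : ∀ x : R, σ (Ideal.Quotient.mk _ x) = Ideal.Quotient.mk _ (τ x) :=
      fun x => Ideal.quotientMap_mk
    obtain ⟨c, hc⟩ := CfsgLib.Forms.finite_norm_surjective (σ := σ) (fun e => by
      have h1 := RingHom.congr_fun e (Ideal.Quotient.mk _ d)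
      rw [hσ, RingHom.id_apply, eq_comm, Ideal.Quotient.eq] at h1
      exact m.isMaximal.ne_top (Ideal.eq_top_of_isUnit_mem _ h1 hd))
      (fun x => by
        obtain ⟨x, rfl⟩ := Ideal.Quotient.mk_surjective x
        rw [hσ, hσ, hτ])
      (Ideal.Quotient.mk _ h) (by rw [hσ, hh]) (fun e => by
        rw [Ideal.Quotient.eq_zero_iff_mem] at e
        exact m.isMaximal.ne_top (Ideal.eq_top_of_isUnit_mem _ e hu))
    obtain ⟨c, rfl⟩ := Ideal.Quotient.mk_surjective c
    rw [hσ, ← map_mul, Ideal.Quotient.eq] at hc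
    exact ⟨c, hc⟩
  have hmem : ∀ m : Ideal R, m.IsMaximal → y * τ y - h ∈ m := by
    intro m hm
    rcases hy ⟨m, hm⟩ with ⟨-, c, hc, h1, h2⟩ | ⟨-, ⟨h1, h2⟩ | ⟨h1, h2⟩⟩
    · rw [show y * τ y - h = (y - c) * τ y + c * (τ y - τ c) + (c * τ c - h) by ring]
      exact add_mem (add_mem (m.mul_mem_right _ h1) (m.mul_mem_left _ h2)) hc
    · rw [map_one] at h2
      rw [show y * τ y - h = (y - h) * τ y + h * (τ y - 1) by ring]
      exact add_mem (m.mul_mem_right _ h1) (m.mul_mem_left _ h2)
    · rw [hh] at h2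
      rw [show y * τ y - h = (y - 1) * τ y + (τ y - h) by ring]
      exact add_mem (m.mul_mem_right _ h1) h2
  have hyu : IsUnit (y * τ y) := isUnit_of_notMem fun m hm hym => by
    have := sub_mem hym (hmem m hm)
    rw [show y * τ y - (y * τ y - h) = h by ring] at this
    exact hm.ne_top (Ideal.eq_top_of_isUnit_mem _ this hu)
  obtain ⟨w, hw⟩ := hyu.exists_right_inv
  have hwfix : τ w = w := by
    have h1 := congrArg τ hw
    rw [map_mul, map_mul, hτ, map_one] at h1
    calc τ w = τ w * (y * τ y * w) := by rw [hw, mul_one]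
      _ = (τ y * y * τ w) * w := by ring
      _ = w := by rw [h1, one_mul]
  set ε := h * w - 1 with hεdef
  have hεm : ∀ m : Ideal R, m.IsMaximal → ε ∈ m := fun m hm => by
    rw [show ε = -((y * τ y - h) * w) + (y * τ y * w - 1) by rw [hεdef]; ring, hw, sub_self, add_zero]
    exact neg_mem (m.mul_mem_right _ (hmem m hm))
  obtain ⟨i, j, hij, hεij⟩ : ∃ i j, i < j ∧ ε ^ i = ε ^ j := by
    obtain ⟨i, j, hne, e⟩ := Finite.exists_ne_map_eq_of_infinite fun i : ℕ => ε ^ i
    rcases Nat.lt_or_gt_of_ne hne with h' | h'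
    · exact ⟨i, j, h', e⟩
    · exact ⟨j, i, h', e.symm⟩
  have hunit : IsUnit (1 - ε ^ (j - i)) := isUnit_of_notMem fun m hm h1 => by
    have h2 := add_mem h1 (Ideal.pow_mem_of_mem m (hεm m hm) (j - i) (by omega))
    rw [sub_add_cancel] at h2
    exact hm.ne_top ((Ideal.eq_top_iff_one _).2 h2)
  have hεi : ε ^ i = 0 := by
    refine (hunit.mul_left_eq_zero).1 ?_
    rw [mul_sub, mul_one, ← pow_add, Nat.add_sub_cancel' hij.le, hεij, sub_self]
  obtain ⟨u, hu'⟩ := exists_norm_one_add τ hτ (e := d * d') (by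
    rw [map_mul, hd'τ]
    linear_combination hd') i ε (by rw [hεdef, map_sub, map_mul, hh, hwfix, map_one])
    (pow_eq_zero_of_le Nat.lt_two_pow_self.le hεi)
  refine ⟨y * u, ?_⟩
  rw [map_mul, mul_mul_mul_comm, hu', hεdef]
  linear_combination h * hw

end CfsgLib.InvolRing
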