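import Cfsg.Agent.Quad.Concrete

/-!
The two families of maximal totally singular subspaces of a quadratic form of plus type.
-/

set_option autoImplicit false

namespace CfsgLib.Linear.MaxSing

open QuadraticMap Module

variable {F V : Type*} [Field F] [AddCommGroup V] [Module F V] [FiniteDimensional F V]
  (Q : QuadraticForm F V) (m : ℕ)

/-- A totally singular subspace of dimension `m`. -/
def IsMax (W : Submodule F V) : Prop := finrank F W = m ∧ ∀ w ∈ W, Q w = 0

/-- The orthogonal space for the polar form. -/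
noncomputable def perp (W : Submodule F V) : Submodule F V :=
  LinearMap.BilinForm.orthogonal (polarBilin Q) W

omit [FiniteDimensional F V] in
theorem mem_perp {W : Submodule F V} {x : V} : x ∈ perp Q W ↔ ∀ w ∈ W, polar Q w x = 0 := Iff.rfl

omit [FiniteDimensional F V] in
theorem isRefl : LinearMap.BilinForm.IsRefl (polarBilin Q) := fun x y h => by
  rw [polarBilin_apply_apply] at h ⊢
  rw [polar_comm]
  exact h

variable {Q m}

omit [FiniteDimensional F V] in
theorem polar_zero {W : Submodule F V} (hW : ∀ w ∈ W, Q w = 0) {u v : V} (hu : u ∈ W) (hv : v ∈ W) :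
    polar Q u v = 0 := by
  rw [polar, hW _ (add_mem hu hv), hW u hu, hW v hv]
  simp

theorem finrank_perp (hQ : (polarBilin Q).Nondegenerate) (hV : finrank F V = 2 * m)
    (W : Submodule F V) : finrank F (perp Q W) = 2 * m - finrank F W := by
  rw [perp, LinearMap.BilinForm.finrank_orthogonal hQ, hV]

theorem finrank_le_half (hQ : (polarBilin Q).Nondegenerate) (hV : finrank F V = 2 * m)
    {W : Submodule F V} (hW : ∀ w ∈ W, Q w = 0) : finrank F W ≤ m := by
  have h := Submodule.finrank_mono (show W ≤ perp Q W from fun x hx =>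
    (mem_perp Q).2 fun w hw => polar_zero hW hw hx)
  rw [finrank_perp hQ hV] at h
  omega

theorem perp_eq_self (hQ : (polarBilin Q).Nondegenerate) (hV : finrank F V = 2 * m)
    {W : Submodule F V} (hW : IsMax Q m W) : perp Q W = W :=
  (Submodule.eq_of_le_of_finrank_le
    (show W ≤ perp Q W from fun x hx => (mem_perp Q).2 fun w hw => polar_zero hW.2 hw hx)
    (by rw [finrank_perp hQ hV, hW.1]; omega)).symm

/-- Adjoining a singular vector orthogonal to a singular subspace. -/
theorem singular_sup {H : Submodule F V} (hH : ∀ w ∈ H, Q w = 0) {u : V} (hu : Q u = 0)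
    (huH : u ∈ perp Q H) : ∀ w ∈ H ⊔ Submodule.span F {u}, Q w = 0 := by
  intro w hw
  obtain ⟨h, hh, z, hz, rfl⟩ := Submodule.mem_sup.1 hw
  obtain ⟨c, rfl⟩ := Submodule.mem_span_singleton.1 hz
  have h1 : polar Q h (c • u) = 0 := by
    rw [polar_smul_right, (mem_perp Q).1 huH h hh, smul_zero]
  rw [polar, QuadraticMap.map_smul, hH h hh, hu, smul_zero, sub_zero, sub_zero] at h1
  exact h1

theorem finrank_sup_singleton {H : Submodule F V} {u : V} (huH : u ∉ H) :
    finrank F ↥(H ⊔ Submodule.span F {u}) = finrank F H + 1 := by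
  have hu : u ≠ 0 := fun e => huH (e ▸ zero_mem H)
  have h := Submodule.finrank_sup_add_finrank_inf_eq H (Submodule.span F {u})
  have hinf : H ⊓ Submodule.span F {u} = ⊥ := by
    rw [Submodule.eq_bot_iff]
    rintro x ⟨hx1, hx2⟩
    obtain ⟨c, rfl⟩ := Submodule.mem_span_singleton.1 hx2
    by_contra hc
    have hc0 : c ≠ 0 := fun e => hc (by rw [e, zero_smul])
    exact huH (by simpa [smul_smul, inv_mul_cancel₀ hc0] using H.smul_mem c⁻¹ hx1)
  rw [hinf, finrank_bot, finrank_span_singleton hu] at h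
  omega

/-- Through a singular `(m-1)`-space: two distinct maximal ones span its orthogonal space, and a
singular vector of that space lies in one of them. -/
theorem mem_or_mem (hQ : (polarBilin Q).Nondegenerate) (hV : finrank F V = 2 * m)
    {H W X : Submodule F V} (hW : IsMax Q m W) (hX : IsMax Q m X) (hH : finrank F H + 1 = m)
    (hHW : H ≤ W) (hHX : H ≤ X) (hne : W ≠ X) :
    W ⊓ X = H ∧ W ⊔ X = perp Q H ∧ ∀ u ∈ perp Q H, Q u = 0 → u ∈ W ∨ u ∈ X := by
  have hinf : W ⊓ X = H := by
    refine (Submodule.eq_of_le_of_finrank_le (le_inf hHW hHX) ?_).symm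
    by_contra hlt
    have h1 := Submodule.finrank_mono (inf_le_left : W ⊓ X ≤ W)
    have e1 : W ⊓ X = W := Submodule.eq_of_le_of_finrank_le inf_le_left (by rw [hW.1]; omega)
    exact hne (Submodule.eq_of_le_of_finrank_le (inf_eq_left.1 e1) (by rw [hX.1, hW.1]))
  have hsup : W ⊔ X = perp Q H := by
    refine Submodule.eq_of_le_of_finrank_le (sup_le ?_ ?_) ?_
    · exact fun x hx => (mem_perp Q).2 fun h hh => polar_zero hW.2 (hHW hh) hx
    · exact fun x hx => (mem_perp Q).2 fun h hh => polar_zero hX.2 (hHX hh) hx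
    · have h := Submodule.finrank_sup_add_finrank_inf_eq W X
      rw [hinf, hW.1, hX.1] at h
      rw [finrank_perp hQ hV]
      omega
  refine ⟨hinf, hsup, fun u hu hQu => ?_⟩
  rw [← hsup] at hu
  obtain ⟨w, hw, x, hx, rfl⟩ := Submodule.mem_sup.1 hu
  have hp : polar Q w x = 0 := by
    rw [polar, hQu, hW.2 w hw, hX.2 x hx]
    simp
  by_cases hwH : w ∈ H
  · exact Or.inr (add_mem (hHX hwH) hx)
  · left
    have hsp : H ⊔ Submodule.span F {w} = W := Submodule.eq_of_le_of_finrank_le
      (sup_le hHW (by rwa [Submodule.span_singleton_le_iff_mem]))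
      (by rw [finrank_sup_singleton hwH, hW.1]; omega)
    have hxW : x ∈ perp Q W := by
      rw [mem_perp]
      intro z hz
      rw [← hsp] at hz
      obtain ⟨h, hh, t, ht, rfl⟩ := Submodule.mem_sup.1 hz
      obtain ⟨c, rfl⟩ := Submodule.mem_span_singleton.1 ht
      rw [polar_add_left, polar_smul_left, hp, polar_zero hX.2 (hHX hh) hx, smul_zero, add_zero]
    rw [perp_eq_self hQ hV hW] at hxW
    exact add_mem hw hxW

/-- The codimension of the intersection changes by exactly one along an adjacent pair. -/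
theorem adjacent (hQ : (polarBilin Q).Nondegenerate) (hV : finrank F V = 2 * m)
    {U W X : Submodule F V} (hU : IsMax Q m U) (hW : IsMax Q m W) (hX : IsMax Q m X)
    (hWX : finrank F ↥(W ⊓ X) + 1 = m) :
    Odd (finrank F ↥(U ⊓ W) + finrank F ↥(U ⊓ X)) := by
  set H := W ⊓ X with hH
  have hne : W ≠ X := by
    rintro rfl
    rw [hH, inf_idem, hW.1] at hWX
    omega
  obtain ⟨-, hsup, hmem⟩ := mem_or_mem hQ hV hW hX hWX inf_le_left inf_le_right hne
  set k := finrank F ↥(U ⊓ H) with hk
  -- the trace of `U` on `H⊥` has dimension `k + 1`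
  have hkH : k ≤ finrank F H := Submodule.finrank_mono inf_le_right
  have hperp : perp Q (U ⊔ perp Q H) = U ⊓ H := by
    ext z
    constructor
    · intro hz
      refine ⟨?_, ?_⟩
      · have : z ∈ perp Q U := fun w hw => hz w (Submodule.mem_sup_left hw)
        rwa [perp_eq_self hQ hV hU] at this
      · have : z ∈ perp Q (perp Q H) := fun w hw => hz w (Submodule.mem_sup_right hw)
        rwa [perp, perp, LinearMap.BilinForm.orthogonal_orthogonal hQ (isRefl Q)] at this
    · rintro ⟨hzU, hzH⟩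
      refine (mem_perp Q).2 fun w hw => ?_
      obtain ⟨a, ha, b, hb, rfl⟩ := Submodule.mem_sup.1 hw
      rw [polar_add_left, polar_zero hU.2 ha hzU, polar_comm, (mem_perp Q).1 hb z hzH, add_zero]
  have hsd : finrank F ↥(U ⊔ perp Q H) = 2 * m - k := by
    have h := finrank_perp hQ hV (U ⊔ perp Q H)
    rw [hperp, ← hk] at h
    have hle := Submodule.finrank_le (U ⊔ perp Q H)
    rw [hV] at hle
    omega
  have hUH : finrank F ↥(U ⊓ perp Q H) = k + 1 := by
    have h := Submodule.finrank_sup_add_finrank_inf_eq U (perp Q H)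
    rw [hsd, hU.1, finrank_perp hQ hV] at h
    omega
  have hA : U ⊓ W ≤ U ⊓ perp Q H := inf_le_inf_left U (hsup ▸ le_sup_left)
  have hB : U ⊓ X ≤ U ⊓ perp Q H := inf_le_inf_left U (hsup ▸ le_sup_right)
  have hA0 : U ⊓ H ≤ U ⊓ W := inf_le_inf_left U inf_le_left
  have hB0 : U ⊓ H ≤ U ⊓ X := inf_le_inf_left U inf_le_right
  have a1 := Submodule.finrank_mono hA
  have b1 := Submodule.finrank_mono hB
  have a0 := Submodule.finrank_mono hA0
  have b0 := Submodule.finrank_mono hB0
  rw [hUH] at a1 b1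
  rw [← hk] at a0 b0
  have hor : finrank F ↥(U ⊓ W) = k + 1 ∨ finrank F ↥(U ⊓ X) = k + 1 := by
    by_contra hc
    push Not at hc
    obtain ⟨u, hu, huH⟩ : ∃ u ∈ U ⊓ perp Q H, u ∉ U ⊓ H := by
      by_contra hn
      push Not at hn
      have := Submodule.finrank_mono (show U ⊓ perp Q H ≤ U ⊓ H from hn)
      omega
    have eA : U ⊓ H = U ⊓ W := Submodule.eq_of_le_of_finrank_le hA0 (by omega)
    have eB : U ⊓ H = U ⊓ X := Submodule.eq_of_le_of_finrank_le hB0 (by omega)
    rcases hmem u hu.2 (hU.2 u hu.1) with h | h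
    · exact huH (eA ▸ ⟨hu.1, h⟩)
    · exact huH (eB ▸ ⟨hu.1, h⟩)
  have hnot : ¬ (finrank F ↥(U ⊓ W) = k + 1 ∧ finrank F ↥(U ⊓ X) = k + 1) := by
    rintro ⟨e1, e2⟩
    have eA : U ⊓ W = U ⊓ perp Q H := Submodule.eq_of_le_of_finrank_le hA (by omega)
    have eB : U ⊓ X = U ⊓ perp Q H := Submodule.eq_of_le_of_finrank_le hB (by omega)
    have : U ⊓ perp Q H ≤ U ⊓ H := fun z hz => by
      have h1 : z ∈ U ⊓ W := eA ▸ hz
      have h2 : z ∈ U ⊓ X := eB ▸ hz
      exact ⟨h1.1, h1.2, h2.2⟩
    have := Submodule.finrank_mono this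
    omega
  rw [Nat.odd_iff]
  omega

/-- The parity relation is an equivalence with two classes. -/
theorem parity (hQ : (polarBilin Q).Nondegenerate) (hV : finrank F V = 2 * m)
    {U : Submodule F V} (hU : IsMax Q m U) {X : Submodule F V} (hX : IsMax Q m X) :
    ∀ (d : ℕ) (W : Submodule F V), IsMax Q m W → m - finrank F ↥(W ⊓ X) = d →
      Even ((m - finrank F ↥(U ⊓ W)) + d + (m - finrank F ↥(U ⊓ X))) := by
  intro d
  induction d with
  | zero =>
    intro W hW hd
    have hle := Submodule.finrank_mono (inf_le_left : W ⊓ X ≤ W)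
    rw [hW.1] at hle
    have e1 : W ⊓ X = W := Submodule.eq_of_le_of_finrank_le inf_le_left (by rw [hW.1]; omega)
    have e2 : W = X := Submodule.eq_of_le_of_finrank_le (inf_eq_left.1 e1) (by rw [hX.1, hW.1])
    subst e2
    exact ⟨m - finrank F ↥(U ⊓ W), by omega⟩
  | succ d ih =>
    intro W hW hd
    obtain ⟨x, hxX, hxW⟩ : ∃ x ∈ X, x ∉ W := by
      by_contra hn
      push Not at hn
      rw [inf_eq_right.2 (show X ≤ W from hn), hX.1] at hd
      omega
    let f : W →ₗ[F] F := (polarBilin Q x).comp W.subtype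
    set H := (LinearMap.ker f).map W.subtype with hH
    have hHmem : ∀ z, z ∈ H ↔ z ∈ W ∧ polar Q x z = 0 := fun z => by
      constructor
      · rintro ⟨w, hw, rfl⟩
        exact ⟨w.2, hw⟩
      · rintro ⟨hz, h0⟩
        exact ⟨⟨z, hz⟩, h0, rfl⟩
    have hHd : finrank F H + 1 = m := by
      rw [hH, Submodule.finrank_map_subtype_eq]
      have hf : f ≠ 0 := by
        intro h0
        apply hxW
        rw [← perp_eq_self hQ hV hW, mem_perp]
        intro w hw
        rw [polar_comm]
        exact LinearMap.congr_fun h0 ⟨w, hw⟩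
      obtain ⟨w, hw⟩ : ∃ w, f w ≠ 0 := by
        by_contra hn
        push Not at hn
        exact hf (LinearMap.ext hn)
      have hs : LinearMap.range f = ⊤ := LinearMap.range_eq_top.2 fun c =>
        ⟨(c / f w) • w, by rw [map_smul, smul_eq_mul, div_mul_cancel₀ c hw]⟩
      have h := f.finrank_range_add_finrank_ker
      rw [hs, finrank_top, Module.finrank_self, hW.1] at h
      omega
    set W' := H ⊔ Submodule.span F {x} with hW'
    have hxH : x ∉ H := fun h => hxW ((hHmem x).1 h).1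
    have hW'max : IsMax Q m W' := by
      refine ⟨by rw [hW', finrank_sup_singleton hxH]; exact hHd, ?_⟩
      refine singular_sup (fun w hw => hW.2 w ((hHmem w).1 hw).1) (hX.2 x hxX) ?_
      rw [mem_perp]
      intro w hw
      rw [polar_comm]
      exact ((hHmem w).1 hw).2
    have hne : W ≠ W' := fun e => hxW (e ▸ Submodule.mem_sup_right (Submodule.mem_span_singleton_self x))
    have hHW : H ≤ W := fun z hz => ((hHmem z).1 hz).1
    obtain ⟨hinf, -, -⟩ := mem_or_mem hQ hV hW hW'max hHd hHW le_sup_left hne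
    have hWX : W ⊓ X ≤ H := fun z hz => (hHmem z).2 ⟨hz.1, polar_zero hX.2 hxX hz.2⟩
    have e1 : W' ⊓ X = (W ⊓ X) ⊔ Submodule.span F {x} := by
      refine le_antisymm ?_ (sup_le (le_inf (hWX.trans le_sup_left) inf_le_right) ?_)
      · rintro z ⟨hz1, hz2⟩
        obtain ⟨h, hh, t, ht, rfl⟩ := Submodule.mem_sup.1 hz1
        obtain ⟨c, rfl⟩ := Submodule.mem_span_singleton.1 ht
        refine Submodule.mem_sup.2 ⟨h, ⟨hHW hh, ?_⟩, c • x, ht, rfl⟩
        simpa using sub_mem hz2 (X.smul_mem c hxX)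
      · rw [Submodule.span_singleton_le_iff_mem]
        exact ⟨Submodule.mem_sup_right (Submodule.mem_span_singleton_self x), hxX⟩
    have hd' : m - finrank F ↥(W' ⊓ X) = d := by
      rw [e1, finrank_sup_singleton (fun h => hxW (Submodule.mem_inf.1 h).1)]
      omega
    have hodd := adjacent hQ hV hU hW hW'max (by rw [hinf]; exact hHd)
    have hev := ih W' hW'max hd'
    have l1 := Submodule.finrank_mono (inf_le_left : U ⊓ W ≤ U)
    have l2 := Submodule.finrank_mono (inf_le_left : U ⊓ W' ≤ U)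
    rw [hU.1] at l1 l2
    rw [Nat.odd_iff] at hodd
    rw [Nat.even_iff] at hev ⊢
    omega

/-- A singular vector of `U⊥` outside a singular `(m-1)`-space `U`. -/
theorem exists_first (hQ : (polarBilin Q).Nondegenerate) (hV : finrank F V = 2 * m)
    {E : Submodule F V} (hE : IsMax Q m E) {U : Submodule F V} (hU : finrank F U + 1 = m)
    (hUs : ∀ u ∈ U, Q u = 0) : ∃ W, IsMax Q m W ∧ U ≤ W := by
  have hperp : perp Q (E ⊔ perp Q U) = E ⊓ U := by
    ext z
    constructor
    · intro hz
      refine ⟨?_, ?_⟩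
      · have : z ∈ perp Q E := fun w hw => hz w (Submodule.mem_sup_left hw)
        rwa [perp_eq_self hQ hV hE] at this
      · have : z ∈ perp Q (perp Q U) := fun w hw => hz w (Submodule.mem_sup_right hw)
        rwa [perp, perp, LinearMap.BilinForm.orthogonal_orthogonal hQ (isRefl Q)] at this
    · rintro ⟨hzE, hzU⟩
      refine (mem_perp Q).2 fun w hw => ?_
      obtain ⟨a, ha, b, hb, rfl⟩ := Submodule.mem_sup.1 hw
      rw [polar_add_left, polar_zero hE.2 ha hzE, polar_comm, (mem_perp Q).1 hb z hzU, add_zero]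
  obtain ⟨u, hu, huU⟩ : ∃ u ∈ E ⊓ perp Q U, u ∉ E ⊓ U := by
    by_contra hn
    push Not at hn
    have h1 := Submodule.finrank_mono (show E ⊓ perp Q U ≤ E ⊓ U from hn)
    have h2 := finrank_perp hQ hV (E ⊔ perp Q U)
    rw [hperp] at h2
    have h3 := Submodule.finrank_sup_add_finrank_inf_eq E (perp Q U)
    rw [hE.1, finrank_perp hQ hV] at h3
    have h4 := Submodule.finrank_le (E ⊔ perp Q U)
    rw [hV] at h4
    omega
  refine ⟨U ⊔ Submodule.span F {u}, ⟨?_, singular_sup hUs (hE.2 u hu.1) hu.2⟩, le_sup_left⟩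
  rw [finrank_sup_singleton fun h => huU ⟨hu.1, h⟩]
  exact hU

/-- Exactly two maximal singular subspaces contain a singular `(m-1)`-space. -/
theorem exists_two (hQ : (polarBilin Q).Nondegenerate) (hV : finrank F V = 2 * m)
    {E : Submodule F V} (hE : IsMax Q m E) {U : Submodule F V} (hU : finrank F U + 1 = m)
    (hUs : ∀ u ∈ U, Q u = 0) :
    ∃ W₁ W₂, W₁ ≠ W₂ ∧ IsMax Q m W₁ ∧ IsMax Q m W₂ ∧ U ≤ W₁ ∧ U ≤ W₂ ∧
      W₁ ⊓ W₂ = U ∧ ∀ W, IsMax Q m W → U ≤ W → W = W₁ ∨ W = W₂ := by
  obtain ⟨W₁, hW₁, hU₁⟩ := exists_first hQ hV hE hU hUs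
  have hW₁p : W₁ ≤ perp Q U := fun z hz =>
    (mem_perp Q).2 fun a ha => polar_zero hW₁.2 (hU₁ ha) hz
  obtain ⟨x, hx, hxW⟩ : ∃ x ∈ perp Q U, x ∉ W₁ := by
    by_contra hn
    push Not at hn
    have := Submodule.finrank_mono (show perp Q U ≤ W₁ from hn)
    rw [finrank_perp hQ hV, hW₁.1] at this
    omega
  obtain ⟨w, hw, hwx⟩ : ∃ w ∈ W₁, polar Q w x ≠ 0 := by
    by_contra hn
    push Not at hn
    apply hxW
    rw [← perp_eq_self hQ hV hW₁]
    exact (mem_perp Q).2 hn
  set c := -(Q x) / polar Q w x with hc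
  set y := c • w + x with hy
  have hyU : y ∈ perp Q U := add_mem (Submodule.smul_mem _ c (hW₁p hw)) hx
  have hQy : Q y = 0 := by
    have h : polar Q (c • w) x = Q (c • w + x) - Q (c • w) - Q x := rfl
    rw [polar_smul_left, QuadraticMap.map_smul, hW₁.2 w hw, smul_zero, sub_zero, smul_eq_mul, hc,
      div_mul_cancel₀ _ hwx, ← hc, ← hy] at h
    linear_combination -h
  have hyW : y ∉ W₁ := fun h => hxW ((add_mem_cancel_left (W₁.smul_mem c hw)).1 h)
  set W₂ := U ⊔ Submodule.span F {y} with hW₂def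
  have hW₂ : IsMax Q m W₂ :=
    ⟨by rw [hW₂def, finrank_sup_singleton fun h => hyW (hU₁ h)]; exact hU,
      singular_sup hUs hQy hyU⟩
  have hne : W₁ ≠ W₂ := fun e =>
    hyW (e ▸ Submodule.mem_sup_right (Submodule.mem_span_singleton_self y))
  obtain ⟨hinf, -, hmem⟩ := mem_or_mem hQ hV hW₁ hW₂ hU hU₁ le_sup_left hne
  refine ⟨W₁, W₂, hne, hW₁, hW₂, hU₁, le_sup_left, hinf, fun W hW hUW => ?_⟩
  obtain ⟨z, hz, hzU⟩ : ∃ z ∈ W, z ∉ U := by
    by_contra hn
    push Not at hn
    have := Submodule.finrank_mono (show W ≤ U from hn)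
    rw [hW.1] at this
    omega
  have hsp : U ⊔ Submodule.span F {z} = W := Submodule.eq_of_le_of_finrank_le
    (sup_le hUW (by rwa [Submodule.span_singleton_le_iff_mem]))
    (by rw [finrank_sup_singleton hzU, hW.1]; omega)
  have hzp : z ∈ perp Q U := (mem_perp Q).2 fun a ha => polar_zero hW.2 (hUW ha) hz
  rcases hmem z hzp (hW.2 z hz) with h | h
  · left
    refine Submodule.eq_of_le_of_finrank_le (hsp ▸ sup_le hU₁ ?_) (by rw [hW₁.1, hW.1])
    rwa [Submodule.span_singleton_le_iff_mem]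
  · right
    refine Submodule.eq_of_le_of_finrank_le (hsp ▸ sup_le le_sup_left ?_) (by rw [hW₂.1, hW.1])
    rwa [Submodule.span_singleton_le_iff_mem]

end CfsgLib.Linear.MaxSing

namespace CfsgLib.Linear.MaxSing

open QuadraticMap Module

variable (F : Type*) [Field F]

/-- The first coordinate half of `F^(2m)`. -/
def inlEmb (m : ℕ) : (Fin m → F) →ₗ[F] (Fin m ⊕ Fin m → F) where
  toFun v := Sum.elim v 0
  map_add' u v := by funext i; rcases i with i | i <;> simp
  map_smul' c v := by funext i; rcases i with i | i <;> simp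

theorem inlEmb_injective (m : ℕ) : Function.Injective (inlEmb F m) := fun u v h =>
  funext fun i => congrFun h (Sum.inl i)

theorem quadFormPlus_inlEmb (m : ℕ) (v : Fin m → F) : Cfsg.quadFormPlus m F (inlEmb F m v) = 0 := by
  simp [Cfsg.quadFormPlus, inlEmb]

theorem isMax_inl (m : ℕ) : IsMax (CfsgLib.Quad.plusQ (F := F) m) m (LinearMap.range (inlEmb F m)) := by
  refine ⟨by rw [LinearMap.finrank_range_of_inj (inlEmb_injective F m), Module.finrank_fin_fun], ?_⟩
  rintro _ ⟨v, rfl⟩
  rw [CfsgLib.Quad.plusQ_coe]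
  exact quadFormPlus_inlEmb F m v

theorem finrank_space (m : ℕ) : finrank F (Fin m ⊕ Fin m → F) = 2 * m := by
  rw [Module.finrank_fintype_fun_eq_card, Fintype.card_sum, Fintype.card_fin, two_mul]

theorem exists_submax (m : ℕ) (hm : 1 ≤ m) : ∃ U : Submodule F (Fin m ⊕ Fin m → F),
    finrank F U + 1 = m ∧ ∀ u ∈ U, CfsgLib.Quad.plusQ (F := F) m u = 0 := by
  obtain ⟨n, rfl⟩ : ∃ n, m = n + 1 := ⟨m - 1, by omega⟩
  let g : (Fin n → F) →ₗ[F] (Fin (n + 1) → F) :=
    { toFun := fun v => Fin.cons 0 v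
      map_add' := fun u v => by funext i; refine Fin.cases ?_ ?_ i <;> simp
      map_smul' := fun c v => by funext i; refine Fin.cases ?_ ?_ i <;> simp }
  have hinj : Function.Injective ((inlEmb F (n + 1)).comp g) :=
    (inlEmb_injective F (n + 1)).comp (Fin.cons_right_injective (α := fun _ : Fin (n + 1) => F) 0)
  refine ⟨LinearMap.range ((inlEmb F (n + 1)).comp g), ?_, ?_⟩
  · rw [LinearMap.finrank_range_of_inj hinj, Module.finrank_fin_fun]
  · rintro _ ⟨v, rfl⟩
    rw [CfsgLib.Quad.plusQ_coe]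
    exact quadFormPlus_inlEmb F _ _

end CfsgLib.Linear.MaxSing
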