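import Cfsg.Agent.PrimeGraph.PSL2Spectrum
import Cfsg.Agent.Classical.SmallPSL
import Cfsg.Agent.S3335
import Cfsg.Agent.S3377

/-!
Subgroups of `PSL₂(F)` isomorphic to the alternating group on four or five letters and to the
symmetric group on four letters, built from pairs of matrices with prescribed traces.
-/

set_option autoImplicit false

namespace CfsgLib.Linear.SmallSub

open Matrix

/-! ### Presentations -/

/-- A finite set containing `1` and closed under right multiplication by the generators contains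
the subgroup they generate. -/
theorem closure_subset {G : Type*} [Group G] {S : Set G} (hS : S.Finite) (h1 : (1 : G) ∈ S)
    {T : Set G} (hT : ∀ t ∈ T, ∀ a ∈ S, a * t ∈ S) :
    (Subgroup.closure T : Set G) ⊆ S := by
  intro g hg
  induction hg using Subgroup.closure_induction_right with
  | one => exact h1
  | mul_right a _ b hb ih => exact hT b hb a ih
  | mul_inv_cancel a _ b hb ih =>
    have e : (· * b) '' S = S :=
      Set.eq_of_subset_of_ncard_le (Set.image_subset_iff.2 fun x hx => hT b hb x hx)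
        (Set.ncard_image_of_injective S (mul_left_injective b)).ge hS
    obtain ⟨c, hc, he⟩ : ∃ c ∈ S, c * b = a := by rwa [← e, Set.mem_image] at ih
    rw [show a * b⁻¹ = c from mul_inv_eq_of_eq_mul he.symm]
    exact hc

section FourLetters

variable {G : Type*} [Group G]

/-- The six cosets of the cyclic subgroup of order four in the `(2,3,4)` group. -/
def reps (x y : G) : Fin 6 → G :=
  ![1, x, x * x, x * x * y, x * x * y * y, x * x * y * y * x]

theorem step (x y : G) (hx : x ^ 3 = 1) (hy : y ^ 4 = 1) (hxy : (x * y) ^ 2 = 1) (i : Fin 6) :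
    (∃ (k : ℕ) (j : Fin 6), reps x y i * x = y ^ k * reps x y j) ∧
      ∃ (k : ℕ) (j : Fin 6), reps x y i * y = y ^ k * reps x y j := by
  have a3 : x * x * x = 1 := by simpa [pow_succ] using hx
  have b4 : y * y * y * y = 1 := by simpa [pow_succ] using hy
  have c2 : x * y * x * y = 1 := by simpa [pow_succ, ← mul_assoc] using hxy
  have xi : x⁻¹ = x * x := inv_eq_of_mul_eq_one_left a3
  have yi : y⁻¹ = y * y * y := inv_eq_of_mul_eq_one_left b4
  -- `x y = y⁻¹ x⁻¹`
  have e1 : x * y = y * y * y * (x * x) := by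
    calc x * y = (x * y * x * y) * (y⁻¹ * x⁻¹) := by group
      _ = _ := by rw [c2, one_mul, yi, xi]
  -- `x² y x = x y⁻¹`
  have e2 : x * x * y * x = x * (y * y * y) := by
    calc x * x * y * x = x * (x * y * x * y) * y⁻¹ := by group
      _ = _ := by rw [c2, mul_one, yi]
  -- `y x = x⁻¹ y⁻¹`
  have e3 : x * x = y * x * y := by
    calc x * x = x⁻¹ * (x * y * x * y) := by rw [c2, mul_one, xi]
      _ = _ := by group
  have f3 : x * x * y * x = y * y * y * (x * x * y * y) := by
    calc x * x * y * x = (x * y) * (y * y) := by rw [e2]; simp only [mul_assoc]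
      _ = _ := by rw [e1]; simp only [mul_assoc]
  have f4 : x * x * y * y = y * (x * x * y * x) := by
    rw [f3]
    calc x * x * y * y = (y * y * y * y) * (x * x * y * y) := by rw [b4, one_mul]
      _ = _ := by simp only [mul_assoc]
  fin_cases i <;> simp only [reps] <;>
    refine ⟨?_, ?_⟩
  · exact ⟨0, 1, by simp⟩
  · exact ⟨1, 0, by simp⟩
  · exact ⟨0, 2, by simp⟩
  · exact ⟨3, 2, by simpa [pow_succ] using e1⟩
  · exact ⟨0, 0, by simp [a3]⟩
  · exact ⟨0, 3, by simp⟩
  · exact ⟨3, 4, by simpa [pow_succ] using f3⟩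
  · exact ⟨0, 4, by simp⟩
  · exact ⟨0, 5, by simp⟩
  · refine ⟨1, 1, ?_⟩
    simp only [pow_one]
    show x * x * y * y * y = y * x
    calc x * x * y * y * y = y * x * y * y * y * y := by rw [e3]
      _ = y * x * (y * y * y * y) := by simp only [mul_assoc]
      _ = y * x := by rw [b4, mul_one]
  · refine ⟨1, 3, ?_⟩
    simp only [pow_one]
    show x * x * y * y * x * x = y * (x * x * y)
    calc x * x * y * y * x * x = y * (x * x * y * x) * x * x := by rw [f4]
      _ = y * (x * x * y) * (x * x * x) := by simp only [mul_assoc]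
      _ = y * (x * x * y) := by rw [a3, mul_one]
  · refine ⟨3, 5, ?_⟩
    show x * x * y * y * x * y = y ^ 3 * (x * x * y * y * x)
    calc x * x * y * y * x * y = x * x * y * y * (x * y) := by simp only [mul_assoc]
      _ = x * x * y * (y * y * y * y) * (x * x) := by rw [e1]; simp only [mul_assoc]
      _ = (x * x * y * x) * x := by rw [b4, mul_one]; simp only [mul_assoc]
      _ = _ := by rw [f3]; simp only [pow_succ, pow_zero, one_mul, mul_assoc]

theorem closure_card_le (x y : G) (hx : x ^ 3 = 1) (hy : y ^ 4 = 1) (hxy : (x * y) ^ 2 = 1) :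
    (Subgroup.closure {x, y} : Set G) ⊆
      Set.range fun p : Fin 4 × Fin 6 => y ^ (p.1 : ℕ) * reps x y p.2 := by
  refine closure_subset (Set.finite_range _) ⟨(0, 0), by simp [reps]⟩ ?_
  have key : ∀ (k : ℕ) (j : Fin 6), y ^ k * reps x y j ∈
      Set.range fun p : Fin 4 × Fin 6 => y ^ (p.1 : ℕ) * reps x y p.2 := fun k j => by
    refine ⟨(⟨k % 4, Nat.mod_lt _ (by norm_num)⟩, j), ?_⟩
    show y ^ (k % 4) * _ = _
    rw [← pow_eq_pow_mod k hy]
  rintro t ht _ ⟨⟨k, i⟩, rfl⟩
  obtain ⟨h1, h2⟩ := step x y hx hy hxy i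
  rcases ht with rfl | rfl
  · obtain ⟨l, j, e⟩ := h1
    simp only
    rw [mul_assoc, e, ← mul_assoc, ← pow_add]
    exact key _ j
  · obtain ⟨l, j, e⟩ := h2
    simp only
    rw [mul_assoc, e, ← mul_assoc, ← pow_add]
    exact key _ j

end FourLetters

/-- A three-cycle of degree four. -/
def s4x : Equiv.Perm (Fin 4) := List.formPerm [(0 : Fin 4), 3, 2]

/-- A four-cycle. -/
def s4y : Equiv.Perm (Fin 4) := List.formPerm [(0 : Fin 4), 1, 2, 3]

theorem s4_rels : s4x ^ 3 = 1 ∧ s4y ^ 4 = 1 ∧ (s4x * s4y) ^ 2 = 1 := by decide +kernel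

theorem s4_surj : ∀ g : Equiv.Perm (Fin 4), ∃ p : Fin 4 × Fin 6,
    s4y ^ (p.1 : ℕ) * reps s4x s4y p.2 = g := by decide +kernel

theorem s4_normal : ∀ g : Equiv.Perm (Fin 4), g ≠ 1 →
    ∃ a b : Equiv.Perm (Fin 4), b * (g * a * g⁻¹ * a⁻¹) * b⁻¹ = s4y ^ 2 := by decide +kernel

/-- The `(2,3,4)` presentation of the symmetric group of degree four. -/
theorem exists_hom_symFour {G : Type*} [Group G] (x y : G) (hx : x ^ 3 = 1) (hy : y ^ 4 = 1)
    (hxy : (x * y) ^ 2 = 1) :
    ∃ f : Equiv.Perm (Fin 4) →* G, f s4x = x ∧ f s4y = y := by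
  set rels : Set (FreeGroup (Fin 2)) := {FreeGroup.of (0 : Fin 2) ^ 3, FreeGroup.of (1 : Fin 2) ^ 4,
    (FreeGroup.of (0 : Fin 2) * FreeGroup.of 1) ^ 2} with hrels
  have hgen : ∀ {H : Type} [Group H] (a b : H), a ^ 3 = 1 → b ^ 4 = 1 → (a * b) ^ 2 = 1 →
      ∀ r ∈ rels, FreeGroup.lift ![a, b] r = 1 := by
    intro H _ a b ha hb hab r hr
    simp only [hrels, Set.mem_insert_iff, Set.mem_singleton_iff] at hr
    rcases hr with rfl | rfl | rfl <;> simp [ha, hb, hab]
  have hgenG : ∀ r ∈ rels, FreeGroup.lift ![x, y] r = 1 := by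
    intro r hr
    simp only [hrels, Set.mem_insert_iff, Set.mem_singleton_iff] at hr
    rcases hr with rfl | rfl | rfl <;> simp [hx, hy, hxy]
  let φ : PresentedGroup rels →* Equiv.Perm (Fin 4) :=
    PresentedGroup.toGroup (hgen s4x s4y s4_rels.1 s4_rels.2.1 s4_rels.2.2)
  let ψ : PresentedGroup rels →* G := PresentedGroup.toGroup hgenG
  let a : PresentedGroup rels := PresentedGroup.of 0
  let b : PresentedGroup rels := PresentedGroup.of 1
  have hab : a ^ 3 = 1 ∧ b ^ 4 = 1 ∧ (a * b) ^ 2 = 1 := by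
    refine ⟨?_, ?_, ?_⟩
    · exact PresentedGroup.one_of_mem (x := FreeGroup.of (0 : Fin 2) ^ 3) (by simp [hrels])
    · exact PresentedGroup.one_of_mem (x := FreeGroup.of (1 : Fin 2) ^ 4) (by simp [hrels])
    · exact PresentedGroup.one_of_mem (x := (FreeGroup.of (0 : Fin 2) * FreeGroup.of 1) ^ 2)
        (by simp [hrels])
  let s : Fin 4 × Fin 6 → PresentedGroup rels := fun p => b ^ (p.1 : ℕ) * reps a b p.2
  have hs : Function.Surjective s := fun g => by
    refine closure_card_le a b hab.1 hab.2.1 hab.2.2 ?_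
    have hsub : Set.range (PresentedGroup.of (rels := rels)) ⊆ {a, b} := by
      rintro _ ⟨i, rfl⟩
      fin_cases i <;> simp [a, b]
    exact Subgroup.closure_mono hsub ((PresentedGroup.closure_range_of rels).symm ▸
      Subgroup.mem_top g)
  have hφa : φ a = s4x := PresentedGroup.toGroup.of _
  have hφb : φ b = s4y := PresentedGroup.toGroup.of _
  have hcomp : ∀ p, φ (s p) = s4y ^ (p.1 : ℕ) * reps s4x s4y p.2 := by
    rintro ⟨k, i⟩
    simp only [s, map_mul, map_pow, hφb]
    congr 1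
    fin_cases i <;> simp [reps, hφa, hφb]
  have hbs : Function.Bijective (φ ∘ s) := by
    refine (Fintype.bijective_iff_surjective_and_card _).2 ⟨fun g => ?_, by decide⟩
    obtain ⟨p, hp⟩ := s4_surj g
    exact ⟨p, by rw [Function.comp_apply, hcomp, hp]⟩
  have hφ : Function.Bijective φ :=
    ⟨fun g h e => by
      obtain ⟨p, rfl⟩ := hs g
      obtain ⟨q, rfl⟩ := hs h
      rw [hbs.1 e], hbs.2.of_comp⟩
  let e := MulEquiv.ofBijective φ hφ
  refine ⟨ψ.comp e.symm.toMonoidHom, ?_, ?_⟩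
  · show ψ (e.symm s4x) = x
    rw [← hφa, show φ a = e a from rfl, e.symm_apply_apply]
    exact PresentedGroup.toGroup.of _
  · show ψ (e.symm s4y) = y
    rw [← hφb, show φ b = e b from rfl, e.symm_apply_apply]
    exact PresentedGroup.toGroup.of _

theorem symFour_injective {G : Type*} [Group G] (f : Equiv.Perm (Fin 4) →* G)
    (h : f (s4y ^ 2) ≠ 1) : Function.Injective f := by
  refine (injective_iff_map_eq_one f).2 fun g hg => ?_
  by_contra h1
  obtain ⟨a, b, e⟩ := s4_normal g h1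
  exact h (by rw [← e]; simp [hg])

theorem a4_normal : ∀ g : alternatingGroup (Fin 4), g ≠ 1 → ∀ a : alternatingGroup (Fin 4),
    a ^ 3 = 1 ∨ ∃ b c : alternatingGroup (Fin 4), c * (g * b * g⁻¹ * b⁻¹) * c⁻¹ = a ^ 3 := by
  decide +kernel

/-- The `(2,3,3)` presentation of the alternating group of degree four, in embedded form. -/
theorem exists_emb_altFour {G : Type*} [Group G] (x y : G) (hx : x ^ 3 = 1) (hy : y ^ 3 = 1)
    (hxy : (x * y) ^ 2 = 1) (hne : x * y ≠ 1) :
    ∃ f : alternatingGroup (Fin 4) →* G, Function.Injective f := by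
  obtain ⟨e⟩ := Cfsg.Agent.S3335.result 4 (by norm_num)
  let g : Fin (4 - 2) → G := ![x⁻¹, x * y]
  have hs : (x * y) ^ 3 = x * y := by rw [pow_succ, hxy, one_mul]
  have hrels : ∀ r ∈ ({h : FreeGroup (Fin (4 - 2)) | ∃ i : Fin (4 - 2), i.val = 0 ∧ h = FreeGroup.of i ^ 3} ∪
       {h | ∃ i : Fin (4 - 2), 1 ≤ i.val ∧ h = FreeGroup.of i ^ 2} ∪
       {h | ∃ i j : Fin (4 - 2), j.val = i.val + 1 ∧ h = (FreeGroup.of i * FreeGroup.of j) ^ 3} ∪
       {h | ∃ i j : Fin (4 - 2), i.val + 1 < j.val ∧ h = (FreeGroup.of i * FreeGroup.of j) ^ 2}),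
      FreeGroup.lift g r = 1 := by
    rintro r (((⟨i, hi, rfl⟩ | ⟨i, hi, rfl⟩) | ⟨i, j, hij, rfl⟩) | ⟨i, j, hij, rfl⟩)
    · have : i = 0 := Fin.ext hi
      subst this
      simp [g, inv_pow, hx]
    · have : i = 1 := Fin.ext (by have := i.isLt; simp at this ⊢; omega)
      subst this
      simp [g, hxy]
    · have h0 : i = 0 := Fin.ext (by have := j.isLt; simp at this ⊢; omega)
      subst h0
      have h1 : j = 1 := Fin.ext (by simpa using hij)
      subst h1
      simp [g, hy]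
    · exfalso
      have := j.isLt
      simp at this
      omega
  let ψ := PresentedGroup.toGroup hrels
  refine ⟨ψ.comp e.symm.toMonoidHom, (injective_iff_map_eq_one _).2 fun k hk => ?_⟩
  by_contra hk1
  have h3 : ∀ a, (ψ.comp e.symm.toMonoidHom) a ^ 3 = 1 := fun a => by
    rcases a4_normal k hk1 a with h | ⟨b, c, h⟩
    · rw [← map_pow, h, map_one]
    · rw [← map_pow, ← h]
      simp only [map_mul, map_inv, hk]
      group
  apply hne
  have := h3 (e (PresentedGroup.of (1 : Fin (4 - 2))))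
  rw [show (ψ.comp e.symm.toMonoidHom) (e (PresentedGroup.of (1 : Fin (4 - 2)))) = x * y by
    show ψ (e.symm (e _)) = _
    rw [e.symm_apply_apply]
    exact PresentedGroup.toGroup.of _, hs] at this
  exact this

/-- The `(2,3,5)` presentation of the alternating group of degree five, in embedded form. -/
theorem exists_emb_altFive {G : Type*} [Group G] (x y : G) (hx : x ^ 3 = 1) (hy : y ^ 5 = 1)
    (hxy : (x * y) ^ 2 = 1) (hne : x ≠ 1) :
    ∃ f : alternatingGroup (Fin 5) →* G, Function.Injective f ∧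
      f.range = Subgroup.closure {x, y} := by
  obtain ⟨e⟩ := Cfsg.Agent.S3377.result
  have hrels : ∀ r ∈ ({FreeGroup.of (0 : Fin 2) ^ 3, FreeGroup.of (1 : Fin 2) ^ 5,
      (FreeGroup.of (0 : Fin 2) * FreeGroup.of 1) ^ 2} : Set (FreeGroup (Fin 2))),
      FreeGroup.lift ![x, y] r = 1 := by
    intro r hr
    simp only [Set.mem_insert_iff, Set.mem_singleton_iff] at hr
    rcases hr with rfl | rfl | rfl <;> simp [hx, hy, hxy]
  let ψ := PresentedGroup.toGroup hrels
  let f := ψ.comp e.symm.toMonoidHom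
  have hf : ∀ i, f (e (PresentedGroup.of i)) = ![x, y] i := fun i => by
    show ψ (e.symm (e _)) = _
    rw [e.symm_apply_apply]
    exact PresentedGroup.toGroup.of _
  refine ⟨f, ?_, ?_⟩
  · rw [← MonoidHom.ker_eq_bot_iff]
    refine (IsSimpleGroup.eq_bot_or_eq_top_of_normal f.ker inferInstance).resolve_right ?_
    intro h
    apply hne
    have h2 := hf 0
    rw [MonoidHom.mem_ker.1 (h ▸ Subgroup.mem_top _)] at h2
    simpa using h2.symm
  · show (ψ.comp e.symm.toMonoidHom).range = _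
    rw [MonoidHom.range_comp, MonoidHom.range_eq_top.2 e.symm.surjective, ← MonoidHom.range_eq_map,
      MonoidHom.range_eq_map, ← PresentedGroup.closure_range_of, MonoidHom.map_closure]
    congr 1
    ext z
    simp only [Set.mem_image, Set.mem_range, Set.mem_insert_iff, Set.mem_singleton_iff]
    constructor
    · rintro ⟨_, ⟨i, rfl⟩, rfl⟩
      rw [PresentedGroup.toGroup.of]
      fin_cases i <;> simp
    · rintro (rfl | rfl)
      · exact ⟨_, ⟨0, rfl⟩, PresentedGroup.toGroup.of _⟩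
      · exact ⟨_, ⟨1, rfl⟩, PresentedGroup.toGroup.of _⟩

/-! ### Matrices with prescribed trace -/

variable {F : Type*} [Field F]

/-- `PSL₂(F)`. -/
abbrev P2 (F : Type*) [Field F] := Matrix.ProjectiveSpecialLinearGroup (Fin 2) F

/-- The projection to `PSL₂(F)`. -/
def proj : Matrix.SpecialLinearGroup (Fin 2) F →* P2 F :=
  QuotientGroup.mk' (Subgroup.center (Matrix.SpecialLinearGroup (Fin 2) F))

theorem proj_eq_one_iff (A : Matrix.SpecialLinearGroup (Fin 2) F) :
    proj A = 1 ↔ ∃ c : F, (A : Matrix (Fin 2) (Fin 2) F) = c • 1 :=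
  CfsgLib.PSL2Spec.mk_eq_one_iff A

theorem proj_ne_one {A : Matrix.SpecialLinearGroup (Fin 2) F}
    (h : (A : Matrix (Fin 2) (Fin 2) F) 0 1 ≠ 0 ∨ (A : Matrix (Fin 2) (Fin 2) F) 1 0 ≠ 0) :
    proj A ≠ 1 := by
  intro he
  obtain ⟨c, hc⟩ := (proj_eq_one_iff A).1 he
  rcases h with h | h <;> exact h (by rw [hc]; simp)

/-- Cayley–Hamilton in `SL₂`. -/
theorem mul_self_eq (A : Matrix.SpecialLinearGroup (Fin 2) F) :
    (A : Matrix (Fin 2) (Fin 2) F) * (A : Matrix (Fin 2) (Fin 2) F) =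
      ((A : Matrix (Fin 2) (Fin 2) F).trace) • (A : Matrix (Fin 2) (Fin 2) F) - 1 := by
  have h := A.2
  rw [Matrix.det_fin_two] at h
  ext i j
  fin_cases i <;> fin_cases j <;>
    simp [Matrix.mul_apply, Fin.sum_univ_two, Matrix.trace_fin_two] <;>
    first | linear_combination -h | ring

variable {A : Matrix.SpecialLinearGroup (Fin 2) F} {t : F}

theorem proj_pow_two (ht : (A : Matrix (Fin 2) (Fin 2) F).trace = t) (h : t = 0) :
    proj A ^ 2 = 1 := by
  rw [← map_pow, proj_eq_one_iff]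
  refine ⟨-1, ?_⟩
  rw [Matrix.SpecialLinearGroup.coe_pow, pow_two, mul_self_eq, ht, h]
  simp

theorem proj_pow_three (ht : (A : Matrix (Fin 2) (Fin 2) F).trace = t) (h : t ^ 2 = 1) :
    proj A ^ 3 = 1 := by
  rw [← map_pow, proj_eq_one_iff]
  refine ⟨-t, ?_⟩
  rw [Matrix.SpecialLinearGroup.coe_pow, pow_succ, pow_two, mul_self_eq, ht, Matrix.sub_mul,
    Matrix.smul_mul, mul_self_eq, ht, one_mul, smul_sub, smul_smul, ← pow_two, h, one_smul,
    neg_smul]
  abel

theorem pow_four_eq (ht : (A : Matrix (Fin 2) (Fin 2) F).trace = t) :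
    (A : Matrix (Fin 2) (Fin 2) F) ^ 4 =
      (t ^ 3 - 2 * t) • (A : Matrix (Fin 2) (Fin 2) F) - (t ^ 2 - 1) • 1 := by
  rw [show (A : Matrix (Fin 2) (Fin 2) F) ^ 4 = (A.1 * A.1) * (A.1 * A.1) by
    simp only [pow_succ, pow_zero, one_mul, mul_assoc], mul_self_eq, ht]
  simp only [sub_mul, mul_sub, smul_mul_assoc, mul_smul_comm, mul_self_eq, ht, one_mul, mul_one,
    smul_sub, smul_smul]
  module

theorem pow_five_eq (ht : (A : Matrix (Fin 2) (Fin 2) F).trace = t) :
    (A : Matrix (Fin 2) (Fin 2) F) ^ 5 =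
      (t ^ 4 - 3 * t ^ 2 + 1) • (A : Matrix (Fin 2) (Fin 2) F) - (t ^ 3 - 2 * t) • 1 := by
  rw [pow_succ, pow_four_eq ht]
  simp only [sub_mul, smul_mul_assoc, mul_self_eq, ht, one_mul, smul_sub, smul_smul]
  module

theorem proj_pow_four (ht : (A : Matrix (Fin 2) (Fin 2) F).trace = t) (h : t ^ 2 = 2) :
    proj A ^ 4 = 1 := by
  rw [← map_pow, proj_eq_one_iff]
  refine ⟨-1, ?_⟩
  rw [Matrix.SpecialLinearGroup.coe_pow, pow_four_eq ht, show t ^ 3 - 2 * t = 0 by
    linear_combination t * h, show t ^ 2 - 1 = 1 by linear_combination h]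
  simp

theorem proj_pow_five (ht : (A : Matrix (Fin 2) (Fin 2) F).trace = t)
    (h : t ^ 2 + t - 1 = 0 ∨ t ^ 2 - t - 1 = 0) :
    proj A ^ 5 = 1 := by
  rw [← map_pow, proj_eq_one_iff]
  refine ⟨2 * t - t ^ 3, ?_⟩
  rw [Matrix.SpecialLinearGroup.coe_pow, pow_five_eq ht, show t ^ 4 - 3 * t ^ 2 + 1 = 0 by
    rcases h with h | h
    · linear_combination (t ^ 2 - t - 1) * h
    · linear_combination (t ^ 2 + t - 1) * h]
  module

/-- An element of trace one of order three. -/
def xMat (F : Type*) [Field F] : Matrix.SpecialLinearGroup (Fin 2) F :=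
  ⟨!![0, -1; 1, 1], by simp [Matrix.det_fin_two]⟩

theorem xMat_trace : ((xMat F : Matrix.SpecialLinearGroup (Fin 2) F) :
    Matrix (Fin 2) (Fin 2) F).trace = 1 := by
  simp [xMat, Matrix.trace_fin_two]

/-- The partner of `xMat` of trace `t` attached to a point of the conic. -/
def yMat (t b d : F) (h : b ^ 2 + b * d + d ^ 2 - t * d + 1 = 0) :
    Matrix.SpecialLinearGroup (Fin 2) F :=
  ⟨!![t - d, b; b + d, d], by rw [Matrix.det_fin_two_of]; linear_combination -h⟩

theorem yMat_trace (t b d : F) (h : b ^ 2 + b * d + d ^ 2 - t * d + 1 = 0) :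
    ((yMat t b d h : Matrix.SpecialLinearGroup (Fin 2) F) : Matrix (Fin 2) (Fin 2) F).trace = t := by
  simp [yMat, Matrix.trace_fin_two]

theorem prod_trace (t b d : F) (h : b ^ 2 + b * d + d ^ 2 - t * d + 1 = 0) :
    ((xMat F * yMat t b d h : Matrix.SpecialLinearGroup (Fin 2) F) :
      Matrix (Fin 2) (Fin 2) F).trace = 0 := by
  rw [Matrix.SpecialLinearGroup.coe_mul]
  simp [xMat, yMat, Matrix.trace_fin_two]

theorem rels (t b d : F) (h : b ^ 2 + b * d + d ^ 2 - t * d + 1 = 0) :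
    proj (xMat F) ^ 3 = 1 ∧ (proj (xMat F) * proj (yMat t b d h)) ^ 2 = 1 ∧
      proj (xMat F) ≠ 1 :=
  ⟨proj_pow_three xMat_trace (one_pow 2),
    by rw [← map_mul]; exact proj_pow_two (prod_trace t b d h) rfl,
    proj_ne_one (Or.inr (by simp [xMat]))⟩

/-- In odd characteristic the conic has a point. -/
theorem exists_conic [Finite F] (h2 : (2 : F) ≠ 0) {t : F} (ht : t ≠ 0) :
    ∃ b d : F, b ^ 2 + b * d + d ^ 2 - t * d + 1 = 0 := by
  cases nonempty_fintype F
  by_cases h3 : (3 : F) = 0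
  · refine ⟨1 / t, 1 / t, ?_⟩
    field_simp
    linear_combination h3
  · have hodd : Fintype.card F % 2 = 1 := FiniteField.odd_card_of_char_ne_two
      ((fun h => h2 (by simpa [h] using ringChar.Nat.cast_ringChar (R := F))))
    obtain ⟨X, d, hX⟩ := FiniteField.exists_root_sum_quadratic (R := F)
      (f := Polynomial.C 1 * Polynomial.X ^ 2 + Polynomial.C 0 * Polynomial.X + Polynomial.C 0)
      (g := Polynomial.C 3 * Polynomial.X ^ 2 + Polynomial.C (-4 * t) * Polynomial.X +
        Polynomial.C 4)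
      (Polynomial.degree_quadratic one_ne_zero) (Polynomial.degree_quadratic h3) hodd
    simp only [Polynomial.eval_add, Polynomial.eval_mul, Polynomial.eval_pow, Polynomial.eval_C,
      Polynomial.eval_X] at hX
    refine ⟨(X - d) / 2, d, ?_⟩
    field_simp
    linear_combination hX

theorem exists_altFour [Finite F] (h : (2 : F) = 0 → ∃ ω : F, ω ^ 2 + ω + 1 = 0) :
    ∃ H : Subgroup (P2 F), Nonempty (H ≃* alternatingGroup (Fin 4)) := by
  have key : ∀ (b d : F) (hbd : b ^ 2 + b * d + d ^ 2 - 1 * d + 1 = 0),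
      proj (xMat F) * proj (yMat 1 b d hbd) ≠ 1 →
      ∃ H : Subgroup (P2 F), Nonempty (H ≃* alternatingGroup (Fin 4)) := by
    intro b d hbd hne
    obtain ⟨h1, h2, -⟩ := rels 1 b d hbd
    obtain ⟨f, hf⟩ := exists_emb_altFour _ _ h1
      (proj_pow_three (yMat_trace 1 b d hbd) (one_pow 2)) h2 hne
    exact ⟨f.range, ⟨(MonoidHom.ofInjective hf).symm⟩⟩
  by_cases h2 : (2 : F) = 0
  · obtain ⟨ω, hω⟩ := h h2
    have hbd : ω ^ 2 + ω * 1 + 1 ^ 2 - 1 * 1 + 1 = 0 := by linear_combination hω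
    refine key ω 1 hbd ?_
    rw [← map_mul]
    refine proj_ne_one (Or.inl ?_)
    rw [Matrix.SpecialLinearGroup.coe_mul]
    simp [xMat, yMat]
  · obtain ⟨b, d, hbd⟩ := exists_conic h2 (one_ne_zero (α := F))
    refine key b d hbd ?_
    rw [← map_mul]
    intro he
    obtain ⟨c, hc⟩ := (proj_eq_one_iff _).1 he
    have ht := prod_trace 1 b d hbd
    rw [hc] at ht
    have hdet := (xMat F * yMat 1 b d hbd).2
    rw [hc] at hdet
    simp [Matrix.trace_fin_two] at ht hdet
    rcases ht with h' | h'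
    · simp [h'] at hdet
    · exact h2 h'

theorem exists_symFour [Finite F] (h2 : (2 : F) ≠ 0) {s : F} (hs : s ^ 2 = 2) :
    ∃ H : Subgroup (P2 F), Nonempty (H ≃* Equiv.Perm (Fin 4)) := by
  have hs0 : s ≠ 0 := by
    rintro rfl
    simp at hs
    exact h2 hs.symm
  obtain ⟨b, d, hbd⟩ := exists_conic h2 hs0
  obtain ⟨h1, h3, -⟩ := rels s b d hbd
  obtain ⟨f, hfx, hfy⟩ := exists_hom_symFour _ _ h1
    (proj_pow_four (yMat_trace s b d hbd) hs) h3
  refine ⟨f.range, ⟨(MonoidHom.ofInjective (symFour_injective f ?_)).symm⟩⟩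
  rw [map_pow, hfy, ← map_pow]
  intro he
  obtain ⟨c, hc⟩ := (proj_eq_one_iff _).1 he
  rw [Matrix.SpecialLinearGroup.coe_pow, pow_two, mul_self_eq, yMat_trace] at hc
  have e1 := congrFun (congrFun hc 0) 1
  have e2 := congrFun (congrFun hc 1) 0
  simp [yMat, hs0] at e1 e2
  subst e1
  rw [zero_add] at e2
  subst e2
  simp at hbd

theorem exists_altFive [Finite F] {t : F} (ht : t ^ 2 + t - 1 = 0) :
    ∃ H : Subgroup (P2 F), Nonempty (H ≃* alternatingGroup (Fin 5)) := by
  obtain ⟨b, d, hbd⟩ : ∃ b d : F, b ^ 2 + b * d + d ^ 2 - t * d + 1 = 0 := by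
    by_cases h2 : (2 : F) = 0
    · exact ⟨1, 0, by linear_combination h2⟩
    · refine exists_conic h2 ?_
      rintro rfl
      simp at ht
  obtain ⟨h1, h3, h4⟩ := rels t b d hbd
  obtain ⟨f, hf, -⟩ := exists_emb_altFive _ _ h1 (proj_pow_five (yMat_trace t b d hbd) (Or.inl ht))
    h3 h4
  exact ⟨f.range, ⟨(MonoidHom.ofInjective hf).symm⟩⟩

/-- If five divides the order of `SL₂`, then `x² + x - 1` has a root. -/
theorem exists_tau [Finite F] (h : 5 ∣ Nat.card (Matrix.SpecialLinearGroup (Fin 2) F)) :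
    ∃ t : F, t ^ 2 + t - 1 = 0 := by
  have : Fact (Nat.Prime 5) := ⟨by norm_num⟩
  obtain ⟨g, hg⟩ := exists_prime_orderOf_dvd_card' 5 h
  set t := (g : Matrix (Fin 2) (Fin 2) F).trace with ht
  have h5 := pow_five_eq (A := g) (t := t) rfl
  rw [← Matrix.SpecialLinearGroup.coe_pow, ← hg, pow_orderOf_eq_one,
    Matrix.SpecialLinearGroup.coe_one] at h5
  by_cases hk : t ^ 4 - 3 * t ^ 2 + 1 = 0
  · rcases mul_eq_zero.1 (show (t ^ 2 + t - 1) * (t ^ 2 - t - 1) = 0 by linear_combination hk)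
      with h' | h'
    · exact ⟨t, h'⟩
    · exact ⟨-t, by linear_combination h'⟩
  · exfalso
    set k := t ^ 4 - 3 * t ^ 2 + 1
    obtain ⟨c, hc⟩ : ∃ c : F, (g : Matrix (Fin 2) (Fin 2) F) = c • 1 := by
      refine ⟨k⁻¹ * (1 + (t ^ 3 - 2 * t)), ?_⟩
      clear_value k
      rw [← smul_smul, eq_inv_smul_iff₀ hk, add_smul, one_smul]
      exact eq_add_of_sub_eq h5.symm
    have hpg : g ^ 2 = 1 := by
      have hdet := g.2
      rw [hc] at hdet
      simp at hdet
      have hc2 : c ^ 2 = 1 := by rcases hdet with rfl | rfl <;> ring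
      apply Subtype.ext
      show ((g ^ 2 : Matrix.SpecialLinearGroup (Fin 2) F) : Matrix (Fin 2) (Fin 2) F) = 1
      rw [Matrix.SpecialLinearGroup.coe_pow, hc, smul_pow, one_pow, hc2, one_smul]
    have := orderOf_dvd_of_pow_eq_one hpg
    rw [hg] at this
    norm_num at this

end CfsgLib.Linear.SmallSub
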