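import Cfsg.Agent.Classical.SylowTwoSL
import Cfsg.Agent.Classical.SmallSubPSL

/-!
Elements of order four of `SL₂(q)` and four-groups of `PSL₂(q)`, `q` odd.
-/

set_option autoImplicit false
set_option linter.unusedSectionVars false
set_option linter.style.haveILetI false

namespace CfsgLib.Linear.FourGroups

open Matrix
open CfsgLib.SL2C (SL mt negOne IsTorus)
open CfsgLib.Linear.SmallSub (proj P2)

variable {F : Type*} [Field F] [Fintype F]

/-! ### Elements of trace zero -/

/-- The standard element of trace zero. -/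
def std (F : Type*) [Field F] : Matrix.SpecialLinearGroup (Fin 2) F :=
  ⟨!![0, -1; 1, 0], by simp [Matrix.det_fin_two]⟩

/-- An element of trace zero has a basis of the form `(v, x v)` of determinant one. -/
theorem conj_std (hodd : Odd (Fintype.card F)) (x : SL F) (hx : (mt x).trace = 0) :
    IsConj (std F : SL F) x := by
  have h2 := CfsgLib.SL2C.two_ne_zero_of_odd hodd
  have hd : x 0 0 * x 1 1 - x 0 1 * x 1 0 = 1 := by
    have := x.2
    rwa [Matrix.det_fin_two] at this
  have ht : x 0 0 + x 1 1 = 0 := by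
    rw [← Matrix.trace_fin_two]
    exact hx
  set a := x 0 0 with ha
  set b := x 0 1 with hb
  set c := x 1 0 with hc
  set d := x 1 1 with hd'
  suffices ∃ u v : F, c * u ^ 2 + (d - a) * u * v - b * v ^ 2 = 1 by
    obtain ⟨u, v, huv⟩ := this
    refine CfsgLib.SL2C.isConj_iff_mt.2
      ⟨⟨!![u, a * u + b * v; v, c * u + d * v],
        by rw [Matrix.det_fin_two_of]; linear_combination huv⟩, ?_⟩
    show (x : Matrix (Fin 2) (Fin 2) F) * !![u, a * u + b * v; v, c * u + d * v] =
      !![u, a * u + b * v; v, c * u + d * v] * !![0, -1; 1, 0]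
    ext i j
    fin_cases i <;> fin_cases j <;> simp [Matrix.mul_apply, Fin.sum_univ_two, ← ha, ← hb, ← hc, ← hd']
    · linear_combination (-u) * hd + (a * u + b * v) * ht
    · linear_combination (-v) * hd + (c * u + d * v) * ht
  by_cases hc0 : c = 0
  · have hda : d - a ≠ 0 := by
      intro h
      have h4 : (4 : F) = 0 := by
        linear_combination (-4) * hd + (d + a) * ht - (d - a) * h - 4 * b * hc0
      rw [show (4 : F) = 2 * 2 by norm_num] at h4
      exact mul_ne_zero h2 h2 h4
    refine ⟨(1 + b) / (d - a), 1, ?_⟩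
    rw [hc0]
    field_simp
    ring
  · have hd4 : Fintype.card F % 2 = 1 := by obtain ⟨k, hk⟩ := hodd; omega
    have hδ : -(((d - a) ^ 2 + 4 * b * c) / (4 * c)) ≠ 0 := by
      have h4 : (4 : F) ≠ 0 := by
        rw [show (4 : F) = 2 * 2 by norm_num]; exact mul_ne_zero h2 h2
      have : (d - a) ^ 2 + 4 * b * c = -4 := by linear_combination (-4) * hd + (d + a) * ht
      rw [this]
      simp [h4, hc0]
    obtain ⟨X, v, hX⟩ := FiniteField.exists_root_sum_quadratic (R := F)
      (f := Polynomial.C c * Polynomial.X ^ 2 + Polynomial.C 0 * Polynomial.X + Polynomial.C 0)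
      (g := Polynomial.C (-(((d - a) ^ 2 + 4 * b * c) / (4 * c))) * Polynomial.X ^ 2 +
        Polynomial.C 0 * Polynomial.X + Polynomial.C (-1))
      (Polynomial.degree_quadratic hc0) (Polynomial.degree_quadratic hδ) hd4
    simp only [Polynomial.eval_add, Polynomial.eval_mul, Polynomial.eval_pow, Polynomial.eval_C,
      Polynomial.eval_X] at hX
    refine ⟨X - (d - a) * v / (2 * c), v, ?_⟩
    have h4 : (4 : F) ≠ 0 := by
      rw [show (4 : F) = 2 * 2 by norm_num]; exact mul_ne_zero h2 h2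
    field_simp at hX ⊢
    linear_combination hX

theorem isConj_of_trace_zero (hodd : Odd (Fintype.card F)) {x y : SL F} (hx : (mt x).trace = 0)
    (hy : (mt y).trace = 0) : IsConj x y :=
  (conj_std hodd x hx).symm.trans (conj_std hodd y hy)

theorem not_center_of_trace_zero (hodd : Odd (Fintype.card F)) {x : SL F}
    (hx : (mt x).trace = 0) : x ∉ Subgroup.center (SL F) := by
  intro h
  have h2 := CfsgLib.SL2C.two_ne_zero_of_odd hodd
  rcases CfsgLib.SL2C.center_cases h with rfl | rfl
  · rw [CfsgLib.SL2C.mt_one, Matrix.trace_one, Fintype.card_fin] at hx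
    exact h2 (by exact_mod_cast hx)
  · rw [CfsgLib.SL2C.mt_negOne, Matrix.trace_neg, Matrix.trace_one, Fintype.card_fin,
      neg_eq_zero] at hx
    exact h2 (by exact_mod_cast hx)

theorem sq_of_trace_zero {x : SL F} (hx : (mt x).trace = 0) : x * x = negOne F :=
  CfsgLib.SL2C.mt_injective (by
    rw [CfsgLib.SL2C.mt_mul, CfsgLib.SL2C.mt_negOne]
    exact (CfsgLib.Linear.SmallSub.mul_self_eq x).trans (by
      rw [show (x : Matrix (Fin 2) (Fin 2) F).trace = 0 from hx, zero_smul, zero_sub]))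

theorem trace_zero_of_sq (hodd : Odd (Fintype.card F)) {x : SL F} (h : x * x = negOne F) :
    (mt x).trace = 0 := by
  by_contra ht
  have h2 := CfsgLib.SL2C.two_ne_zero_of_odd hodd
  have e := congrArg (CfsgLib.SL2C.mt (F := F)) h
  rw [CfsgLib.SL2C.mt_mul, CfsgLib.SL2C.mt_negOne] at e
  have e' : (mt x).trace • mt x - 1 = -1 := (CfsgLib.Linear.SmallSub.mul_self_eq x).symm.trans e
  rw [sub_eq_neg_self, smul_eq_zero] at e'
  rcases e' with e' | e'
  · exact ht e'
  · exact ht (by rw [e', Matrix.trace_zero])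

theorem orderOf_four_iff (hodd : Odd (Fintype.card F)) {x : SL F} :
    orderOf x = 4 ↔ (mt x).trace = 0 := by
  constructor
  · intro h
    refine trace_zero_of_sq hodd ?_
    refine CfsgLib.Linear.SylowTwoSL.eq_neg_one hodd (fun e => ?_) ?_
    · have := orderOf_dvd_of_pow_eq_one ((pow_two x).trans e)
      rw [h] at this
      norm_num at this
    · rw [← pow_two, ← pow_two, ← pow_mul]
      exact orderOf_dvd_iff_pow_eq_one.1 h.dvd
  · intro h
    have hs := sq_of_trace_zero h
    refine orderOf_eq_prime_pow (p := 2) (n := 1) ?_ ?_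
    · rw [pow_one, pow_two, hs]
      exact CfsgLib.SL2C.negOne_ne_one hodd
    · rw [show (2 : ℕ) ^ (1 + 1) = 2 * 2 from rfl, pow_mul, pow_two, pow_two, hs]
      exact CfsgLib.SL2C.mul_self_eq_one_of_center CfsgLib.SL2C.negOne_mem_center

/-- A subgroup of order four is cyclic, generated by an element of trace zero. -/
theorem exists_gen_four (hodd : Odd (Fintype.card F)) (A : Subgroup (SL F)) (hA : Nat.card A = 4) :
    ∃ x : SL F, (mt x).trace = 0 ∧ A = Subgroup.zpowers x := by
  have hlt : (Subgroup.center (SL F) : Set (SL F)).ncard < (A : Set (SL F)).ncard := by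
    rw [← Nat.card_coe_set_eq, ← Nat.card_coe_set_eq]
    show Nat.card (Subgroup.center (SL F)) < Nat.card A
    rw [hA, CfsgLib.Linear.card_center_SL, Fintype.card_fin]
    exact lt_of_le_of_lt (Nat.le_of_dvd two_pos (Nat.gcd_dvd_left _ _)) (by norm_num)
  obtain ⟨x, hxA, hxc⟩ := Set.exists_mem_notMem_of_ncard_lt_ncard hlt
  have hd : orderOf x ∣ 2 ^ 2 := by
    rw [← Subgroup.orderOf_mk x hxA]
    exact (orderOf_dvd_natCard _).trans (by rw [hA]; norm_num)
  obtain ⟨k, hk, hk'⟩ := (Nat.dvd_prime_pow Nat.prime_two).1 hd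
  interval_cases k
  · exact absurd (orderOf_eq_one_iff.1 hk') (fun e => hxc (e ▸ one_mem _))
  · refine absurd (CfsgLib.SL2C.mem_center_of_mul_self hodd ?_) hxc
    rw [← pow_two]
    exact orderOf_dvd_iff_pow_eq_one.1 hk'.dvd
  · refine ⟨x, (orderOf_four_iff hodd).1 (hk'.trans (by norm_num)), ?_⟩
    refine (Subgroup.eq_of_le_of_card_ge (Subgroup.zpowers_le.2 hxA) ?_).symm
    rw [hA, Nat.card_zpowers, hk']
    norm_num

/-- The torus through an element of trace zero. -/
theorem exists_torus (hodd : Odd (Fintype.card F)) :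
    ∃ (T : Subgroup (SL F)) (y : SL F), IsTorus T ∧ y ∈ T ∧ (mt y).trace = 0 ∧
      Nat.card T = (if Fintype.card F % 4 = 1 then Fintype.card F - 1 else Fintype.card F + 1) := by
  have h3 := CfsgLib.SL2C.three_le_card hodd
  obtain ⟨m, hm⟩ := id hodd
  obtain ⟨T, hT, hcard⟩ : ∃ T : Subgroup (SL F), IsTorus T ∧
      Nat.card T = (if Fintype.card F % 4 = 1 then Fintype.card F - 1 else Fintype.card F + 1) := by
    split_ifs with h
    · exact ⟨_, CfsgLib.SL2C.isTorus_split hodd (by omega), CfsgLib.SL2C.card_splitTorus⟩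
    · obtain ⟨c, hc⟩ := CfsgLib.SL2C.exists_ell (F := F)
      exact ⟨_, CfsgLib.SL2C.isTorus_tor hc, CfsgLib.SL2C.card_tor hc⟩
  have h4 : 4 ∣ Nat.card T := by
    rw [hcard]
    split_ifs <;> omega
  obtain ⟨g, hg⟩ := hT.cyc.exists_ofOrder_eq_natCard
  refine ⟨T, (g : SL F) ^ (Nat.card T / 4), hT, pow_mem g.2 _, (orderOf_four_iff hodd).1 ?_, hcard⟩
  obtain ⟨e, he⟩ := h4
  have hpos : 0 < Nat.card T := Nat.card_pos
  rw [he, Nat.mul_div_cancel_left _ (by norm_num), orderOf_pow_of_dvd (by omega)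
    (by rw [Subgroup.orderOf_coe, hg, he]; exact dvd_mul_left _ _),
    Subgroup.orderOf_coe, hg, he, Nat.mul_div_cancel _ (by omega)]

theorem normalizer_zpowers (hodd : Odd (Fintype.card F)) {T : Subgroup (SL F)} {y : SL F}
    (hT : IsTorus T) (hy : y ∈ T) (ht : (mt y).trace = 0) :
    Subgroup.normalizer (Subgroup.zpowers y : Set (SL F)) = Subgroup.normalizer (T : Set (SL F)) :=
  hT.normalizer_of_le (Subgroup.zpowers_le.2 hy)
    ⟨y, Subgroup.mem_zpowers y, not_center_of_trace_zero hodd ht⟩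

theorem subgroups_four_conj (hodd : Odd (Fintype.card F)) (A B : Subgroup (SL F))
    (hA : Nat.card A = 4) (hB : Nat.card B = 4) :
    ∃ g : SL F, B = A.map (MulAut.conj g).toMonoidHom := by
  obtain ⟨x, hx, rfl⟩ := exists_gen_four hodd A hA
  obtain ⟨z, hz, rfl⟩ := exists_gen_four hodd B hB
  obtain ⟨g, hg⟩ := isConj_iff.1 (isConj_of_trace_zero hodd hx hz)
  exact ⟨g, by rw [MonoidHom.map_zpowers, MulEquiv.coe_toMonoidHom, MulAut.conj_apply, hg]⟩

theorem card_normalizer_four (hodd : Odd (Fintype.card F)) (A : Subgroup (SL F))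
    (hA : Nat.card A = 4) :
    Nat.card (Subgroup.normalizer (A : Set (SL F))) =
      2 * (if Fintype.card F % 4 = 1 then Fintype.card F - 1 else Fintype.card F + 1) := by
  obtain ⟨T, y, hT, hy, ht, hcard⟩ := exists_torus hodd
  have hY : Nat.card (Subgroup.zpowers y) = 4 := by
    rw [Nat.card_zpowers, (orderOf_four_iff hodd).2 ht]
  obtain ⟨g, rfl⟩ := subgroups_four_conj hodd (Subgroup.zpowers y) A hY hA
  rw [← Subgroup.map_normalizer_eq_of_bijective _ (MulAut.conj g).bijective,
    Nat.card_congr ((Subgroup.normalizer (Subgroup.zpowers y : Set (SL F))).equivMapOfInjective _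
      (MulAut.conj g).injective).symm.toEquiv,
    normalizer_zpowers hodd hT hy ht, hT.card_normalizer hodd, hcard]

/-! ### Involutions of `PSL₂` -/

theorem proj_surj : Function.Surjective (proj (F := F)) := QuotientGroup.mk'_surjective _

theorem proj_eq_one {g : SL F} : proj g = 1 ↔ g ∈ Subgroup.center (SL F) :=
  QuotientGroup.eq_one_iff g

theorem proj_involution_iff (hodd : Odd (Fintype.card F)) (g : SL F) :
    (proj g * proj g = 1 ∧ proj g ≠ 1) ↔ (mt g).trace = 0 := by
  rw [← map_mul, proj_eq_one, Ne, proj_eq_one]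
  constructor
  · rintro ⟨h1, h2⟩
    rcases CfsgLib.SL2C.center_cases h1 with e | e
    · exact absurd (CfsgLib.SL2C.mem_center_of_mul_self hodd e) h2
    · exact trace_zero_of_sq hodd e
  · intro h
    exact ⟨(sq_of_trace_zero h) ▸ CfsgLib.SL2C.negOne_mem_center, not_center_of_trace_zero hodd h⟩

theorem involutions_conj (hodd : Odd (Fintype.card F)) {a b : P2 F} (ha : a * a = 1) (ha1 : a ≠ 1)
    (hb : b * b = 1) (hb1 : b ≠ 1) : IsConj a b := by
  obtain ⟨g, rfl⟩ := proj_surj a
  obtain ⟨h, rfl⟩ := proj_surj b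
  exact (proj (F := F)).map_isConj (isConj_of_trace_zero hodd
    ((proj_involution_iff hodd g).1 ⟨ha, ha1⟩) ((proj_involution_iff hodd h).1 ⟨hb, hb1⟩))

/-- The data of the centraliser of an involution: a dihedral group. -/
theorem centralizer_shape (hodd : Odd (Fintype.card F)) :
    ∃ (x : P2 F) (U : Subgroup (P2 F)) (m : ℕ),
      x * x = 1 ∧ x ≠ 1 ∧ x ∈ U ∧ U ≤ Subgroup.centralizer {x} ∧ IsCyclic U ∧
      2 * m = (if Fintype.card F % 4 = 1 then Fintype.card F - 1 else Fintype.card F + 1) ∧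
      Nat.card U = m ∧ Nat.card (Subgroup.centralizer ({x} : Set (P2 F))) = 2 * m ∧
      (∀ z ∈ U, z * z = 1 → z = 1 ∨ z = x) ∧
      (∀ c ∈ Subgroup.centralizer ({x} : Set (P2 F)), c ∉ U →
        c * c = 1 ∧ c ≠ 1 ∧ ∀ z ∈ U, c * z * c⁻¹ = z⁻¹) := by
  obtain ⟨T, y, hT, hy, ht, hcard⟩ := exists_torus hodd
  have hker : (proj (F := F)).ker = Subgroup.center (SL F) := QuotientGroup.ker_mk' _
  have hhalf : ∀ H : Subgroup (SL F), Subgroup.center (SL F) ≤ H →
      Nat.card H = 2 * Nat.card (H.map (proj (F := F))) := by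
    intro H hle
    have e := Subgroup.card_eq_card_quotient_mul_card_subgroup ((proj (F := F)).comp H.subtype).ker
    rw [Nat.card_congr (QuotientGroup.quotientKerEquivRange _).toEquiv, MonoidHom.range_comp,
      Subgroup.range_subtype, ← MonoidHom.comap_ker, hker] at e
    rw [e, mul_comm]
    congr 1
    rw [show (Subgroup.center (SL F)).comap H.subtype = (Subgroup.center (SL F)).subgroupOf H from rfl,
      Nat.card_congr (Subgroup.subgroupOfEquivOfLe hle).toEquiv, CfsgLib.Linear.card_center_SL,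
      Fintype.card_fin, Nat.card_eq_fintype_card (α := F)]
    exact Nat.gcd_eq_left (by obtain ⟨k, hk⟩ := hodd; omega)
  have hcenN : Subgroup.center (SL F) ≤ Subgroup.normalizer (T : Set (SL F)) :=
    hT.center_le.trans Subgroup.le_normalizer
  have hC : Subgroup.centralizer ({proj y} : Set (P2 F)) =
      (Subgroup.normalizer (T : Set (SL F))).map (proj (F := F)) := by
    ext c
    obtain ⟨g, rfl⟩ := proj_surj c
    rw [Subgroup.mem_centralizer_singleton_iff]
    constructor
    · intro h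
      refine ⟨g, hT.mem_normalizer_of_mem hy (not_center_of_trace_zero hodd ht) ?_, rfl⟩
      have h1 : g * y * g⁻¹ * y⁻¹ ∈ Subgroup.center (SL F) := by
        rw [← hker, MonoidHom.mem_ker]
        simp only [map_mul, map_inv]
        rw [h]
        group
      have := mul_mem (hT.center_le h1) hy
      simpa using this
    · rintro ⟨k, hk, hke⟩
      rw [← hke, ← map_mul, ← map_mul]
      rcases hT.normalizer_dichotomy hk with h | h
      · rw [hT.comm h hy]
      · have e : k * y = y⁻¹ * k := mul_inv_eq_iff_eq_mul.1 (h y hy)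
        rw [e, map_mul, map_mul]
        congr 1
        rw [map_inv]
        exact inv_eq_of_mul_eq_one_right (((proj_involution_iff hodd y).2 ht).1)
  refine ⟨proj y, T.map (proj (F := F)), Nat.card (T.map (proj (F := F))), ?_, ?_, ⟨y, hy, rfl⟩,
    ?_, ?_, ?_, rfl, ?_, ?_, ?_⟩
  · exact ((proj_involution_iff hodd y).2 ht).1
  · exact ((proj_involution_iff hodd y).2 ht).2
  · rw [hC]
    exact Subgroup.map_mono Subgroup.le_normalizer
  · have := hT.cyc
    exact isCyclic_of_surjective ((proj (F := F)).subgroupMap T) (proj.subgroupMap_surjective T)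
  · rw [← hcard, ← hhalf T hT.center_le]
  · rw [hC, ← hhalf T hT.center_le]
    have h := hhalf _ hcenN
    rw [hT.card_normalizer hodd] at h
    omega
  · rintro _ ⟨t, htT, rfl⟩ h
    by_cases h1 : proj t = 1
    · exact Or.inl h1
    · right
      have htr := (proj_involution_iff hodd t).1 ⟨h, h1⟩
      rcases hT.tr y hy t htT (not_center_of_trace_zero hodd ht) (htr.trans ht.symm) with e | e
      · rw [e]
      · rw [e, map_inv]
        exact inv_eq_of_mul_eq_one_right (((proj_involution_iff hodd y).2 ht).1)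
  · intro c hc hcU
    rw [hC] at hc
    obtain ⟨k, hk, rfl⟩ := hc
    have hkT : k ∉ T := fun h => hcU ⟨k, h, rfl⟩
    refine ⟨?_, fun e => hkT (hT.center_le (proj_eq_one.1 e)), ?_⟩
    · rw [← map_mul, hT.sq_eq_negOne hodd hk hkT]
      exact proj_eq_one.2 CfsgLib.SL2C.negOne_mem_center
    · rintro _ ⟨t, htT, rfl⟩
      rw [← map_inv, ← map_inv, ← map_mul, ← map_mul,
        (hT.normalizer_dichotomy hk).resolve_left hkT t htT]

/-! ### Four-groups -/

section Counting

variable {G : Type*} [Group G] [Finite G]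

/-- Ordered pairs of distinct commuting involutions. -/
def PairSet (G : Type*) [Group G] : Type _ :=
  {p : G × G // p.1 * p.1 = 1 ∧ p.1 ≠ 1 ∧ p.2 * p.2 = 1 ∧ p.2 ≠ 1 ∧ p.1 ≠ p.2 ∧
    p.1 * p.2 = p.2 * p.1}

theorem klein_sq {V : Subgroup G} (hV : IsKleinFour V) {a : G} (ha : a ∈ V) : a * a = 1 :=
  congrArg Subtype.val (IsKleinFour.mul_self (⟨a, ha⟩ : V))

theorem klein_comm {V : Subgroup G} (hV : IsKleinFour V) {a b : G} (ha : a ∈ V) (hb : b ∈ V) :
    a * b = b * a := by
  have h := klein_sq hV (mul_mem ha hb)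
  calc a * b = (a * b)⁻¹ := (inv_eq_of_mul_eq_one_right h).symm
    _ = b * a := by
      rw [_root_.mul_inv_rev, inv_eq_of_mul_eq_one_right (klein_sq hV ha),
        inv_eq_of_mul_eq_one_right (klein_sq hV hb)]

theorem exists_klein {a b : G} (ha : a * a = 1) (ha1 : a ≠ 1) (hb : b * b = 1) (hb1 : b ≠ 1)
    (hab : a ≠ b) (hc : a * b = b * a) :
    ∃ V : Subgroup G, IsKleinFour V ∧ a ∈ V ∧ b ∈ V ∧
      ∀ z ∈ V, z = 1 ∨ z = a ∨ z = b ∨ z = a * b := by
  let V : Subgroup G :=
    { carrier := {1, a, b, a * b}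
      one_mem' := Or.inl rfl
      mul_mem' := by
        have e1 : ∀ z, a * (a * z) = z := fun z => by rw [← mul_assoc, ha, one_mul]
        have e3 : ∀ z, b * (a * z) = a * (b * z) := fun z => by rw [← mul_assoc, ← hc, mul_assoc]
        rintro x y (rfl | rfl | rfl | rfl) (rfl | rfl | rfl | rfl) <;>
          simp [ha, hb, mul_assoc, e1, e3, ← hc]
      inv_mem' := by
        have hai := inv_eq_of_mul_eq_one_right ha
        have hbi := inv_eq_of_mul_eq_one_right hb
        rintro x (rfl | rfl | rfl | rfl) <;> simp [hai, hbi, ← hc] }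
  have hab1 : a * b ≠ 1 := fun h => hab ((mul_eq_one_iff_eq_inv.1 h).trans
    (inv_eq_of_mul_eq_one_right hb))
  have hset : (V : Set G) = {1, a, b, a * b} := rfl
  have hcard : Nat.card V = 4 := by
    show Nat.card (V : Set G) = 4
    rw [hset, Nat.card_coe_set_eq, Set.ncard_eq_succ (s := {1, a, b, a * b})]
    refine ⟨1, {a, b, a * b}, ?_, rfl, ?_⟩
    · simp only [Set.mem_insert_iff, Set.mem_singleton_iff, not_or]
      exact ⟨ha1.symm, hb1.symm, hab1.symm⟩
    · rw [Set.ncard_eq_succ]
      refine ⟨a, {b, a * b}, ?_, rfl, Set.ncard_pair (fun h => ha1 (mul_eq_right.1 h.symm))⟩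
      simp only [Set.mem_insert_iff, Set.mem_singleton_iff, not_or]
      exact ⟨hab, fun h => hb1 (mul_eq_left.1 h.symm)⟩
  have hmem : ∀ z ∈ V, z = 1 ∨ z = a ∨ z = b ∨ z = a * b := fun z hz => hz
  refine ⟨V, ⟨hcard, ?_⟩, Or.inr (Or.inl rfl), Or.inr (Or.inr (Or.inl rfl)), hmem⟩
  have hsq : ∀ z : V, z ^ 2 = 1 := by
    rintro ⟨z, hz⟩
    apply Subtype.ext
    show z ^ 2 = 1
    rcases hmem z hz with rfl | rfl | rfl | rfl
    · simp
    · rw [pow_two, ha]
    · rw [pow_two, hb]
    · rw [pow_two, mul_assoc, ← mul_assoc b, ← hc, mul_assoc, hb, mul_one, ha]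
  have hV : Nontrivial V := by
    rw [← Finite.one_lt_card_iff_nontrivial, hcard]
    norm_num
  exact (Nat.dvd_prime Nat.prime_two).1 (Monoid.exponent_dvd_of_forall_pow_eq_one hsq) |>.resolve_left
    (fun h => not_subsingleton V (Monoid.exp_eq_one_iff.1 h))

theorem klein_eq {V W : Subgroup G} (hV : IsKleinFour V) (hW : IsKleinFour W) {a b : G}
    (ha : a ∈ V) (ha' : a ∈ W) (hb : b ∈ V) (hb' : b ∈ W) (ha1 : a ≠ 1) (hb1 : b ≠ 1)
    (hab : a ≠ b) : V = W := by
  obtain ⟨U, hU, haU, hbU, hmem⟩ := exists_klein (klein_sq hV ha) ha1 (klein_sq hV hb) hb1 hab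
    (klein_comm hV ha hb)
  have key : ∀ {X : Subgroup G}, IsKleinFour X → a ∈ X → b ∈ X → U = X := by
    intro X hX haX hbX
    refine Subgroup.eq_of_le_of_card_ge (fun z hz => ?_) (by rw [hU.card_four, hX.card_four])
    rcases hmem z hz with rfl | rfl | rfl | rfl
    · exact one_mem X
    · exact haX
    · exact hbX
    · exact mul_mem haX hbX
  rw [← key hV ha hb, ← key hW ha' hb']

theorem card_pairs_klein :
    6 * Nat.card {V : Subgroup G // IsKleinFour V} = Nat.card (PairSet G) := by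
  classical
  have := Fintype.ofFinite G
  let P := fun V : {V : Subgroup G // IsKleinFour V} =>
    {p : V.1 × V.1 // p.1 ≠ 1 ∧ p.2 ≠ 1 ∧ p.1 ≠ p.2}
  let f : (Σ V, P V) → PairSet G := fun s => ⟨((s.2.1.1 : G), (s.2.1.2 : G)),
    klein_sq s.1.2 s.2.1.1.2, fun h => s.2.2.1 (Subtype.ext h), klein_sq s.1.2 s.2.1.2.2,
    fun h => s.2.2.2.1 (Subtype.ext h), fun h => s.2.2.2.2 (Subtype.ext h),
    klein_comm s.1.2 s.2.1.1.2 s.2.1.2.2⟩
  have hf : Function.Bijective f := by
    constructor
    · rintro ⟨⟨V, hV⟩, ⟨a, b⟩, h1, h2, h3⟩ ⟨⟨W, hW⟩, ⟨a', b'⟩, h1', h2', h3'⟩ h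
      have e := congrArg Subtype.val h
      simp only [f, Prod.mk.injEq] at e
      have hVW : V = W := klein_eq hV hW a.2 (by rw [e.1]; exact a'.2) b.2
        (by rw [e.2]; exact b'.2) (fun h => h1 (Subtype.ext h)) (fun h => h2 (Subtype.ext h))
        (fun h => h3 (Subtype.ext h))
      subst hVW
      have ea : a = a' := Subtype.ext e.1
      have eb : b = b' := Subtype.ext e.2
      subst ea; subst eb
      rfl
    · rintro ⟨⟨a, b⟩, h1, h2, h3, h4, h5, h6⟩
      obtain ⟨V, hV, ha, hb, -⟩ := exists_klein h1 h2 h3 h4 h5 h6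
      exact ⟨⟨⟨V, hV⟩, ⟨(⟨a, ha⟩, ⟨b, hb⟩), fun h => h2 (congrArg Subtype.val h),
        fun h => h4 (congrArg Subtype.val h), fun h => h5 (congrArg Subtype.val h)⟩⟩, rfl⟩
  rw [← Nat.card_eq_of_bijective f hf, Nat.card_sigma]
  have hP : ∀ V, Nat.card (P V) = 6 := by
    rintro ⟨V, hV⟩
    let e : V ≃* Multiplicative (ZMod 2 × ZMod 2) := by
      have : IsKleinFour V := hV
      exact IsKleinFour.nonempty_mulEquiv.some
    rw [Nat.card_congr (Equiv.subtypeEquiv (Equiv.prodCongr e.toEquiv e.toEquiv)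
      (q := fun p : Multiplicative (ZMod 2 × ZMod 2) × Multiplicative (ZMod 2 × ZMod 2) =>
        p.1 ≠ 1 ∧ p.2 ≠ 1 ∧ p.1 ≠ p.2) (fun p => by simp)), Nat.card_eq_fintype_card]
    decide
  rw [Finset.sum_congr rfl (fun V _ => hP V), Finset.sum_const, Finset.card_univ, smul_eq_mul,
    mul_comm, Nat.card_eq_fintype_card]

theorem card_pairs_fibre (x : G) (hx : x * x = 1) (hx1 : x ≠ 1)
    (hconj : ∀ a : G, a * a = 1 → a ≠ 1 → IsConj x a) :
    Nat.card (Subgroup.centralizer ({x} : Set G)) * Nat.card (PairSet G) =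
      Nat.card G * Nat.card {z : G // z * z = 1 ∧ z ≠ 1 ∧ x ≠ z ∧ x * z = z * x} := by
  classical
  have := Fintype.ofFinite G
  let I := {a : G // a * a = 1 ∧ a ≠ 1}
  let fib := fun a : G => {z : G // z * z = 1 ∧ z ≠ 1 ∧ a ≠ z ∧ a * z = z * a}
  let e : PairSet G ≃ Σ a : I, fib a.1 :=
    { toFun := fun p => ⟨⟨p.1.1, p.2.1, p.2.2.1⟩, p.1.2, p.2.2.2.1, p.2.2.2.2.1, p.2.2.2.2.2⟩
      invFun := fun s => ⟨(s.1.1, s.2.1), s.1.2.1, s.1.2.2, s.2.2⟩
      left_inv := fun p => rfl
      right_inv := fun s => rfl }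
  have hfib : ∀ a : I, Nat.card (fib a.1) = Nat.card (fib x) := by
    rintro ⟨a, ha, ha1⟩
    obtain ⟨g, hg⟩ := isConj_iff.1 (hconj a ha ha1)
    refine Nat.card_congr (Equiv.subtypeEquiv (MulAut.conj g).toEquiv fun z => ?_).symm
    show _ ↔ (MulAut.conj g z) * (MulAut.conj g z) = 1 ∧ MulAut.conj g z ≠ 1 ∧
      a ≠ MulAut.conj g z ∧ a * MulAut.conj g z = MulAut.conj g z * a
    rw [show a = MulAut.conj g x from hg.symm, ← map_mul, ← map_mul, ← map_mul, Ne, Ne, Ne, Ne,
      MulEquiv.map_eq_one_iff, MulEquiv.map_eq_one_iff, (MulAut.conj g).injective.eq_iff,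
      (MulAut.conj g).injective.eq_iff]
  rw [Nat.card_congr e, Nat.card_sigma, Finset.sum_congr rfl (fun a _ => hfib a), Finset.sum_const,
    Finset.card_univ, smul_eq_mul, ← mul_assoc, ← Nat.card_eq_fintype_card]
  congr 1
  have hI : Nat.card I = Nat.card (MulAction.orbit (ConjAct G) x) := by
    refine Nat.card_congr (Equiv.subtypeEquivRight fun a => ?_)
    rw [ConjAct.mem_orbit_conjAct]
    constructor
    · rintro ⟨h1, h2⟩
      exact (hconj a h1 h2).symm
    · intro h
      obtain ⟨g, hg⟩ := isConj_iff.1 h.symm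
      subst hg
      exact ⟨by rw [← pow_two, conj_pow, pow_two, hx, mul_one, mul_inv_cancel],
        fun h => hx1 (conj_eq_one_iff.1 h)⟩
  rw [hI, Subgroup.nat_card_centralizer_nat_card_stabilizer, mul_comm,
    ← Nat.card_congr (ConjAct.toConjAct (G := G)).toEquiv.symm]
  have := Nat.card_congr (MulAction.orbitProdStabilizerEquivGroup (ConjAct G) x)
  rw [Nat.card_prod] at this
  exact this

end Counting

/-- `12` times the number of four-groups is the group order. -/
theorem count_klein (hodd : Odd (Fintype.card F)) :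
    12 * Nat.card {V : Subgroup (P2 F) // IsKleinFour V} = Nat.card (P2 F) := by
  classical
  obtain ⟨x, U, m, hx, hx1, hxU, hUC, -, -, hU, hC, hUinv, hout⟩ := centralizer_shape hodd
  set C := Subgroup.centralizer ({x} : Set (P2 F))
  have hset : {z : P2 F | z * z = 1 ∧ z ≠ 1 ∧ x ≠ z ∧ x * z = z * x} =
      (C : Set (P2 F)) \ (U : Set (P2 F)) := by
    ext z
    constructor
    · rintro ⟨h1, h2, h3, h4⟩
      refine ⟨Subgroup.mem_centralizer_singleton_iff.2 h4.symm, fun hz => ?_⟩
      rcases hUinv z hz h1 with h | h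
      · exact h2 h
      · exact h3 h.symm
    · rintro ⟨h1, h2⟩
      obtain ⟨k1, k2, -⟩ := hout z h1 h2
      exact ⟨k1, k2, fun h => h2 (h ▸ hxU), (Subgroup.mem_centralizer_singleton_iff.1 h1).symm⟩
  have hs : Nat.card {z : P2 F // z * z = 1 ∧ z ≠ 1 ∧ x ≠ z ∧ x * z = z * x} = m := by
    show Nat.card {z : P2 F | z * z = 1 ∧ z ≠ 1 ∧ x ≠ z ∧ x * z = z * x} = m
    rw [hset, Nat.card_coe_set_eq, Set.ncard_sdiff hUC, ← Nat.card_coe_set_eq,
      ← Nat.card_coe_set_eq]
    show Nat.card C - Nat.card U = m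
    omega
  have h := card_pairs_fibre x hx hx1 fun a h1 h2 => involutions_conj hodd hx hx1 h1 h2
  rw [hs, hC, ← card_pairs_klein] at h
  have hm : 0 < m := hU ▸ Nat.card_pos
  apply Nat.eq_of_mul_eq_mul_left hm
  rw [mul_comm m (Nat.card (P2 F)), ← h]
  ring

/-- In every four-group any non-trivial element is centralised by an element of order four
swapping the other two, if `q ≡ ±1 (mod 8)`. -/
theorem card_normalizer_klein (hodd : Odd (Fintype.card F))
    (h8 : Fintype.card F % 8 = 1 ∨ Fintype.card F % 8 = 7) (V : Subgroup (P2 F))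
    (hV : IsKleinFour V) : Nat.card (Subgroup.normalizer (V : Set (P2 F))) = 24 := by
  classical
  obtain ⟨x, U, m, hx, hx1, hxU, hUC, hUcyc, hm, hU, hC, hUinv, hout⟩ := centralizer_shape hodd
  have h4m : 4 ∣ m := by
    split_ifs at hm <;> omega
  obtain ⟨u₀, hu₀⟩ := hUcyc.exists_ofOrder_eq_natCard
  rw [hU] at hu₀
  have hmpos : 0 < m := hU ▸ Nat.card_pos
  -- an element of order four in the cyclic part
  set u : P2 F := (u₀ : P2 F) ^ (m / 4) with hu
  have huU : u ∈ U := pow_mem u₀.2 _
  have huo : orderOf u = 4 := by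
    obtain ⟨j, hj⟩ := h4m
    rw [hu, hj, Nat.mul_div_cancel_left _ (by norm_num), orderOf_pow_of_dvd (by omega)
      (by rw [Subgroup.orderOf_coe, hu₀, hj]; exact dvd_mul_left _ _),
      Subgroup.orderOf_coe, hu₀, hj, Nat.mul_div_cancel _ (by omega)]
  have hu2 : u * u = x := by
    rcases hUinv (u * u) (mul_mem huU huU) (by
      rw [← pow_two, ← pow_two, ← pow_mul]; exact orderOf_dvd_iff_pow_eq_one.1 huo.dvd) with h | h
    · have := orderOf_dvd_of_pow_eq_one ((pow_two u).trans h)
      rw [huo] at this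
      norm_num at this
    · exact h
  -- facts about a four-group through `x`
  have shape : ∀ W : Subgroup (P2 F), IsKleinFour W → x ∈ W →
      (∀ c, c * x = x * c → c ∈ Subgroup.normalizer (W : Set (P2 F)) → c ∈ W ∨ u⁻¹ * c ∈ W) ∧
        u ∈ Subgroup.normalizer (W : Set (P2 F)) ∧ u ∉ W := by
    intro W hW hxW
    obtain ⟨b, hb, hb1, hbx⟩ : ∃ b ∈ W, b ≠ 1 ∧ b ≠ x := by
      by_contra hc
      push Not at hc
      have hsub : (W : Set (P2 F)) ⊆ {1, x} := fun z hz => by
        by_cases h : z = 1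
        · exact Or.inl h
        · exact Or.inr (hc z hz h)
      have h1 := Set.ncard_le_ncard hsub
      rw [← Nat.card_coe_set_eq, show Nat.card (W : Set (P2 F)) = Nat.card W from rfl,
        hW.card_four] at h1
      have h2 := Set.ncard_insert_le (1 : P2 F) {x}
      rw [Set.ncard_singleton] at h2
      omega
    have hbC : b ∈ Subgroup.centralizer ({x} : Set (P2 F)) :=
      Subgroup.mem_centralizer_singleton_iff.2 (klein_comm hW hb hxW)
    have hbU : b ∉ U := fun h => by
      rcases hUinv b h (klein_sq hW hb) with e | e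
      · exact hb1 e
      · exact hbx e
    obtain ⟨U', hU', hxU', hbU', hmem⟩ := exists_klein hx hx1 (klein_sq hW hb) hb1 (Ne.symm hbx)
      (klein_comm hW hxW hb)
    obtain rfl : W = U' := klein_eq hW hU' hxW hxU' hb hbU' hx1 hb1 (Ne.symm hbx)
    have hub : u * b * u⁻¹ = x * b := by
      obtain ⟨-, -, hinv⟩ := hout b hbC hbU
      have h1 : b * u⁻¹ = u * b := by
        have := hinv u huU
        rw [mul_inv_eq_iff_eq_mul] at this
        calc b * u⁻¹ = u * (u⁻¹ * b) * u⁻¹ := by group
          _ = u * (b * u) * u⁻¹ := by rw [this]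
          _ = u * b := by group
      rw [mul_assoc, h1, ← mul_assoc, hu2]
    have hux : u * x * u⁻¹ = x := by
      rw [← hu2]; group
    have huN : u ∈ Subgroup.normalizer (W : Set (P2 F)) := by
      have hstab : ∀ z ∈ W, u * z * u⁻¹ ∈ W := by
        intro z hz
        rcases hmem z hz with rfl | rfl | rfl | rfl
        · simp
        · rw [hux]; exact hxW
        · rw [hub]; exact mul_mem hxW hb
        · rw [show u * (x * b) * u⁻¹ = (u * x * u⁻¹) * (u * b * u⁻¹) by group, hux, hub]
          exact mul_mem hxW (mul_mem hxW hb)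
      exact Subgroup.mem_normalizer_fintype hstab
    have hcent : ∀ c, c * x = x * c → c * b = b * c → c ∈ W := by
      intro c hcx hcb
      have hcC : c ∈ Subgroup.centralizer ({x} : Set (P2 F)) :=
        Subgroup.mem_centralizer_singleton_iff.2 hcx
      obtain ⟨-, -, hinv⟩ := hout b hbC hbU
      by_cases hcU : c ∈ U
      · have h1 := hinv c hcU
        rw [← hcb, mul_inv_cancel_right] at h1
        rcases hUinv c hcU (mul_eq_one_iff_eq_inv.2 h1) with e | e
        · exact e ▸ one_mem W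
        · exact e ▸ hxW
      · -- then `b c` lies in `U`
        have hidx : c * b ∈ U := by
          by_contra hcbU
          obtain ⟨-, -, hinvc⟩ := hout c hcC hcU
          obtain ⟨-, -, hinvcb⟩ := hout (c * b) (mul_mem hcC hbC) hcbU
          have h1 := hinvcb u huU
          rw [show c * b * u * (c * b)⁻¹ = c * (b * u * b⁻¹) * c⁻¹ by group, hinv u huU,
            hinvc _ (inv_mem huU), inv_inv] at h1
          have := orderOf_dvd_of_pow_eq_one ((pow_two u).trans (mul_eq_one_iff_eq_inv.2 h1))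
          rw [huo] at this
          norm_num at this
        have h1 := hinv (c * b) hidx
        rw [show b * (c * b) * b⁻¹ = b * c by group, ← hcb] at h1
        rcases hUinv (c * b) hidx (mul_eq_one_iff_eq_inv.2 h1) with e | e
        · rw [mul_eq_one_iff_eq_inv.1 e]; exact inv_mem hb
        · rw [eq_mul_inv_of_mul_eq e]; exact mul_mem hxW (inv_mem hb)
    refine ⟨fun c hcx hcN => ?_, huN, fun h => ?_⟩
    · have hcb := (Subgroup.mem_normalizer_iff.1 hcN b).1 hb
      rcases hmem _ hcb with e | e | e | e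
      · exact absurd (conj_eq_one_iff.1 e) hb1
      · exfalso
        apply hbx
        have e2 : c * b * c⁻¹ = c * x * c⁻¹ := by rw [e, hcx]; group
        exact mul_left_cancel (mul_right_cancel e2)
      · exact Or.inl (hcent c hcx (mul_inv_eq_iff_eq_mul.1 e))
      · right
        refine hcent _ ?_ ?_
        · rw [mul_assoc, hcx, ← mul_assoc, show u⁻¹ * x = x * u⁻¹ by rw [← hu2]; group, mul_assoc]
        · rw [← mul_inv_eq_iff_eq_mul,
            show u⁻¹ * c * b * (u⁻¹ * c)⁻¹ = u⁻¹ * (c * b * c⁻¹) * u by group, e, ← hub]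
          group
    · have := klein_sq hW h
      exact hx1 (hu2 ▸ this)
  -- the normaliser is transitive on the involutions of `V`
  set N := Subgroup.normalizer (V : Set (P2 F))
  have move : ∀ a ∈ V, a ≠ 1 → ∀ z ∈ V, z ≠ 1 → z ≠ a →
      ∃ k ∈ N, k * a * k⁻¹ = a ∧ k * z * k⁻¹ ≠ z := by
    intro a ha ha1 z hz hz1 hza
    obtain ⟨g, hg⟩ := isConj_iff.1 (involutions_conj hodd hx hx1 (klein_sq hV ha) ha1)
    set W := V.map (MulAut.conj g⁻¹).toMonoidHom with hW
    have e := (V.equivMapOfInjective (MulAut.conj g⁻¹).toMonoidHom (MulAut.conj g⁻¹).injective)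
    have hKW : IsKleinFour W := by
      have : IsKleinFour V := hV
      exact ⟨(Nat.card_congr e.toEquiv).symm.trans hV.card_four,
        (Monoid.exponent_eq_of_mulEquiv e).symm.trans hV.exponent_two⟩
    have hxW : x ∈ W := ⟨a, ha, by simp [← hg, mul_assoc]⟩
    obtain ⟨hs, huN, huW⟩ := shape W hKW hxW
    refine ⟨g * u * g⁻¹, ?_, ?_, ?_⟩
    · refine Subgroup.mem_normalizer_fintype fun w hw => ?_
      have h1 : g⁻¹ * w * g ∈ W := ⟨w, hw, by simp⟩
      obtain ⟨w', hw', hww⟩ := (Subgroup.mem_normalizer_iff.1 huN _).1 h1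
      simp only [MulEquiv.coe_toMonoidHom, MulAut.conj_apply, inv_inv] at hww
      have : g * u * g⁻¹ * w * (g * u * g⁻¹)⁻¹ = w' := by
        calc _ = g * (u * (g⁻¹ * w * g) * u⁻¹) * g⁻¹ := by group
          _ = w' := by rw [← hww]; group
      rw [this]
      exact hw'
    · rw [← hg, show g * u * g⁻¹ * (g * x * g⁻¹) * (g * u * g⁻¹)⁻¹ = g * (u * x * u⁻¹) * g⁻¹ by
        group, show u * x * u⁻¹ = x by rw [← hu2]; group]
    · intro h
      -- then `u` centralises `W`
      have hz' : g⁻¹ * z * g ∈ W := ⟨z, hz, by simp⟩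
      have hzx : g⁻¹ * z * g ≠ x := fun h => hza (by rw [← hg, ← h]; group)
      have hcomm : u * (g⁻¹ * z * g) * u⁻¹ = g⁻¹ * z * g := by
        calc _ = g⁻¹ * (g * u * g⁻¹ * z * (g * u * g⁻¹)⁻¹) * g := by group
          _ = _ := by rw [h]
      have hbC : g⁻¹ * z * g ∈ Subgroup.centralizer ({x} : Set (P2 F)) :=
        Subgroup.mem_centralizer_singleton_iff.2 (klein_comm hKW hz' hxW)
      have hbU : g⁻¹ * z * g ∉ U := fun hU' => by
        rcases hUinv _ hU' (klein_sq hKW hz') with e | e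
        · exact hz1 (by
            calc z = g * (g⁻¹ * z * g) * g⁻¹ := by group
              _ = 1 := by rw [e]; group)
        · exact hzx e
      obtain ⟨-, -, hinv⟩ := hout _ hbC hbU
      have h1 := hinv u huU
      rw [← mul_inv_eq_iff_eq_mul.2 (mul_inv_eq_iff_eq_mul.1 hcomm), mul_inv_eq_iff_eq_mul] at h1
      have h2 : u * u = 1 := by
        rw [mul_inv_eq_iff_eq_mul] at hcomm
        have h3 := hinv u huU
        rw [← hcomm, mul_inv_cancel_right] at h3
        exact mul_eq_one_iff_eq_inv.2 h3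
      exact hx1 (hu2 ▸ h2)
  obtain ⟨g, hg⟩ : ∃ g : P2 F, g * x * g⁻¹ ∈ V := by
    obtain ⟨a, ha, ha1⟩ : ∃ a ∈ V, a ≠ 1 := by
      have hVne : V ≠ ⊥ := fun h => by
        have := hV.card_four
        rw [h, Subgroup.card_bot] at this
        norm_num at this
      exact (V.bot_or_exists_ne_one).resolve_left hVne
    obtain ⟨g, hg⟩ := isConj_iff.1 (involutions_conj hodd hx hx1 (klein_sq hV ha) ha1)
    exact ⟨g, hg ▸ ha⟩
  set a := g * x * g⁻¹ with hadef
  have ha1 : a ≠ 1 := fun h => hx1 (conj_eq_one_iff.1 h)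
  letI : MulAction N (P2 F) := MulAction.compHom (P2 F) ((MulAut.conj).comp N.subtype)
  have hact : ∀ (k : N) (z : P2 F), k • z = (k : P2 F) * z * (k : P2 F)⁻¹ := fun _ _ => rfl
  have horb : MulAction.orbit N a = {z : P2 F | z ∈ V ∧ z ≠ 1} := by
    ext z
    constructor
    · rintro ⟨k, rfl⟩
      show (k • a) ∈ V ∧ k • a ≠ 1
      rw [hact]
      exact ⟨(Subgroup.mem_normalizer_iff.1 k.2 a).1 hg, fun h => ha1 (conj_eq_one_iff.1 h)⟩
    · rintro ⟨hz, hz1⟩
      by_cases hza : z = a
      · rw [hza]; exact MulAction.mem_orbit_self a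
      · -- fix the third involution and move `a`
        obtain ⟨K, hK, hKa, hKz, hmem⟩ := exists_klein (klein_sq hV hg) ha1 (klein_sq hV hz) hz1
          (Ne.symm hza) (klein_comm hV hg hz)
        obtain rfl : V = K := klein_eq hV hK hg hKa hz hKz ha1 hz1 (Ne.symm hza)
        have haz : a * z ≠ 1 := fun h => hza (mul_left_cancel (h.trans (klein_sq hV hg).symm))
        obtain ⟨k, hk, hfix, hmove⟩ := move (a * z) (mul_mem hg hz) haz a hg ha1
          (fun h => hz1 (mul_eq_left.1 h.symm))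
        refine ⟨⟨k, hk⟩, ?_⟩
        show (⟨k, hk⟩ : N) • a = z
        rw [hact]
        rcases hmem _ ((Subgroup.mem_normalizer_iff.1 hk a).1 hg) with e | e | e | e
        · exact absurd (conj_eq_one_iff.1 e) ha1
        · exact absurd e hmove
        · exact e
        · exfalso
          have e2 := mul_left_cancel (mul_right_cancel (e.trans hfix.symm))
          exact hz1 (mul_eq_left.1 e2.symm)
  have h3 : Nat.card (MulAction.orbit N a) = 3 := by
    rw [horb]
    have e : {z : P2 F | z ∈ V ∧ z ≠ 1} = (V : Set (P2 F)) \ {1} := rfl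
    rw [e, Nat.card_coe_set_eq, Set.ncard_sdiff_singleton_of_mem (one_mem V), ← Nat.card_coe_set_eq]
    show Nat.card V - 1 = 3
    rw [hV.card_four]
  -- the stabiliser of `a` has order eight
  have hstab : Nat.card (MulAction.stabilizer N a) = 8 := by
    obtain ⟨K, hKdef⟩ : ∃ K, K = V.map (MulAut.conj g⁻¹).toMonoidHom := ⟨_, rfl⟩
    have e := (V.equivMapOfInjective (MulAut.conj g⁻¹).toMonoidHom (MulAut.conj g⁻¹).injective)
    have hKW : IsKleinFour K := by
      rw [hKdef]
      exact ⟨(Nat.card_congr e.toEquiv).symm.trans hV.card_four,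
        (Monoid.exponent_eq_of_mulEquiv e).symm.trans hV.exponent_two⟩
    have hxK : x ∈ K := by
      rw [hKdef]
      exact ⟨a, hg, by simp [hadef, mul_assoc]⟩
    have hmemK : ∀ z, z ∈ K ↔ g * z * g⁻¹ ∈ V := fun z => by
      rw [hKdef]
      constructor
      · rintro ⟨w, hw, rfl⟩
        simpa [mul_assoc] using hw
      · intro h
        exact ⟨_, h, by simp [mul_assoc]⟩
    obtain ⟨hs, huN, huK⟩ := shape K hKW hxK
    have hset : (MulAut.conj g⁻¹) '' {c : P2 F | c ∈ N ∧ c * a * c⁻¹ = a} =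
        (K : Set (P2 F)) ∪ (fun k => u * k) '' (K : Set (P2 F)) := by
      ext d
      constructor
      · rintro ⟨c, ⟨hcN, hca⟩, rfl⟩
        rw [MulAut.conj_apply, inv_inv]
        have h1 : g⁻¹ * c * g * x = x * (g⁻¹ * c * g) := by
          have : c * a = a * c := mul_inv_eq_iff_eq_mul.1 hca
          calc g⁻¹ * c * g * x = g⁻¹ * (c * a) * g := by rw [hadef]; group
            _ = g⁻¹ * (a * c) * g := by rw [this]
            _ = x * (g⁻¹ * c * g) := by rw [hadef]; group
        have h2 : g⁻¹ * c * g ∈ Subgroup.normalizer (K : Set (P2 F)) := by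
          refine Subgroup.mem_normalizer_fintype fun w hw => (hmemK _).2 ?_
          rw [show g * (g⁻¹ * c * g * w * (g⁻¹ * c * g)⁻¹) * g⁻¹ =
            c * (g * w * g⁻¹) * c⁻¹ by group]
          exact (Subgroup.mem_normalizer_iff.1 hcN _).1 ((hmemK w).1 hw)
        rcases hs _ h1 h2 with h | h
        · exact Or.inl h
        · exact Or.inr ⟨_, h, mul_inv_cancel_left u _⟩
      · intro hd
        have hdN : d ∈ Subgroup.normalizer (K : Set (P2 F)) ∧ d * x = x * d := by
          have hux : u * x = x * u := by rw [← hu2]; group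
          rcases hd with hd | ⟨k, hk, rfl⟩
          · exact ⟨Subgroup.le_normalizer hd, klein_comm hKW hd hxK⟩
          · exact ⟨mul_mem huN (Subgroup.le_normalizer hk),
              by rw [mul_assoc, klein_comm hKW hk hxK, ← mul_assoc, hux, mul_assoc]⟩
        refine ⟨g * d * g⁻¹, ⟨Subgroup.mem_normalizer_fintype fun w hw => ?_, ?_⟩, by
          simp [mul_assoc]⟩
        · have hw' : g⁻¹ * w * g ∈ K := (hmemK _).2 (by simpa [mul_assoc] using hw)
          have := (hmemK _).1 ((Subgroup.mem_normalizer_iff.1 hdN.1 _).1 hw')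
          rwa [show g * (d * (g⁻¹ * w * g) * d⁻¹) * g⁻¹ = g * d * g⁻¹ * w * (g * d * g⁻¹)⁻¹ by
            group] at this
        · rw [hadef, show g * d * g⁻¹ * (g * x * g⁻¹) * (g * d * g⁻¹)⁻¹ =
            g * (d * x * d⁻¹) * g⁻¹ by group, hdN.2, mul_inv_cancel_right]
    have hdisj : Disjoint (K : Set (P2 F)) ((fun k => u * k) '' (K : Set (P2 F))) := by
      rw [Set.disjoint_left]
      rintro _ h ⟨k, hk, rfl⟩
      exact huK (by simpa using mul_mem h (inv_mem hk))
    have e1 : MulAction.stabilizer N a ≃ {c : P2 F | c ∈ N ∧ c * a * c⁻¹ = a} :=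
      { toFun := fun k => ⟨k.1.1, k.1.2, k.2⟩
        invFun := fun c => ⟨⟨c.1, c.2.1⟩, c.2.2⟩
        left_inv := fun k => rfl
        right_inv := fun c => rfl }
    rw [Nat.card_congr e1, Nat.card_coe_set_eq, ← Set.ncard_image_of_injective _
      (MulAut.conj g⁻¹).injective, hset, Set.ncard_union_eq hdisj (Set.toFinite _) (Set.toFinite _),
      Set.ncard_image_of_injective _ (mul_right_injective u), ← Nat.card_coe_set_eq]
    show Nat.card K + Nat.card K = 8
    rw [hKW.card_four]
  have h := Nat.card_congr (MulAction.orbitProdStabilizerEquivGroup N a)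
  rw [Nat.card_prod, h3, hstab] at h
  exact h.symm

end CfsgLib.Linear.FourGroups
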