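import Cfsg.Agent.Classical.PSLTwoSub

/-!
Maximal dihedral subgroups of `PSL₂(q)` and its subfield subgroups.
-/

set_option autoImplicit false
set_option linter.unusedSectionVars false
set_option linter.style.haveILetI false

namespace CfsgLib.Linear.PSLTwo

open Matrix OnePoint
open CfsgLib.Dickson

section Subfields

variable {F K : Type*} [Field F] [Field K]

/-- The map of `PSL₂` induced by a homomorphism of fields. -/
theorem exists_subfield_psl (φ : K →+* F) :
    ∃ H : Subgroup (PSL2 F), Nonempty (H ≃* PSL2 K) := by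
  classical
  let ι : PSL2 F →* PGL2 F := Matrix.ProjectiveSpecialLinearGroup.toPGL
  have hι : Function.Injective ι := Matrix.ProjectiveSpecialLinearGroup.toPGL_injective
  have hle : pslImage φ ≤ ι.range := by
    rintro _ ⟨x, rfl⟩
    obtain ⟨A, rfl⟩ := QuotientGroup.mk_surjective x
    exact ⟨QuotientGroup.mk (Matrix.SpecialLinearGroup.map φ A), (pslHom_mk φ A).symm⟩
  refine ⟨(pslImage φ).comap ι, ⟨?_⟩⟩
  exact (((pslImage φ).comap ι).equivMapOfInjective ι hι).trans
    ((MulEquiv.subgroupCongr (Subgroup.map_comap_eq_self hle)).trans (pslImageEquiv φ).symm)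

/-- If all elements of the subfield are squares, `PGL₂` of the subfield embeds. -/
theorem exists_subfield_pgl (φ : K →+* F) (hsq : ∀ x : K, IsSquare (φ x)) :
    ∃ H : Subgroup (PSL2 F), Nonempty (H ≃* PGL2 K) := by
  classical
  let ι : PSL2 F →* PGL2 F := Matrix.ProjectiveSpecialLinearGroup.toPGL
  have hι : Function.Injective ι := Matrix.ProjectiveSpecialLinearGroup.toPGL_injective
  have hle : pglImage φ ≤ ι.range := by
    rintro _ ⟨x, rfl⟩
    obtain ⟨g, rfl⟩ := Matrix.ProjGenLinGroup.mk_surjective x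
    obtain ⟨c, hc⟩ := hsq (g : Matrix (Fin 2) (Fin 2) K).det
    have hdet : (g : Matrix (Fin 2) (Fin 2) K).det ≠ 0 :=
      (Matrix.GeneralLinearGroup.det g).ne_zero
    have hc0 : c ≠ 0 := by
      intro h
      rw [h, mul_zero] at hc
      exact hdet (φ.injective (hc.trans (map_zero φ).symm))
    let A : Matrix.SpecialLinearGroup (Fin 2) F :=
      ⟨c⁻¹ • (g : Matrix (Fin 2) (Fin 2) K).map φ, by
        rw [Matrix.det_smul, Fintype.card_fin, ← RingHom.mapMatrix_apply, ← RingHom.map_det, hc]
        field_simp⟩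
    refine ⟨QuotientGroup.mk A, ?_⟩
    show Matrix.SpecialLinearGroup.toPGL A = _
    rw [Matrix.ProjGenLinGroup.map_mk]
    show Matrix.ProjGenLinGroup.mk (Matrix.SpecialLinearGroup.toGL A) = Matrix.ProjGenLinGroup.mk _
    rw [Matrix.ProjGenLinGroup.mk_eq_mk_iff]
    refine ⟨Units.mk0 c hc0, ?_⟩
    apply Units.ext
    show (c⁻¹ • (g : Matrix (Fin 2) (Fin 2) K).map φ) * Matrix.scalar (Fin 2) c =
      (g : Matrix (Fin 2) (Fin 2) K).map φ
    rw [Matrix.scalar_apply, ← Matrix.smul_one_eq_diagonal, Matrix.mul_smul, Matrix.mul_one,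
      smul_smul, mul_inv_cancel₀ hc0, one_smul]
  refine ⟨(pglImage φ).comap ι, ⟨?_⟩⟩
  exact (((pglImage φ).comap ι).equivMapOfInjective ι hι).trans
    ((MulEquiv.subgroupCongr (Subgroup.map_comap_eq_self hle)).trans (pglImageEquiv φ).symm)

/-- The field with `p ^ a` elements maps to that with `p ^ n` elements when `a ∣ n`. -/
theorem exists_hom_galois [Finite F] (p a n : ℕ) [Fact p.Prime] [CharP F p]
    (hF : Nat.card F = p ^ n) (ha : a ≠ 0) (h : a ∣ n) : Nonempty (GaloisField p a →+* F) := by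
  let _ : Algebra (ZMod p) F := ZMod.algebra F p
  cases nonempty_fintype F
  have hr : Module.finrank (ZMod p) F = n := by
    have := Module.natCard_eq_pow_finrank (K := ZMod p) (V := F)
    rw [Nat.card_zmod, hF] at this
    exact (Nat.pow_right_injective (Fact.out : p.Prime).two_le this).symm
  obtain ⟨f⟩ := FiniteField.nonempty_algHom_of_finrank_dvd (F := ZMod p) (K := GaloisField p a)
    (L := F) (by rw [GaloisField.finrank p ha, hr]; exact h)
  exact ⟨f.toRingHom⟩

end Subfields

/-! ### Dihedral subgroups -/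

variable {F : Type*} [Field F] [Finite F]

/-- A semisimple element of `SL₂` is inverted by an element of square `-1`. -/
theorem exists_inverting (A : Matrix.SpecialLinearGroup (Fin 2) F)
    (ht : (A : Matrix (Fin 2) (Fin 2) F).trace ^ 2 ≠ 4) :
    ∃ W : Matrix.SpecialLinearGroup (Fin 2) F,
      (W : Matrix (Fin 2) (Fin 2) F).trace = 0 ∧
      ((W * A : Matrix.SpecialLinearGroup (Fin 2) F) : Matrix (Fin 2) (Fin 2) F).trace = 0 := by
  cases nonempty_fintype F
  have hA := A.2
  rw [Matrix.det_fin_two] at hA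
  set a := (A : Matrix (Fin 2) (Fin 2) F) 0 0 with ha
  set b := (A : Matrix (Fin 2) (Fin 2) F) 0 1 with hb
  set c := (A : Matrix (Fin 2) (Fin 2) F) 1 0 with hc
  set d := (A : Matrix (Fin 2) (Fin 2) F) 1 1 with hd
  rw [Matrix.trace_fin_two, ← ha, ← hd] at ht
  suffices ∃ x y z : F, x * x + y * z = -1 ∧ x * (a - d) + y * c + z * b = 0 by
    obtain ⟨x, y, z, h1, h2⟩ := this
    refine ⟨⟨!![x, y; z, -x], by rw [Matrix.det_fin_two_of]; linear_combination -h1⟩, ?_, ?_⟩
    · simp [Matrix.trace_fin_two]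
    · show (!![x, y; z, -x] * (A : Matrix (Fin 2) (Fin 2) F)).trace = 0
      rw [Matrix.trace_fin_two, Matrix.mul_apply,
        Matrix.mul_apply, Fin.sum_univ_two, Fin.sum_univ_two]
      simp [← ha, ← hb, ← hc, ← hd]
      linear_combination h2
  by_cases hc0 : c = 0
  · have had : a - d ≠ 0 := by
      intro h
      apply ht
      linear_combination 4 * hA + (a - d) * h + 4 * b * hc0
    refine ⟨-b / (a - d), -1 - (-b / (a - d)) * (-b / (a - d)), 1, by ring, ?_⟩
    rw [hc0]
    field_simp
    ring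
  · by_cases h2 : (2 : F) = 0
    · refine ⟨1, -(a - d) / c, 0, by linear_combination h2, ?_⟩
      field_simp
      ring
    · set α := (a - d) / c with hα
      set β := b / c with hβ
      have hdisc : α ^ 2 / 4 + β ≠ 0 := by
        intro h
        apply ht
        have h4 : (4 : F) ≠ 0 := by
          rw [show (4 : F) = 2 * 2 by norm_num]; exact mul_ne_zero h2 h2
        have e : (a - d) ^ 2 + 4 * b * c = 0 := by
          rw [hα, hβ] at h
          field_simp at h
          linear_combination h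
        linear_combination e + 4 * hA
      have hodd : Fintype.card F % 2 = 1 := FiniteField.odd_card_of_char_ne_two
        (fun h => h2 (by simpa [h] using ringChar.Nat.cast_ringChar (R := F)))
      obtain ⟨X, z, hX⟩ := FiniteField.exists_root_sum_quadratic (R := F)
        (f := Polynomial.C 1 * Polynomial.X ^ 2 + Polynomial.C 0 * Polynomial.X + Polynomial.C 0)
        (g := Polynomial.C (-(α ^ 2 / 4 + β)) * Polynomial.X ^ 2 + Polynomial.C 0 * Polynomial.X +
          Polynomial.C 1)
        (Polynomial.degree_quadratic one_ne_zero) (Polynomial.degree_quadratic (neg_ne_zero.2 hdisc))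
        hodd
      simp only [Polynomial.eval_add, Polynomial.eval_mul, Polynomial.eval_pow, Polynomial.eval_C,
        Polynomial.eval_X] at hX
      refine ⟨X + α * z / 2, -((X + α * z / 2) * α + z * β), z, ?_, ?_⟩
      · clear_value α β
        have h4 : (4 : F) ≠ 0 := by
          rw [show (4 : F) = 2 * 2 by norm_num]; exact mul_ne_zero h2 h2
        field_simp at hX ⊢
        linear_combination hX
      · rw [hα, hβ]
        field_simp
        ring

/-- A non-unipotent element of `PSL₂` is inverted by an involution. -/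
theorem exists_involution (p : ℕ) [Fact p.Prime] [CharP F p] (g : PSL2 F) (hg : ¬ orderOf g ∣ p) :
    ∃ w : PSL2 F, w * w = 1 ∧ w * g * w⁻¹ = g⁻¹ := by
  obtain ⟨A, rfl⟩ := QuotientGroup.mk_surjective g
  obtain ⟨W, h1, h2⟩ := exists_inverting A fun h => hg (orderOf_dvd_of_trace_sq p A h)
  have key : ∀ M : Matrix.SpecialLinearGroup (Fin 2) F,
      (M : Matrix (Fin 2) (Fin 2) F).trace = 0 →
        (QuotientGroup.mk M : PSL2 F) * QuotientGroup.mk M = 1 := by
    intro M hM
    rw [← QuotientGroup.mk_mul, CfsgLib.PSL2Spec.mk_eq_one_iff]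
    refine ⟨-1, ?_⟩
    have hd := M.2
    rw [Matrix.det_fin_two] at hd
    rw [Matrix.trace_fin_two] at hM
    rw [Matrix.SpecialLinearGroup.coe_mul]
    ext i j
    fin_cases i <;> fin_cases j <;> simp [Matrix.mul_apply, Fin.sum_univ_two]
    · linear_combination -hd + (M : Matrix (Fin 2) (Fin 2) F) 0 0 * hM
    · linear_combination (M : Matrix (Fin 2) (Fin 2) F) 0 1 * hM
    · linear_combination (M : Matrix (Fin 2) (Fin 2) F) 1 0 * hM
    · linear_combination -hd + (M : Matrix (Fin 2) (Fin 2) F) 1 1 * hM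
  refine ⟨QuotientGroup.mk W, key W h1, ?_⟩
  have h3 := key (W * A) h2
  rw [QuotientGroup.mk_mul] at h3
  rw [inv_eq_of_mul_eq_one_right (key W h1), eq_inv_iff_mul_eq_one]
  simpa [mul_assoc] using h3

/-- The group generated by an element and an involution inverting it. -/
theorem exists_dihedral {G : Type*} [Group G] [Finite G] (g w : G) (hw : w * w = 1)
    (hinv : w * g * w⁻¹ = g⁻¹) (hwg : w ∉ Subgroup.zpowers g) :
    ∃ D : Subgroup G, g ∈ D ∧ w ∈ D ∧ Nat.card D = 2 * orderOf g ∧
      Nonempty (D ≃* DihedralGroup (orderOf g)) := by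
  have hwi : w⁻¹ = w := inv_eq_of_mul_eq_one_right hw
  have hconj : ∀ i : ℤ, w * g ^ i * w⁻¹ = g ^ (-i) := fun i => by
    have := map_zpow (MulAut.conj w) g i
    simp only [MulAut.conj_apply] at this
    rw [this, hinv, _root_.inv_zpow, _root_.zpow_neg]
  have hflip : ∀ i : ℤ, g ^ i * w = w * g ^ (-i) := fun i => by
    rw [← hconj i]
    rw [hwi, ← mul_assoc, ← mul_assoc, hw, one_mul]
  let D : Subgroup G :=
    { carrier := {x | x ∈ Subgroup.zpowers g ∨ w * x ∈ Subgroup.zpowers g}
      one_mem' := Or.inl (one_mem _)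
      mul_mem' := by
        rintro x y (hx | hx) (hy | hy)
        · exact Or.inl (mul_mem hx hy)
        · right
          obtain ⟨i, rfl⟩ := hx
          have : w * (g ^ i * y) = g ^ (-i) * (w * y) := by
            have := hflip (-i)
            rw [neg_neg] at this
            rw [← mul_assoc, ← this, mul_assoc]
          exact this ▸ mul_mem (Subgroup.zpow_mem _ (Subgroup.mem_zpowers g) _) hy
        · right
          rw [← mul_assoc]
          exact mul_mem hx hy
        · left
          obtain ⟨i, hi⟩ := hx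
          obtain ⟨j, hj⟩ := hy
          simp only at hi hj
          have e1 : x = w * g ^ i := by rw [hi, ← mul_assoc, hw, one_mul]
          have e2 : y = w * g ^ j := by rw [hj, ← mul_assoc, hw, one_mul]
          rw [e1, e2, mul_assoc, ← mul_assoc (g ^ i), hflip, mul_assoc, ← mul_assoc w, hw, one_mul]
          exact mul_mem (Subgroup.zpow_mem _ (Subgroup.mem_zpowers g) _)
            (Subgroup.zpow_mem _ (Subgroup.mem_zpowers g) _)
      inv_mem' := by
        rintro x (hx | hx)
        · exact Or.inl (inv_mem hx)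
        · right
          obtain ⟨i, hi⟩ := hx
          simp only at hi
          have e1 : x = w * g ^ i := by rw [hi, ← mul_assoc, hw, one_mul]
          rw [e1, _root_.mul_inv_rev, hwi, ← _root_.zpow_neg, hflip, ← mul_assoc, hw, one_mul]
          exact Subgroup.zpow_mem _ (Subgroup.mem_zpowers g) _ }
  have hgD : g ∈ D := Or.inl (Subgroup.mem_zpowers g)
  have hwD : w ∈ D := Or.inr (by rw [hw]; exact one_mem _)
  let C : Subgroup D := (Subgroup.zpowers g).subgroupOf D
  have hle : Subgroup.zpowers g ≤ D := Subgroup.zpowers_le.2 hgD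
  let e := Subgroup.subgroupOfEquivOfLe hle
  have hC : IsCyclic C := isCyclic_of_injective e.toMonoidHom e.injective
  have hcard : Nat.card C = orderOf g := by
    rw [Nat.card_congr e.toEquiv, Nat.card_zpowers]
  obtain ⟨d⟩ := dihedral_of_index_two C hC ⟨w, hwD⟩ hwg (Subtype.ext hw)
    (fun c hc => Subtype.ext (by
      show w * (c : G) * w⁻¹ = (c : G)⁻¹
      obtain ⟨i, hi⟩ := hc
      simp only [Subgroup.coe_subtype] at hi
      rw [← hi, hconj, _root_.zpow_neg]))
    (fun x hx => x.2.resolve_left hx)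
  rw [hcard] at d
  exact ⟨D, hgD, hwD, (Nat.card_congr d.toEquiv).trans DihedralGroup.nat_card, ⟨d⟩⟩

/-- The two torus orders of `PSL₂`. -/
theorem torus_facts : Nat.gcd ((Nat.card F - 1) / Nat.gcd 2 (Nat.card F - 1))
    ((Nat.card F + 1) / Nat.gcd 2 (Nat.card F - 1)) ∣ 2 := by
  have h := Finite.one_lt_card (α := F)
  have h2 := Nat.dvd_sub ((Nat.gcd_dvd_right ((Nat.card F - 1) / Nat.gcd 2 (Nat.card F - 1))
      ((Nat.card F + 1) / Nat.gcd 2 (Nat.card F - 1))).trans
      (Nat.div_dvd_of_dvd (d_dvd_succ (F := F))))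
    ((Nat.gcd_dvd_left _ _).trans (Nat.div_dvd_of_dvd (d_dvd_pred (F := F))))
  rwa [show Nat.card F + 1 - (Nat.card F - 1) = 2 by omega] at h2

theorem a4_no_inversion : ∀ a b : alternatingGroup (Fin 4), a ^ 2 ≠ 1 → b * a * b⁻¹ ≠ a⁻¹ := by
  decide +kernel

theorem a4_order : ∀ a : alternatingGroup (Fin 4), a ^ 2 = 1 ∨ a ^ 3 = 1 := by decide +kernel

theorem s4_order : ∀ a : Equiv.Perm (Fin 4), a ^ 3 = 1 ∨ a ^ 4 = 1 := by decide +kernel

theorem a5_order : ∀ a : alternatingGroup (Fin 5), a ^ 2 = 1 ∨ a ^ 3 = 1 ∨ a ^ 5 = 1 := by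
  decide +kernel

theorem le_of_orderOf_dvd {G : Type*} [Group G] {a : G} {n : ℕ} (hn : 0 < n) (h : a ^ n = 1) :
    orderOf a ≤ n :=
  orderOf_le_of_pow_eq_one hn h

/-- A proper subgroup containing a full torus and an element inverting it has twice its order. -/
theorem card_of_torus [DecidableEq F] (p : ℕ) [Fact p.Prime] [CharP F p] (k : ℕ)
    (hk : k = (Nat.card F - 1) / Nat.gcd 2 (Nat.card F - 1) ∨
      k = (Nat.card F + 1) / Nat.gcd 2 (Nat.card F - 1))
    (h3 : 3 ≤ k) (h4 : 5 ≤ p → k ≤ 4 → k = 3 ∧ Nat.card F = 5)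
    (h5 : p ≠ 2 → p ≠ 5 → 6 ≤ k)
    (hsub : p = 3 → ∀ m, 2 ≤ m → Nat.card F = 3 ^ m → 5 ≤ k)
    (M : Subgroup (PSL2 F)) (hM : M ≠ ⊤) (g w : PSL2 F) (hg : orderOf g = k)
    (hinv : w * g * w⁻¹ = g⁻¹) (hgM : g ∈ M) (hwM : w ∈ M) :
    Nat.card M = 2 * k := by
  have hp : p.Prime := Fact.out
  have hcop : ¬ p ∣ k := by
    intro hd
    obtain ⟨n, -, hn⟩ : ∃ n : ℕ+, p.Prime ∧ Nat.card F = p ^ (n : ℕ) := by
      cases nonempty_fintype F
      obtain ⟨n, h1, h2⟩ := FiniteField.card F p
      exact ⟨n, h1, by rw [Nat.card_eq_fintype_card, h2]⟩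
    have hq : p ∣ Nat.card F := hn ▸ dvd_pow_self p n.pos.ne'
    have h1 := Finite.one_lt_card (α := F)
    rcases hk with rfl | rfl
    · have h2 := Nat.dvd_sub hq (hd.trans (Nat.div_dvd_of_dvd (d_dvd_pred (F := F))))
      rw [show Nat.card F - (Nat.card F - 1) = 1 by omega] at h2
      exact hp.not_dvd_one h2
    · have h2 := Nat.dvd_sub (hd.trans (Nat.div_dvd_of_dvd (d_dvd_succ (F := F)))) hq
      rw [show Nat.card F + 1 - Nat.card F = 1 by omega] at h2
      exact hp.not_dvd_one h2
  have hg2 : g ^ 2 ≠ 1 := fun h => by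
    have := orderOf_le_of_pow_eq_one two_pos h
    omega
  let gM : M := ⟨g, hgM⟩
  let wM : M := ⟨w, hwM⟩
  have hinvM : wM * gM * wM⁻¹ = gM⁻¹ := Subtype.ext hinv
  have hgMo : orderOf gM = k := (Subgroup.orderOf_mk g hgM).trans hg
  rcases proper_cases p M hM with ⟨P, -, hle⟩ | ⟨hc, -, -⟩ | ⟨n, -, -, hn, hc, ⟨e⟩⟩ |
    ⟨hp5, hc, ⟨e⟩⟩ | ⟨hp5, hc, ⟨e⟩⟩ | ⟨hp2, hp5, hc, ⟨e⟩⟩ | ⟨f, m, hf, hm, hq, hc⟩
  · exfalso
    obtain ⟨x, hx⟩ := normalizer_eq_stabilizer p P
    obtain ⟨s, hs⟩ := exists_smul_eq_infty x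
    have hfix : ∀ a ∈ M, ∃ u c, s * Matrix.ProjectiveSpecialLinearGroup.toPGL a * s⁻¹ = aff u c := by
      intro a ha
      refine eq_aff_of_fix_infty ?_
      have := hle ha
      rw [hx] at this
      rw [← hs, mul_smul, mul_smul, inv_smul_smul,
        show Matrix.ProjectiveSpecialLinearGroup.toPGL a • x = x from this]
    let f : PSL2 F →* PGL2 F :=
      (MulAut.conj s).toMonoidHom.comp Matrix.ProjectiveSpecialLinearGroup.toPGL
    have hf : Function.Injective f :=
      (MulAut.conj s).injective.comp Matrix.ProjectiveSpecialLinearGroup.toPGL_injective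
    obtain ⟨u, a, ha⟩ := hfix g hgM
    obtain ⟨v, b, hb⟩ := hfix w hwM
    replace ha : f g = aff u a := ha
    replace hb : f w = aff v b := hb
    have h1 : f w * f g = f g⁻¹ * f w := by
      rw [← hinv, ← map_mul, ← map_mul]
      congr 1
      group
    have h2 : f g * f g⁻¹ = 1 := by rw [← map_mul, mul_inv_cancel, map_one]
    obtain ⟨u', a', ha'⟩ := hfix g⁻¹ (inv_mem hgM)
    replace ha' : f g⁻¹ = aff u' a' := ha'
    rw [ha, ha', aff_mul, aff_eq_one] at h2
    rw [ha, ha', hb, aff_mul, aff_mul] at h1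
    have huu : u * u = 1 := by
      have e := (aff_inj h1).1
      rw [mul_comm u' v, mul_left_cancel_iff] at e
      rw [← e] at h2
      exact h2.1
    have h3' : f (g * g) = aff (1 : Fˣ) ((u : F) * a + a) := by
      rw [map_mul, ha, aff_mul, huu]
    have h4' : f ((g * g) ^ p) = 1 := by
      rw [map_pow, h3', aff_one_pow, aff_eq_one]
      simp
    have h5' : g ^ (2 * p) = 1 := by
      rw [pow_mul, pow_two]
      exact hf (h4'.trans (map_one f).symm)
    have hd : k ∣ 2 * p := hg ▸ orderOf_dvd_of_pow_eq_one h5'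
    have := Nat.le_of_dvd two_pos
      ((Nat.Coprime.dvd_mul_right ((Nat.Prime.coprime_iff_not_dvd hp).2 hcop).symm).1 hd)
    omega
  · exfalso
    have := hc
    apply hg2
    have h : gM * gM = 1 := by
      rw [mul_comm' wM gM, mul_inv_cancel_right] at hinvM
      exact mul_eq_one_iff_eq_inv.2 hinvM
    have := congrArg Subtype.val h
    rw [pow_two]
    exact this
  · have hdk : k ∣ n := by
      have ho : orderOf (e gM) = k := by rw [MulEquiv.orderOf_eq, hgMo]
      rcases h : e gM with i | i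
      · rw [h] at ho
        rw [← ho]
        refine orderOf_dvd_of_pow_eq_one ?_
        rw [DihedralGroup.r_pow, ZMod.natCast_self, mul_zero]
        rfl
      · rw [h, DihedralGroup.orderOf_sr] at ho
        omega
    have ht := torus_facts (F := F)
    have key : ∀ a b : ℕ, Nat.gcd a b ∣ 2 → k = a → n ∣ a ∨ n ∣ b → n = k := by
      intro a b hab hka hor
      rcases hor with h | h
      · exact Nat.dvd_antisymm (hka ▸ h) hdk
      · exfalso
        have := Nat.le_of_dvd two_pos
          ((Nat.dvd_gcd hka.dvd (hdk.trans h)).trans hab)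
        omega
    have hnk : n = k := by
      rcases hk with hk | hk
      · exact key _ _ ht hk hn
      · exact key _ _ (by rwa [Nat.gcd_comm]) hk hn.symm
    rw [hc, hnk]
  · exfalso
    apply a4_no_inversion (e gM) (e wM)
    · intro h
      have := orderOf_le_of_pow_eq_one two_pos h
      rw [MulEquiv.orderOf_eq, hgMo] at this
      omega
    · rw [← map_inv, ← map_inv, ← map_mul, ← map_mul, hinvM]
  · exfalso
    have hle : k ≤ 4 := by
      rw [← hgMo, ← MulEquiv.orderOf_eq e]
      rcases s4_order (e gM) with h | h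
      · exact (orderOf_le_of_pow_eq_one (by norm_num) h).trans (by norm_num)
      · exact orderOf_le_of_pow_eq_one (by norm_num) h
    have hcard : (24 : ℕ) ∣ Nat.card (PSL2 F) := hc ▸ M.card_subgroup_dvd_card
    rw [card_eq, (h4 hp5 hle).2] at hcard
    norm_num at hcard
  · exfalso
    have hle : k ≤ 5 := by
      rw [← hgMo, ← MulEquiv.orderOf_eq e]
      rcases a5_order (e gM) with h | h | h
      · exact (orderOf_le_of_pow_eq_one two_pos h).trans (by norm_num)
      · exact (orderOf_le_of_pow_eq_one (by norm_num) h).trans (by norm_num)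
      · exact orderOf_le_of_pow_eq_one (by norm_num) h
    have := h5 hp2 hp5
    omega
  · set a := p ^ f with ha
    have ha2 : 2 ≤ a := le_trans hp.two_le (Nat.le_self_pow (by omega) p)
    have hgf := card_gf p f hf
    have hle : k ≤ a + 1 := by
      classical
      rw [← hgMo]
      rcases hc with ⟨-, ⟨e⟩⟩ | ⟨-, -, ⟨e⟩⟩
      · rw [← MulEquiv.orderOf_eq e, ha, ← hgf]
        exact orderOf_pgl_le _
      · rw [← MulEquiv.orderOf_eq e, ha, ← hgf,
          ← orderOf_injective _ (Matrix.ProjectiveSpecialLinearGroup.toPGL_injective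
            (n := Fin 2) (R := GaloisField p f))]
        exact orderOf_pgl_le _
    have hqa : a ^ 2 ≤ Nat.card F := by
      rw [hq]
      exact Nat.pow_le_pow_right (by omega) hm
    have hk2 : Nat.card F - 1 ≤ 2 * k + 1 := by
      rcases gcd_cases (F := F) with h | h <;> rw [h] at hk <;> omega
    have ha4 : a < 5 := by
      by_contra h
      have := Nat.mul_le_mul_right a (show 5 ≤ a by omega)
      rw [← pow_two] at this
      omega
    by_cases ha22 : a = 2
    · have hp2 : p = 2 := (Nat.prime_dvd_prime_iff_eq hp Nat.prime_two).1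
        (ha22 ▸ ha ▸ dvd_pow_self p (by omega))
      rcases hc with ⟨hc, -⟩ | ⟨h, -⟩
      · rw [ha22] at hc
        norm_num at hc
        rw [hc]
        omega
      · exact absurd hp2 h
    · exfalso
      have h16 : a = 4 → False := by
        intro h
        have hp2 : p = 2 := (Nat.prime_dvd_prime_iff_eq hp Nat.prime_two).1
          (hp.dvd_of_dvd_pow (n := 2) (by norm_num; exact h ▸ ha ▸ dvd_pow_self p (by omega)))
        have hev : Even (Nat.card F) := by
          rw [hq, h]
          exact (Nat.even_pow' (by omega)).2 (by decide)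
        rw [h] at hqa
        norm_num [-Nat.card_eq_fintype_card] at hqa
        rw [gcd_eq_one hev, Nat.div_one, Nat.div_one] at hk
        omega
      have h9 : a = 3 := (show a = 3 ∨ a = 4 by omega).resolve_right h16
      have hp3 : p = 3 := (Nat.prime_dvd_prime_iff_eq hp Nat.prime_three).1
        (h9 ▸ ha ▸ dvd_pow_self p (by omega))
      have := hsub hp3 m hm (by rw [hq, h9])
      omega

/-- The maximal dihedral subgroup attached to a torus. -/
theorem exists_maximal_dihedral (p : ℕ) [Fact p.Prime] [CharP F p] (k : ℕ)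
    (hk : k = (Nat.card F - 1) / Nat.gcd 2 (Nat.card F - 1) ∨
      k = (Nat.card F + 1) / Nat.gcd 2 (Nat.card F - 1))
    (hF4 : 4 ≤ Nat.card F) (h3 : 3 ≤ k) (h4 : 5 ≤ p → k ≤ 4 → k = 3 ∧ Nat.card F = 5)
    (h5 : p ≠ 2 → p ≠ 5 → 6 ≤ k)
    (hsub : p = 3 → ∀ m, 2 ≤ m → Nat.card F = 3 ^ m → 5 ≤ k) :
    ∃ D : Subgroup (PSL2 F), IsCoatom D ∧ Nonempty (D ≃* DihedralGroup k) := by
  classical
  cases nonempty_fintype F
  obtain ⟨g, hg⟩ : ∃ g : PSL2 F, orderOf g = k := by
    rcases hk with rfl | rfl
    · simpa [Nat.card_eq_fintype_card] using CfsgLib.PSL2Spec.exists_orderOf_minus (F := F)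
    · simpa [Nat.card_eq_fintype_card] using CfsgLib.PSL2Spec.exists_orderOf_plus (F := F) p
  have hnp : ¬ orderOf g ∣ p := by
    rw [hg]
    intro h
    rcases (Nat.dvd_prime Fact.out).1 h with h' | h'
    · omega
    · have hq : p ∣ Nat.card F := by
        obtain ⟨n, -, hn⟩ := FiniteField.card F p
        rw [Nat.card_eq_fintype_card, hn]
        exact dvd_pow_self p n.pos.ne'
      rcases hk with hk | hk
      · have h2 := Nat.dvd_sub hq
          ((h' ▸ hk ▸ dvd_refl k : p ∣ (Nat.card F - 1) / Nat.gcd 2 (Nat.card F - 1)).trans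
            (Nat.div_dvd_of_dvd (d_dvd_pred (F := F))))
        rw [show Nat.card F - (Nat.card F - 1) = 1 by omega] at h2
        exact (Fact.out : p.Prime).not_dvd_one h2
      · have h2 := Nat.dvd_sub
          ((h' ▸ hk ▸ dvd_refl k : p ∣ (Nat.card F + 1) / Nat.gcd 2 (Nat.card F - 1)).trans
            (Nat.div_dvd_of_dvd (d_dvd_succ (F := F)))) hq
        rw [show Nat.card F + 1 - Nat.card F = 1 by omega] at h2
        exact (Fact.out : p.Prime).not_dvd_one h2
  obtain ⟨w, hw, hinv⟩ := exists_involution p g hnp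
  have hwg : w ∉ Subgroup.zpowers g := by
    intro hmem
    obtain ⟨i, rfl⟩ := hmem
    have h : g * g = 1 := by
      simp only at hinv
      have e : g ^ i * g * (g ^ i)⁻¹ = g := by group
      rw [e] at hinv
      exact mul_eq_one_iff_eq_inv.2 hinv
    have := orderOf_le_of_pow_eq_one two_pos ((pow_two g).trans h)
    omega
  obtain ⟨D, hgD, hwD, hcD, hiso⟩ := exists_dihedral g w hw hinv hwg
  rw [hg] at hcD hiso
  have := isSimple (F := F) hF4
  have hDtop : D ≠ ⊤ := by
    intro h
    obtain ⟨e⟩ := hiso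
    have hs := dihedral_solvable k
    exact not_solvable hF4 (Group.isSolvable_of_isSolvable_injective
      (f := ((Subgroup.topEquiv (G := PSL2 F)).symm.trans
        ((MulEquiv.subgroupCongr h.symm).trans e)).toMonoidHom) (MulEquiv.injective _))
  refine ⟨D, ⟨hDtop, fun M hDM => ?_⟩, hiso⟩
  by_contra hM
  have hc := card_of_torus p k hk h3 h4 h5 hsub M hM g w hg hinv (hDM.le hgD) (hDM.le hwD)
  exact hDM.ne (Subgroup.eq_of_le_of_card_ge hDM.le (by omega))

end CfsgLib.Linear.PSLTwo
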