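import Cfsg.Agent.Classical.PSpFourSimple

/-!
The 2-fusion system of `PSp₄(q)`, `q` odd, is simple: the automorphisms of a Sylow 2-subgroup.
-/

set_option autoImplicit false
set_option linter.style.haveILetI false

namespace CfsgLib.SpFour

open Matrix CfsgLib.SL2C CfsgLib.Linear.FourGroups CfsgLib.Fusion

/-- The elements normalising `R` whose conjugation on `R` lies in `E`. -/
def autSub {G : Type*} [Group G] {S : Subgroup G} (E : Cfsg.FusionSystem S) (R : Subgroup G) : Subgroup G where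
  carrier := {g : G | g ∈ Subgroup.normalizer (R : Set G) ∧
    ∀ β : MulAut R, (∀ x : R, ((β x : R) : G) = g * x * g⁻¹) → β ∈ E.autGroup R}
  one_mem' := ⟨one_mem _, fun β hβ => by
    have : β = 1 := MulEquiv.ext fun x => Subtype.ext (by rw [hβ x]; simp)
    rw [this]; exact one_mem _⟩
  mul_mem' := by
    rintro a b ⟨ha, ha'⟩ ⟨hb, hb'⟩
    refine ⟨mul_mem ha hb, fun β hβ => ?_⟩
    have : β = conjAut ⊤ R ⟨a, trivial, ha⟩ * conjAut ⊤ R ⟨b, trivial, hb⟩ :=
      MulEquiv.ext fun x => Subtype.ext (by rw [hβ x]; simp [mul_assoc])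
    rw [this]
    exact mul_mem (ha' _ fun x => rfl) (hb' _ fun x => rfl)
  inv_mem' := by
    rintro a ⟨ha, ha'⟩
    refine ⟨inv_mem ha, fun β hβ => ?_⟩
    have : β = (conjAut ⊤ R ⟨a, trivial, ha⟩)⁻¹ :=
      MulEquiv.ext fun x => Subtype.ext (by rw [hβ x, ← map_inv]; rfl)
    rw [this]
    exact inv_mem (ha' _ fun x => rfl)

theorem two_element_mem_autSub {G : Type*} [Group G] [Finite G] {S : Sylow 2 G}
    {E : Cfsg.FusionSystem (S : Subgroup G)}
    (hEi : E.IsInvariantIn (Cfsg.groupFusionSystem (S : Subgroup G))) {R : Subgroup G}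
    (hR : R ≤ (S : Subgroup G)) {x : G} (hx : x ∈ Subgroup.normalizer (R : Set G)) {k : ℕ}
    (hk : x ^ 2 ^ k = 1) : x ∈ autSub E R := by
  haveI : Fact (Nat.Prime 2) := ⟨Nat.prime_two⟩
  refine ⟨hx, fun β hβ => ?_⟩
  refine pElement_mem_of_invariant 2 S.2 (groupFusion_saturated S) hEi hR ?_ ⟨k, ?_⟩
  · rw [autGroup_groupFusion hR]
    exact mem_autInducedBy.2 ⟨x, trivial, hβ⟩
  · have : β = conjAut ⊤ R ⟨x, trivial, hx⟩ := MulEquiv.ext fun y => Subtype.ext (hβ y)
    rw [this, ← map_pow]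
    have hx1 : (⟨x, trivial, hx⟩ : ↥((⊤ : Subgroup G) ⊓ Subgroup.normalizer (R : Set G))) ^ 2 ^ k = 1 :=
      Subtype.ext hk
    rw [hx1, map_one]

variable {F : Type*} [Field F] [Fintype F] (D : QData F) (hodd : Odd (Fintype.card F))
variable {G : Type*} [Group G] [Finite G] (ψ : Matrix.symplecticGroup (Fin 2) F →* G)

/-- The elementary abelian subgroup of order 16. -/
def aGen : Set G := {ψ (kOne D.i), ψ (kOne D.j), ψ (pairHom (1, negOne F)), ψ (wS F)}

/-- The elementary abelian subgroup of order 16. -/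
def aSub : Subgroup G := Subgroup.closure (aGen D ψ)

omit [Finite G] in
theorem aGen_mem {x : G} (h : x ∈ aGen D ψ) : x ∈ aSub D ψ := Subgroup.subset_closure h

variable (hker : ∀ x, ψ x = 1 ↔ (x : M4 F) = 1 ∨ (x : M4 F) = -1)
include hodd hker

omit [Finite G] in
theorem psi_negOne : ψ (pairHom (negOne F, negOne F)) = 1 :=
  (hker _).2 (Or.inr (negOne_pair hodd ψ hker))

omit [Finite G] in
theorem psi_pair_eq {u v : SL F × SL F} :
    ψ (pairHom u) = ψ (pairHom v) ↔ u = v ∨ u = (negOne F, negOne F) * v := by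
  rw [psi_eq ψ hker]
  constructor
  · rintro (h | h)
    · exact Or.inl (pairHom_injective (Subtype.ext h))
    · refine Or.inr (pairHom_injective (Subtype.ext ?_))
      rw [map_mul, Submonoid.coe_mul, negOne_pair hodd ψ hker, neg_one_mul, h]
  · rintro (rfl | rfl)
    · exact Or.inl rfl
    · refine Or.inr ?_
      rw [map_mul, Submonoid.coe_mul, negOne_pair hodd ψ hker, neg_one_mul]

omit [Finite G] in
theorem aGen_comm : ∀ a ∈ aGen D ψ, ∀ b ∈ aGen D ψ, a * b = b * a := by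
  have hij : ψ (kOne D.i) * ψ (kOne D.j) = ψ (kOne D.j) * ψ (kOne D.i) := by
    rw [← map_mul ψ (kOne D.j), ← map_mul kOne D.j, D.hji, map_mul kOne, map_mul kOne, map_mul ψ,
      kOne_eq (negOne F), psi_negOne hodd ψ hker, one_mul, map_mul]
  have hdd : ∀ a : SL F, ψ (kOne a) * ψ (pairHom (1, negOne F)) =
      ψ (pairHom (1, negOne F)) * ψ (kOne a) := fun a => by
    rw [← map_mul, ← map_mul, kOne_eq, ← map_mul, ← map_mul, Prod.mk_mul_mk, Prod.mk_mul_mk, mul_one, one_mul,
      negOne_comm]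
  have hw : ∀ a : SL F, ψ (kOne a) * ψ (wS F) = ψ (wS F) * ψ (kOne a) := fun a => by
    rw [← map_mul, ← map_mul, kOne_eq, wS_pair]
  have hdw : ψ (pairHom ((1 : SL F), negOne F)) * ψ (wS F) = ψ (wS F) * ψ (pairHom (1, negOne F)) := by
    rw [← map_mul ψ (wS F), wS_pair, map_mul]
    refine congrArg (· * ψ (wS F)) ((psi_pair_eq hodd ψ hker).2 (Or.inr ?_))
    rw [Prod.mk_mul_mk, mul_one, negOne_sq]
  intro a ha b hb
  rcases ha with rfl | rfl | rfl | rfl <;> rcases hb with rfl | rfl | rfl | rfl <;>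
    first
    | rfl
    | exact hij
    | exact hij.symm
    | exact hdd _
    | exact (hdd _).symm
    | exact hw _
    | exact (hw _).symm
    | exact hdw
    | exact hdw.symm

/-- The subgroup is its own centraliser. -/
theorem centralizer_aSub (hsurj : Function.Surjective ψ) {g : G}
    (hg : ∀ s ∈ aGen D ψ, g * s = s * g) : g ∈ aSub D ψ := by
  have hmul : ∀ {x a : G}, (∀ s ∈ aGen D ψ, x * s = s * x) → a ∈ aGen D ψ →
      ∀ s ∈ aGen D ψ, x * a * s = s * (x * a) := fun {x a} hx ha s hs => by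
    rw [mul_assoc, aGen_comm D hodd ψ hker a ha s hs, ← mul_assoc, hx s hs, mul_assoc]
  have hiA : ψ (kOne D.i) ∈ aGen D ψ := Or.inl rfl
  have hjA : ψ (kOne D.j) ∈ aGen D ψ := Or.inr (Or.inl rfl)
  have hzA : ψ (pairHom (1, negOne F)) ∈ aGen D ψ := Or.inr (Or.inr (Or.inl rfl))
  have hwA : ψ (wS F) ∈ aGen D ψ := Or.inr (Or.inr (Or.inr rfl))
  -- commuting with `i` and `j` exactly
  have s4 : ∀ a : SL F, a * D.i = D.i * a → a * D.j = D.j * a → ψ (kOne a) ∈ aSub D ψ := by
    intro a h1 h2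
    rcases scalar_of_commute D hodd a (congrArg Subtype.val h1) (congrArg Subtype.val h2) with rfl | rfl
    · rw [map_one, map_one]; exact one_mem _
    · rw [kOne_eq, psi_negOne hodd ψ hker]; exact one_mem _
  have hcases : ∀ {a c : SL F}, ψ (kOne a) * ψ (kOne c) = ψ (kOne c) * ψ (kOne a) →
      a * c = c * a ∨ a * c = negOne F * (c * a) := fun {a c} h => by
    rw [← map_mul, ← map_mul, ← map_mul, ← map_mul, kOne_eq, kOne_eq, psi_pair_eq hodd ψ hker] at h
    rcases h with h | h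
    · exact Or.inl (congrArg Prod.fst h)
    · exact Or.inr (congrArg Prod.fst h)
  have hij' : D.i * D.j = negOne F * (D.j * D.i) := by
    rw [D.hji, ← mul_assoc, negOne_sq, one_mul]
  have s3b : ∀ a : SL F, a * D.i = D.i * a → ψ (kOne a) * ψ (kOne D.j) = ψ (kOne D.j) * ψ (kOne a) →
      ψ (kOne a) ∈ aSub D ψ := by
    intro a h1 h2
    rcases hcases h2 with e | e
    · exact s4 a h1 e
    · have h := s4 (a * D.i) (by rw [h1, mul_assoc, h1]) (by
        rw [mul_assoc, hij', ← mul_assoc a, ← negOne_comm a, mul_assoc, ← mul_assoc a, e,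
          mul_assoc (negOne F), ← mul_assoc (negOne F), negOne_sq, one_mul, mul_assoc])
      rw [map_mul, map_mul] at h
      exact ((aSub D ψ).mul_mem_cancel_right (aGen_mem D ψ hiA)).1 h
  have s3a : ∀ a : SL F, (∀ s ∈ aGen D ψ, ψ (kOne a) * s = s * ψ (kOne a)) → ψ (kOne a) ∈ aSub D ψ := by
    intro a ha
    rcases hcases (ha _ hiA) with e | e
    · exact s3b a e (ha _ hjA)
    · have h2 := hmul ha hjA _ hjA
      rw [← map_mul ψ, ← map_mul kOne] at h2
      have h := s3b (a * D.j) (by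
        rw [mul_assoc, D.hji, ← mul_assoc a, ← negOne_comm a, mul_assoc, ← mul_assoc a, e,
          mul_assoc (negOne F), ← mul_assoc (negOne F), negOne_sq, one_mul, mul_assoc]) h2
      rw [map_mul, map_mul] at h
      exact ((aSub D ψ).mul_mem_cancel_right (aGen_mem D ψ hjA)).1 h
  have s2 : ∀ a b : SL F, (∀ s ∈ aGen D ψ, ψ (pairHom (a, b)) * s = s * ψ (pairHom (a, b))) →
      ψ (pairHom (a, b)) ∈ aSub D ψ := by
    intro a b h
    have h1 := h _ hwA
    rw [← map_mul ψ (wS F), wS_pair, map_mul] at h1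
    rcases (psi_pair_eq hodd ψ hker).1 (mul_right_cancel h1) with e | e
    · obtain rfl : a = b := congrArg Prod.fst e
      exact s3a a h
    · have e2 : a = negOne F * b := congrArg Prod.fst e
      subst e2
      have e3 : pairHom (negOne F * b, b) = kOne (negOne F * b) * pairHom (1, negOne F) := by
        rw [kOne_eq, ← map_mul, Prod.mk_mul_mk, mul_one, ← negOne_comm, ← mul_assoc, negOne_sq, one_mul]
      rw [e3, map_mul]
      refine mul_mem (s3a _ fun s hs => ?_) (aGen_mem D ψ hzA)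
      have h' := h s hs
      rw [e3, map_mul] at h'
      refine mul_right_cancel (b := ψ (pairHom (1, negOne F))) ?_
      rw [mul_assoc, aGen_comm D hodd ψ hker s hs _ hzA, ← mul_assoc, h', mul_assoc]
  have s1 : ∀ x : Matrix.symplecticGroup (Fin 2) F,
      (x : M4 F) * kron 1 (dM F) = kron 1 (dM F) * (x : M4 F) →
      (∀ s ∈ aGen D ψ, ψ x * s = s * ψ x) → ψ x ∈ aSub D ψ := by
    intro x hx h
    obtain ⟨p, q, hpq⟩ := exists_pair (two_ne hodd) hx
    obtain ⟨hp, hq⟩ := det_of_pair_mem (hpq ▸ x.2)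
    obtain rfl : x = pairHom ((⟨p, hp⟩ : SL F), (⟨q, hq⟩ : SL F)) := Subtype.ext hpq
    exact s2 _ _ h
  obtain ⟨x, rfl⟩ := hsurj g
  have h1 := hg _ hzA
  rw [← map_mul, ← map_mul, psi_eq ψ hker, Submonoid.coe_mul, Submonoid.coe_mul, pairHom_one_negOne] at h1
  rcases h1 with e | e
  · exact s1 x e hg
  · have h := s1 (x * wS F) (by
      rw [Submonoid.coe_mul, mul_assoc, wS_anticomm, mul_neg, ← mul_assoc, e, neg_mul, neg_neg, mul_assoc])
      (by rw [map_mul]; exact hmul hg hwA)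
    rw [map_mul] at h
    exact ((aSub D ψ).mul_mem_cancel_right (aGen_mem D ψ hwA)).1 h

variable {S : Sylow 2 G} (hS : (S : Subgroup G) = (S0 D).map ψ)
include hS

omit [Finite G] in
theorem aSub_le : aSub D ψ ≤ (S : Subgroup G) := by
  refine (Subgroup.closure_le _).2 ?_
  rintro x (rfl | rfl | rfl | rfl)
  · exact psi_mem D hodd ψ hker hS (pair_mem_S0 D D.hi D.hi)
  · exact psi_mem D hodd ψ hker hS (pair_mem_S0 D D.hj D.hj)
  · exact z_mem D hodd ψ hker hS
  · exact psi_mem D hodd ψ hker hS (wS_mem_S0 D)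

theorem aSub_centric (hsurj : Function.Surjective ψ) :
    (Cfsg.groupFusionSystem (S : Subgroup G)).IsCentric (aSub D ψ) := by
  refine ⟨aSub_le D hodd ψ hker hS, ?_⟩
  rintro Q ⟨φ, ⟨-, -, g, hg⟩, rfl⟩
  rintro u ⟨-, hu⟩
  have h : g⁻¹ * u * g ∈ aSub D ψ := by
    refine centralizer_aSub D hodd ψ hker hsurj fun s hs => ?_
    have h1 := Subgroup.mem_centralizer_iff.1 hu (g * s * g⁻¹)
      ⟨⟨s, aGen_mem D ψ hs⟩, hg _⟩
    calc g⁻¹ * u * g * s = g⁻¹ * (u * (g * s * g⁻¹)) * g := by group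
      _ = g⁻¹ * (g * s * g⁻¹ * u) * g := by rw [h1]
      _ = s * (g⁻¹ * u * g) := by group
  exact ⟨⟨_, h⟩, by rw [hg]; group⟩

/-- `(1 + u)(1 + c)/2` normalises the subgroup, for `u, v` the generators in either order. -/
theorem gEl_conj {u v : SL F} (huu : u * u = negOne F) (hvu : v * u = negOne F * (u * v))
    {x : Matrix.symplecticGroup (Fin 2) F}
    (hx : (x : M4 F) = kron ((2 : F)⁻¹ • (1 + (u : M2 F))) (1 + cM F)) :
    x * kOne u = kOne u * x ∧ x * kOne v = kOne (u * v) * x ∧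
      x * pairHom (1, negOne F) = wS F * x ∧
      x * wS F = pairHom (negOne F, negOne F) * pairHom (1, negOne F) * x := by
  have hu : (u : M2 F) * u = -1 := (congrArg SL2C.mt huu).trans mt_negOne
  have hv : (v : M2 F) * u = -((u : M2 F) * v) := by
    have h := congrArg SL2C.mt hvu
    rw [mt_mul, mt_mul, mt_negOne, mt_mul, neg_one_mul] at h
    exact h
  have hcd : dM F * cM F = -(cM F * dM F) := by rw [dM_mul_cM, cM_mul_dM]
  have hcs : sM F * cM F = -(cM F * sM F) := by rw [sM_mul_cM, cM_mul_sM, neg_neg]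
  refine ⟨?_, ?_, ?_, ?_⟩ <;> refine Subtype.ext ?_
  · simp only [Submonoid.coe_mul, hx, kOne_val, kron_mul, mul_one, one_mul]
    rw [smul_mul_assoc, mul_smul_comm, add_mul, mul_add, one_mul, mul_one]
  · simp only [Submonoid.coe_mul, hx, kOne_val, kron_mul, mul_one, one_mul]
    rw [smul_mul_assoc, mul_smul_comm, one_add_mul_anticomm hu hv]
    rfl
  · simp only [Submonoid.coe_mul, hx, pairHom_one_negOne]
    show _ = kron 1 (sM F) * _
    rw [kron_mul, kron_mul, mul_one, one_mul, one_add_mul_anticomm cM_sq hcd, cM_mul_dM]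
  · simp only [Submonoid.coe_mul, hx, pairHom_one_negOne, negOne_pair hodd ψ hker]
    show _ * kron 1 (sM F) = _
    rw [neg_one_mul, ← kron_neg_right, kron_mul, kron_mul, mul_one, one_mul,
      one_add_mul_anticomm cM_sq hcs, cM_mul_sM, neg_mul]

theorem gEl_autSub {u v : SL F} (huu : u * u = negOne F) (hvu : v * u = negOne F * (u * v))
    (hA : aSub D ψ = Subgroup.closure {ψ (kOne u), ψ (kOne v), ψ (pairHom (1, negOne F)), ψ (wS F)})
    {E : Cfsg.FusionSystem (S : Subgroup G)}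
    (hEi : E.IsInvariantIn (Cfsg.groupFusionSystem (S : Subgroup G)))
    {x : Matrix.symplecticGroup (Fin 2) F}
    (hx : (x : M4 F) = kron ((2 : F)⁻¹ • (1 + (u : M2 F))) (1 + cM F)) : ψ x ∈ autSub E (aSub D ψ) := by
  obtain ⟨c1, c2, c3, c4⟩ := gEl_conj D hodd ψ hker hS huu hvu hx
  refine two_element_mem_autSub hEi (aSub_le D hodd ψ hker hS) ?_ (k := 2) ?_
  · have hgen : ∀ y ∈ ({ψ (kOne u), ψ (kOne v), ψ (pairHom (1, negOne F)), ψ (wS F)} : Set G),
        ψ x * y * (ψ x)⁻¹ ∈ aSub D ψ := by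
      have hmem : ∀ y ∈ ({ψ (kOne u), ψ (kOne v), ψ (pairHom (1, negOne F)), ψ (wS F)} : Set G), y ∈ aSub D ψ :=
        fun y hy => hA ▸ Subgroup.subset_closure hy
      have hc : ∀ {a b : Matrix.symplecticGroup (Fin 2) F}, x * a = b * x → ψ x * ψ a * (ψ x)⁻¹ = ψ b :=
        fun {a b} h => by rw [← map_mul, h, map_mul, mul_inv_cancel_right]
      rintro y (rfl | rfl | rfl | rfl)
      · rw [hc c1]; exact hmem _ (Or.inl rfl)
      · rw [hc c2, map_mul, map_mul]
        exact mul_mem (hmem _ (Or.inl rfl)) (hmem _ (Or.inr (Or.inl rfl)))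
      · rw [hc c3]; exact hmem _ (Or.inr (Or.inr (Or.inr rfl)))
      · rw [hc c4, map_mul, psi_negOne hodd ψ hker, one_mul]
        exact hmem _ (Or.inr (Or.inr (Or.inl rfl)))
    have hle : (aSub D ψ).map (MulAut.conj (ψ x)).toMonoidHom ≤ aSub D ψ := by
      conv_lhs => rw [hA, MonoidHom.map_closure]
      rw [Subgroup.closure_le]
      rintro _ ⟨y, hy, rfl⟩
      exact hgen y hy
    have heq := Subgroup.eq_of_le_of_card_ge hle (by
      rw [Subgroup.card_map_of_injective (MulAut.conj (ψ x)).injective])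
    rw [Subgroup.mem_normalizer_iff]
    intro y
    constructor
    · exact fun hy => hle ⟨y, hy, rfl⟩
    · intro hy
      rw [← heq] at hy
      obtain ⟨y', hy', e⟩ := hy
      rwa [← (MulAut.conj (ψ x)).injective e]
  · rw [← map_pow, show (2 ^ 2 : ℕ) = 4 from rfl, (hker _).2 (Or.inl ?_)]
    rw [SubmonoidClass.coe_pow, hx]
    exact kron_gEl_sq (two_ne hodd) ((congrArg SL2C.mt huu).trans mt_negOne)

/-- `⟨i, j, t⟩` acts on the subgroup inside `E`. -/
theorem kOne_autSub {E : Cfsg.FusionSystem (S : Subgroup G)}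
    (hEi : E.IsInvariantIn (Cfsg.groupFusionSystem (S : Subgroup G))) {b : SL F}
    (hb : b ∈ Subgroup.closure ({D.i, D.j, tEl D hodd} : Set (SL F))) :
    ψ (kOne b) ∈ autSub E (aSub D ψ) := by
  haveI : Fact (Nat.Prime 2) := ⟨Nat.prime_two⟩
  have hA : ∀ y ∈ aGen D ψ, y ∈ autSub E (aSub D ψ) := by
    intro y hy
    obtain ⟨k, hk⟩ := S.2 ⟨y, aSub_le D hodd ψ hker hS (aGen_mem D ψ hy)⟩
    exact two_element_mem_autSub hEi (aSub_le D hodd ψ hker hS)
      (Subgroup.le_normalizer (aGen_mem D ψ hy)) (congrArg Subtype.val hk)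
  have ht : ∀ z : SL F, z * z = negOne F → (z : M2 F) 0 0 + (z : M2 F) 1 1 = 0 := fun z hz => by
    rw [← Matrix.trace_fin_two]; exact trace_zero_of_sq hodd hz
  let gi : Matrix.symplecticGroup (Fin 2) F :=
    ⟨_, gEl_mem (two_ne hodd) (u := (D.i : M2 F)) D.i.2 (ht _ (ii D))⟩
  let gj : Matrix.symplecticGroup (Fin 2) F :=
    ⟨_, gEl_mem (two_ne hodd) (u := (D.j : M2 F)) D.j.2 (ht _ D.hjj)⟩
  have hgi : ψ gi ∈ autSub E (aSub D ψ) :=
    gEl_autSub D hodd ψ hker hS (ii D) D.hji rfl hEi rfl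
  have hgj : ψ gj ∈ autSub E (aSub D ψ) := by
    refine gEl_autSub D hodd ψ hker hS D.hjj (v := D.i) ?_ ?_ hEi rfl
    · rw [D.hji, ← mul_assoc, negOne_sq, one_mul]
    · rw [aSub, aGen, Set.insert_comm]
  have ht6 : ψ (kOne (tEl D hodd)) * (ψ (pairHom (1, negOne F)) * ψ (wS F)) = ψ gi * ψ gj := by
    rw [← map_mul, ← map_mul, ← map_mul, eq_comm, psi_eq ψ hker]
    refine Or.inr ?_
    have e1 : ((1 : M2 F) + cM F) * (1 + cM F) = (2 : F) • cM F := by
      rw [add_mul, mul_add, mul_add, one_mul, one_mul, mul_one, cM_sq, two_smul]; abel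
    simp only [Submonoid.coe_mul, kOne_val, pairHom_one_negOne]
    show kron _ _ * kron _ _ = -(kron ((2 : F)⁻¹ • _) 1 * (kron 1 (dM F) * kron 1 (sM F)))
    rw [kron_mul, kron_mul, kron_mul, mul_one, mul_one, one_mul, dM_mul_sM, kron_neg_right, neg_neg, e1,
      smul_mul_smul_comm, kron_smul_left, kron_smul_right, smul_smul, kron_smul_left]
    congr 1
    have := two_ne hodd
    field_simp
  have h6 : ψ (kOne (tEl D hodd)) ∈ autSub E (aSub D ψ) := by
    rw [← mul_inv_eq_iff_eq_mul.2 ht6.symm]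
    exact mul_mem (mul_mem hgi hgj) (inv_mem (mul_mem (hA _ (Or.inr (Or.inr (Or.inl rfl))))
      (hA _ (Or.inr (Or.inr (Or.inr rfl))))))
  have hle : Subgroup.closure ({D.i, D.j, tEl D hodd} : Set (SL F)) ≤
      (autSub E (aSub D ψ)).comap (ψ.comp kOne) := by
    rw [Subgroup.closure_le]
    rintro z (rfl | rfl | rfl)
    exacts [hA _ (Or.inl rfl), hA _ (Or.inr (Or.inl rfl)), h6]
  exact hle hb

/-- An odd element normalising `S` acts inside `E`. -/
theorem odd_autSub (hsurj : Function.Surjective ψ) {E : Cfsg.FusionSystem (S : Subgroup G)}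
    (hE : E.IsSaturated 2) (hEi : E.IsInvariantIn (Cfsg.groupFusionSystem (S : Subgroup G))) {g : G}
    (hg : g ∈ Subgroup.normalizer ((S : Subgroup G) : Set G)) {M : ℕ} (hM : Odd M) (hgM : g ^ M = 1) :
    g ∈ autSub E (S : Subgroup G) := by
  haveI : Fact (Nat.Prime 2) := ⟨Nat.prime_two⟩
  -- an odd lift
  obtain ⟨x, rfl⟩ := hsurj g
  set h := x ^ (M + 1) with hh
  have hgh : ψ h = ψ x := by rw [hh, map_pow, pow_succ, hgM, one_mul]
  have hhM : h ^ M = 1 := by
    have h2 : x ^ (2 * M) = 1 := by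
      rcases (hker (x ^ M)).1 (by rw [map_pow, hgM]) with e | e
      · rw [mul_comm, pow_mul, show x ^ M = 1 from Subtype.ext e, one_pow]
      · rw [mul_comm, pow_mul]
        refine Subtype.ext ?_
        rw [SubmonoidClass.coe_pow, e, neg_one_sq]
        rfl
    obtain ⟨r, hr⟩ := hM
    rw [hh, ← pow_mul, show (M + 1) * M = 2 * M * (r + 1) by rw [hr]; ring, pow_mul, h2, one_pow]
  rw [← hgh] at hg ⊢
  clear_value h
  clear hh hgh hgM x
  have hnS : ∀ {y : Matrix.symplecticGroup (Fin 2) F}, y ∈ S0 D → h * y * h⁻¹ ∈ S0 D := fun {y} hy => by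
    rw [← mem_sylow_iff D hodd ψ hker hS, map_mul, map_mul, map_inv]
    exact (Subgroup.mem_normalizer_iff.1 hg _).1 (psi_mem D hodd ψ hker hS hy)
  -- it fixes the central involution exactly
  have hdd : kron (1 : M2 F) (dM F) * kron 1 (dM F) = 1 := by rw [kron_mul, dM_sq, one_mul, kron_one]
  have hd : (h : M4 F) * kron 1 (dM F) = kron 1 (dM F) * (h : M4 F) := by
    have hz1 : ψ h * ψ (pairHom (1, negOne F)) * (ψ h)⁻¹ = ψ (pairHom (1, negOne F)) := by
      have hzS := z_mem D hodd ψ hker hS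
      rcases central_cases D hodd ψ hker hS ((Subgroup.mem_normalizer_iff.1 hg _).1 hzS) (by
        intro u hu
        have hu' : (ψ h)⁻¹ * u * ψ h ∈ (S : Subgroup G) := (Subgroup.mem_normalizer_iff''.1 hg _).1 hu
        have hzc : ψ (pairHom (1, negOne F)) * ((ψ h)⁻¹ * u * ψ h) =
            ((ψ h)⁻¹ * u * ψ h) * ψ (pairHom (1, negOne F)) := by
          rw [hS] at hu'
          obtain ⟨_, ⟨p, hp, q, hq, rfl | rfl⟩, e⟩ := hu'
          · rw [← e, ← map_mul, ← map_mul, ← map_mul, ← map_mul, Prod.mk_mul_mk, Prod.mk_mul_mk, one_mul, mul_one,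
              negOne_comm]
          · rw [← e, map_mul, ← mul_assoc, mul_assoc _ (ψ (wS F)),
              aGen_comm D hodd ψ hker _ (Or.inr (Or.inr (Or.inr rfl))) _ (Or.inr (Or.inr (Or.inl rfl))),
              ← mul_assoc]
            congr 1
            rw [← map_mul, ← map_mul, ← map_mul, ← map_mul, Prod.mk_mul_mk, Prod.mk_mul_mk, one_mul, mul_one,
              negOne_comm]
        calc ψ h * ψ (pairHom (1, negOne F)) * (ψ h)⁻¹ * u
            = ψ h * (ψ (pairHom (1, negOne F)) * ((ψ h)⁻¹ * u * ψ h)) * (ψ h)⁻¹ := by group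
          _ = ψ h * (((ψ h)⁻¹ * u * ψ h) * ψ (pairHom (1, negOne F))) * (ψ h)⁻¹ := by rw [hzc]
          _ = u * (ψ h * ψ (pairHom (1, negOne F)) * (ψ h)⁻¹) := by group) with e | e
      · exfalso
        have e1 : ψ (pairHom ((1 : SL F), negOne F)) = ψ (pairHom 1) := by
          rw [map_one, map_one]
          exact mul_left_cancel ((mul_inv_eq_one.1 e).trans (mul_one _).symm)
        rcases (psi_pair_eq hodd ψ hker).1 e1 with e2 | e2
        · exact negOne_ne_one hodd (congrArg Prod.snd e2)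
        · exact negOne_ne_one hodd ((congrArg Prod.fst e2).trans (mul_one _)).symm
      · exact e
    rw [mul_inv_eq_iff_eq_mul, ← map_mul, ← map_mul, psi_eq ψ hker, Submonoid.coe_mul, Submonoid.coe_mul,
      pairHom_one_negOne] at hz1
    rcases hz1 with e | e
    · exact e
    · exfalso
      have h2k : ∀ k : ℕ, ((h ^ (2 * k) : Matrix.symplecticGroup (Fin 2) F) : M4 F) * kron 1 (dM F) =
          kron 1 (dM F) * ((h ^ (2 * k) : Matrix.symplecticGroup (Fin 2) F) : M4 F) := by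
        intro k
        induction k with
        | zero => simp
        | succ k ih =>
          rw [mul_add, mul_one, pow_add, Submonoid.coe_mul, mul_assoc, sq, Submonoid.coe_mul, mul_assoc _ _ (kron _ _),
            e, mul_neg, ← mul_assoc (h : M4 F) (kron _ _), e, neg_mul, neg_neg, mul_assoc (kron _ _),
            ← mul_assoc _ (kron _ _), ih, mul_assoc]
      obtain ⟨r, hr⟩ := hM
      rw [hr, pow_succ] at hhM
      have h3 := congrArg (fun y : Matrix.symplecticGroup (Fin 2) F => (y : M4 F) * kron 1 (dM F)) hhM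
      simp only [Submonoid.coe_mul, Submonoid.coe_one, one_mul] at h3
      rw [mul_assoc, e, mul_neg, ← mul_assoc, h2k, mul_assoc, ← Submonoid.coe_mul, hhM, Submonoid.coe_one,
        mul_one] at h3
      exact neg_ne_self (two_ne hodd) hdd h3.symm
  obtain ⟨p, q, hpq⟩ := exists_pair (two_ne hodd) hd
  obtain ⟨hp, hq⟩ := det_of_pair_mem (hpq ▸ h.2)
  obtain ⟨a, b, rfl⟩ : ∃ a b : SL F, h = pairHom (a, b) := ⟨⟨p, hp⟩, ⟨q, hq⟩, Subtype.ext hpq⟩
  have ha : Odd (orderOf a) := by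
    have h1 : (a, b) ^ M = 1 := pairHom_injective (by rw [map_pow, hhM, map_one])
    exact hM.of_dvd_nat (orderOf_dvd_of_pow_eq_one (congrArg Prod.fst h1))
  have han : ∀ x ∈ (D.P : Subgroup (SL F)), a * x * a⁻¹ ∈ (D.P : Subgroup (SL F)) := fun x hx => by
    have h1 := hnS (pair_mem_S0 D hx (one_mem _))
    rw [← map_inv, ← map_mul, ← map_mul] at h1
    exact (of_pair_mem_S0 D hodd h1).1
  have hu : b * a⁻¹ ∈ (D.P : Subgroup (SL F)) := by
    have h1 := mul_mem (hnS (wS_mem_S0 D)) (inv_mem (wS_mem_S0 D))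
    rw [mul_assoc _ _ (wS F)⁻¹, mul_assoc (pairHom (a, b)), ← mul_assoc (wS F), ← map_inv, wS_conj, ← map_mul] at h1
    exact (of_pair_mem_S0 D hodd h1).2
  have hh' : pairHom (a, b) = pairHom (1, b * a⁻¹) * kOne a := by
    rw [kOne_eq, ← map_mul, Prod.mk_mul_mk, one_mul, inv_mul_cancel_right]
  obtain ⟨c, hc, hac⟩ := exists_small_conj D hodd ha han
  have huS : ψ (pairHom (1, b * a⁻¹)) ∈ (S : Subgroup G) :=
    psi_mem D hodd ψ hker hS (pair_mem_S0 D (one_mem _) hu)
  -- `kOne c` acts like `kOne a`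
  have hsame : ∀ s ∈ (S : Subgroup G), ψ (kOne a) * s * (ψ (kOne a))⁻¹ = ψ (kOne c) * s * (ψ (kOne c))⁻¹ := by
    intro s hs
    rw [hS] at hs
    obtain ⟨_, ⟨p', hp', q', hq', rfl | rfl⟩, rfl⟩ := hs
    · simp only [← map_inv, ← map_mul]
      simp only [kOne_eq, ← map_inv, ← map_mul, Prod.inv_mk, Prod.mk_mul_mk, hac p' hp', hac q' hq']
    · have hw : ∀ z : SL F, wS F * kOne z = kOne z * wS F := fun z => by rw [kOne_eq, wS_pair]
      simp only [← map_inv, ← map_mul]
      simp only [← map_inv kOne, mul_assoc, hw]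
      simp only [← mul_assoc, kOne_eq, ← map_inv, ← map_mul, Prod.inv_mk, Prod.mk_mul_mk, hac p' hp',
        hac q' hq']
  have huN : ψ (pairHom (1, b * a⁻¹)) ∈ Subgroup.normalizer ((S : Subgroup G) : Set G) :=
    Subgroup.le_normalizer huS
  have haN : ψ (kOne a) ∈ Subgroup.normalizer ((S : Subgroup G) : Set G) := by
    rw [← (Subgroup.normalizer ((S : Subgroup G) : Set G)).mul_mem_cancel_left huN, ← map_mul, ← hh']
    exact hg
  rw [hh', map_mul]
  refine mul_mem ?_ ?_
  · obtain ⟨k, hk⟩ := S.2 ⟨_, huS⟩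
    exact two_element_mem_autSub hEi le_rfl huN (congrArg Subtype.val hk)
  refine ⟨haN, fun β hβ => ?_⟩
  refine (autGroup_carrier le_rfl).2 (mem_of_restrict_centric 2 S.2 (groupFusion_saturated S) hE hEi.1 ?_
    (aSub_le D hodd ψ hker hS) (aSub_centric D hodd ψ hker hS hsurj) ?_)
  · exact ⟨le_rfl, fun x => (β x).2, ψ (kOne a), hβ⟩
  · obtain ⟨hcN, hcE⟩ := kOne_autSub D hodd ψ hker hS hEi hc
    refine restrict_mem_of_eq ((autGroup_carrier (aSub_le D hodd ψ hker hS)).1
      (hcE (conjAut ⊤ _ ⟨ψ (kOne c), trivial, hcN⟩) fun x => rfl)) le_rfl fun x => ?_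
    refine (hβ _).trans ?_
    exact hsame _ (aSub_le D hodd ψ hker hS x.2)

/-- The fusion system is simple. -/
theorem isSimple_image (hsurj : Function.Surjective ψ) :
    (Cfsg.groupFusionSystem (S : Subgroup G)).IsSimple 2 := by
  haveI : Fact (Nat.Prime 2) := ⟨Nat.prime_two⟩
  have hS1 : (S : Subgroup G) ≠ ⊥ := fun h => by
    have h1 := z_mem D hodd ψ hker hS
    rw [h, Subgroup.mem_bot, hker, pairHom_one_negOne, kron_one_dM] at h1
    have hneg : ∀ {x y : M2 F}, pair x y = 1 ∨ pair x y = -1 → x = y := by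
      rintro x y (e | e)
      · rw [← pair_one] at e; exact (pair_injective e).1.trans (pair_injective e).2.symm
      · rw [← pair_one, ← pair_neg_neg] at e; exact (pair_injective e).1.trans (pair_injective e).2.symm
    have h2 := congrFun (congrFun (hneg h1) 0) 0
    simp at h2
    exact two_ne hodd (by linear_combination h2)
  refine isSimple_of 2 (groupFusion_saturated S) hS1
    (fun T hT => stronglyClosed_cases D hodd ψ hker hS hT) fun E hE hEi => ?_
  rw [autGroup_groupFusion le_rfl]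
  intro α hα
  obtain ⟨g, -, hgα⟩ := mem_autInducedBy.1 hα
  suffices hgS : g ∈ autSub E (S : Subgroup G) from hgS.2 α hgα
  have hgN : g ∈ Subgroup.normalizer ((S : Subgroup G) : Set G) := by
    rw [Subgroup.mem_normalizer_iff]
    intro x
    refine ⟨fun hx => hgα ⟨x, hx⟩ ▸ (α ⟨x, hx⟩).2, fun hx => ?_⟩
    have h := hgα (α.symm ⟨_, hx⟩)
    rw [MulEquiv.apply_symm_apply] at h
    rw [mul_left_cancel (mul_right_cancel h)]
    exact (α.symm ⟨_, hx⟩).2
  obtain ⟨r, m, hm, hgo⟩ := Nat.exists_eq_two_pow_mul_odd (orderOf_pos g).ne'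
  have hgm : g ^ m ∈ autSub E (S : Subgroup G) :=
    two_element_mem_autSub hEi le_rfl (pow_mem hgN m) (k := r) (by
      rw [← pow_mul, mul_comm, ← hgo, pow_orderOf_eq_one])
  have hgr : g ^ 2 ^ r ∈ autSub E (S : Subgroup G) :=
    odd_autSub D hodd ψ hker hS hsurj hE hEi (pow_mem hgN _) hm (by
      rw [← pow_mul, ← hgo, pow_orderOf_eq_one])
  obtain ⟨a, b, hab⟩ : ∃ a b : ℤ, (m : ℤ) * a + (2 ^ r : ℕ) * b = 1 := by
    obtain ⟨a, b, h⟩ := Int.isCoprime_iff_gcd_eq_one.2 (show Int.gcd (m : ℤ) ((2 ^ r : ℕ) : ℤ) = 1 by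
      rw [Int.gcd_natCast_natCast]
      exact Nat.Coprime.pow_right r hm.coprime_two_right)
    exact ⟨a, b, by rw [mul_comm _ a, mul_comm _ b]; exact h⟩
  rw [← _root_.zpow_one g, ← hab, _root_.zpow_add, _root_.zpow_mul, _root_.zpow_mul, _root_.zpow_natCast,
    _root_.zpow_natCast]
  exact mul_mem (zpow_mem hgm a) (zpow_mem hgr b)

end CfsgLib.SpFour
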