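import Cfsg.Agent.Classical.QuaternionData
import Cfsg.Agent.Classical.SymplecticBasic
import Cfsg.Agent.Invol.FusionSystemSimple
import Cfsg.Agent.Solvable.PGroupBasic

/-!
The 2-fusion system of `PSp₄(q)`, `q` odd, is simple.
-/

set_option autoImplicit false
set_option linter.style.haveILetI false

namespace CfsgLib.SpFour

open Matrix CfsgLib.SL2C CfsgLib.Linear.FourGroups CfsgLib.Fusion

variable {F : Type*} [Field F]

/-- `SL₂ × SL₂ → Sp₄`. -/
def pairHom : SL F × SL F →* Matrix.symplecticGroup (Fin 2) F where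
  toFun x := ⟨pair x.1 x.2, pair_mem x.1.2 x.2.2⟩
  map_one' := Subtype.ext pair_one
  map_mul' x y := Subtype.ext (pair_mul (x.1 : M2 F) (x.2 : M2 F) (y.1 : M2 F) (y.2 : M2 F)).symm

theorem pairHom_val (x : SL F × SL F) : (pairHom x : M4 F) = pair (x.1 : M2 F) (x.2 : M2 F) := rfl

theorem pairHom_injective : Function.Injective (pairHom (F := F)) := fun x y h =>
  Prod.ext (Subtype.ext (pair_injective (congrArg Subtype.val h)).1)
    (Subtype.ext (pair_injective (congrArg Subtype.val h)).2)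

/-- The diagonal embedding. -/
def kOne : SL F →* Matrix.symplecticGroup (Fin 2) F := pairHom.comp ((MonoidHom.id _).prod (MonoidHom.id _))

theorem kOne_eq (a : SL F) : kOne a = pairHom (a, a) := rfl

theorem kOne_val (a : SL F) : (kOne a : M4 F) = kron (a : M2 F) 1 := (kron_one_right _).symm

/-- The swap of the two summands. -/
def wS (F : Type*) [Field F] : Matrix.symplecticGroup (Fin 2) F :=
  ⟨kron 1 (sM F), kron_mem sM_transpose (by simp)⟩

theorem wS_sq : wS F * wS F = 1 := Subtype.ext (by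
  show kron 1 (sM F) * kron 1 (sM F) = 1
  rw [kron_mul, sM_sq, one_mul, kron_one])

theorem wS_pair (x y : SL F) : wS F * pairHom (x, y) = pairHom (y, x) * wS F :=
  Subtype.ext (swap_mul_pair _ _)

theorem wS_conj (x y : SL F) : wS F * pairHom (x, y) * (wS F)⁻¹ = pairHom (y, x) := by
  rw [wS_pair, mul_inv_cancel_right]

theorem tEl_ring {R : Type*} [Ring R] {a b : R} (ha : a * a = -1) (hb : b * b = -1) (hba : b * a = -(a * b)) :
    (1 + a) * (1 + b) * a = b * ((1 + a) * (1 + b)) ∧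
      (1 + a) * (1 + b) * b = a * b * ((1 + a) * (1 + b)) := by
  have ha' : ∀ x, a * (a * x) = -x := fun x => by rw [← mul_assoc, ha, neg_one_mul]
  have hb' : ∀ x, b * (b * x) = -x := fun x => by rw [← mul_assoc, hb, neg_one_mul]
  have hba' : ∀ x, b * (a * x) = -(a * (b * x)) := fun x => by rw [← mul_assoc, hba, neg_mul, mul_assoc]
  constructor <;>
    simp only [add_mul, mul_add, one_mul, mul_one, mul_assoc, ha, hb, hba, ha', hb', hba', mul_neg, neg_mul,
      neg_neg] <;> abel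

variable [Fintype F]

theorem pairHom_one_negOne : (pairHom ((1 : SL F), negOne F) : M4 F) = kron 1 (dM F) := by
  rw [pairHom_val, kron_one_dM]
  congr 1
  exact mt_negOne

omit [Fintype F] in
theorem wS_anticomm : (wS F : M4 F) * kron 1 (dM F) = -(kron 1 (dM F) * (wS F : M4 F)) := by
  show kron 1 (sM F) * kron 1 (dM F) = -(kron 1 (dM F) * kron 1 (sM F))
  rw [kron_mul, kron_mul, sM_mul_dM, dM_mul_sM, kron_neg_right, neg_neg]

omit [Fintype F] in
theorem neg_ne_self (h2 : (2 : F) ≠ 0) {x : M4 F} {y : M4 F} (hy : x * y = 1) : x ≠ -x := by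
  intro h
  have h1 := congrFun (congrFun (congrArg (fun z => z * y) h) (Sum.inl 0)) (Sum.inl 0)
  simp only [neg_mul, hy, Matrix.neg_apply, Matrix.one_apply_eq] at h1
  exact h2 (by linear_combination h1)

variable (D : QData F)

/-- The Sylow 2-subgroup `(P × P).2` of `Sp₄`. -/
def S0 : Subgroup (Matrix.symplecticGroup (Fin 2) F) where
  carrier := {x | ∃ p ∈ (D.P : Subgroup (SL F)), ∃ q ∈ (D.P : Subgroup (SL F)),
    x = pairHom (p, q) ∨ x = pairHom (p, q) * wS F}
  one_mem' := ⟨1, one_mem _, 1, one_mem _, Or.inl (map_one pairHom).symm⟩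
  mul_mem' := by
    rintro x y ⟨p, hp, q, hq, hx⟩ ⟨p', hp', q', hq', hy⟩
    rcases hx with rfl | rfl <;> rcases hy with rfl | rfl
    · exact ⟨_, mul_mem hp hp', _, mul_mem hq hq', Or.inl (map_mul pairHom (p, q) (p', q')).symm⟩
    · exact ⟨_, mul_mem hp hp', _, mul_mem hq hq', Or.inr (by
        rw [← mul_assoc, ← map_mul]; rfl)⟩
    · exact ⟨_, mul_mem hp hq', _, mul_mem hq hp', Or.inr (by
        rw [mul_assoc, wS_pair, ← mul_assoc, ← map_mul]; rfl)⟩
    · exact ⟨_, mul_mem hp hq', _, mul_mem hq hp', Or.inl (by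
        rw [mul_assoc, ← mul_assoc (wS F), wS_pair, mul_assoc, wS_sq, mul_one, ← map_mul]; rfl)⟩
  inv_mem' := by
    rintro x ⟨p, hp, q, hq, rfl | rfl⟩
    · exact ⟨_, inv_mem hp, _, inv_mem hq, Or.inl (by rw [← map_inv]; rfl)⟩
    · refine ⟨_, inv_mem hq, _, inv_mem hp, Or.inr ?_⟩
      rw [_root_.mul_inv_rev, ← map_inv, Prod.inv_mk, inv_eq_of_mul_eq_one_right (wS_sq (F := F)), wS_pair]

theorem pair_mem_S0 {p q : SL F} (hp : p ∈ (D.P : Subgroup (SL F))) (hq : q ∈ (D.P : Subgroup (SL F))) :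
    pairHom (p, q) ∈ S0 D := ⟨p, hp, q, hq, Or.inl rfl⟩

theorem wS_mem_S0 : wS F ∈ S0 D := ⟨1, one_mem _, 1, one_mem _, Or.inr (by
  rw [show ((1 : SL F), (1 : SL F)) = 1 from rfl, map_one, one_mul])⟩

theorem negOne_mem : negOne F ∈ (D.P : Subgroup (SL F)) := D.hjj ▸ mul_mem D.hj D.hj

variable (hodd : Odd (Fintype.card F))
include hodd

omit D in
theorem two_ne : (2 : F) ≠ 0 := two_ne_zero_of_odd hodd

omit D in
theorem wS_ne_pair (x : SL F × SL F) : wS F ≠ pairHom x := by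
  intro h
  have h1 : (pairHom x : M4 F) * kron 1 (dM F) = kron 1 (dM F) * (pairHom x : M4 F) := by
    rw [pairHom_val, kron_one_dM, pair_mul, pair_mul]
    simp
  rw [← h, wS_anticomm, neg_eq_iff_eq_neg] at h1
  refine neg_ne_self (two_ne hodd) (x := kron 1 (dM F) * (wS F : M4 F))
    (y := kron 1 (sM F) * kron 1 (dM F)) ?_ h1
  show kron 1 (dM F) * kron 1 (sM F) * _ = 1
  rw [mul_assoc, ← mul_assoc (kron 1 (sM F)), kron_mul 1 (sM F) 1 (sM F), sM_sq, one_mul, kron_one, one_mul,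
    kron_mul, dM_sq, one_mul, kron_one]

theorem of_pair_mem_S0 {p q : SL F} (h : pairHom (p, q) ∈ S0 D) :
    p ∈ (D.P : Subgroup (SL F)) ∧ q ∈ (D.P : Subgroup (SL F)) := by
  obtain ⟨p', hp, q', hq, e | e⟩ := h
  · obtain ⟨rfl, rfl⟩ := Prod.mk.inj (pairHom_injective e)
    exact ⟨hp, hq⟩
  · exact absurd (show wS F = pairHom ((p', q')⁻¹ * (p, q)) by rw [map_mul, map_inv, e, inv_mul_cancel_left])
      (wS_ne_pair hodd _)

theorem card_S0 : Nat.card (S0 D) = 2 * (Nat.card (D.P : Subgroup (SL F)) * Nat.card (D.P : Subgroup (SL F))) := by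
  let f : (↥(D.P : Subgroup (SL F)) × ↥(D.P : Subgroup (SL F))) ⊕
      (↥(D.P : Subgroup (SL F)) × ↥(D.P : Subgroup (SL F))) → S0 D :=
    Sum.elim (fun x => ⟨pairHom ((x.1 : SL F), (x.2 : SL F)), pair_mem_S0 D x.1.2 x.2.2⟩)
      fun x => ⟨pairHom ((x.1 : SL F), (x.2 : SL F)) * wS F, mul_mem (pair_mem_S0 D x.1.2 x.2.2) (wS_mem_S0 D)⟩
  have hf : Function.Bijective f := by
    constructor
    · have key : ∀ x y : SL F × SL F, pairHom x ≠ pairHom y * wS F := fun x y h =>
        wS_ne_pair hodd (y⁻¹ * x) (by rw [map_mul, map_inv, h, inv_mul_cancel_left])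
      rintro (x | x) (y | y) h <;> have h' := congrArg Subtype.val h <;>
        simp only [f, Sum.elim_inl, Sum.elim_inr] at h'
      · obtain ⟨h1, h2⟩ := Prod.mk.inj (pairHom_injective h')
        exact congrArg _ (Prod.ext (Subtype.ext h1) (Subtype.ext h2))
      · exact absurd h' (key _ _)
      · exact absurd h'.symm (key _ _)
      · obtain ⟨h1, h2⟩ := Prod.mk.inj (pairHom_injective (mul_right_cancel h'))
        exact congrArg _ (Prod.ext (Subtype.ext h1) (Subtype.ext h2))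
    · rintro ⟨x, p, hp, q, hq, rfl | rfl⟩
      · exact ⟨Sum.inl (⟨p, hp⟩, ⟨q, hq⟩), rfl⟩
      · exact ⟨Sum.inr (⟨p, hp⟩, ⟨q, hq⟩), rfl⟩
  rw [← Nat.card_eq_of_bijective f hf, Nat.card_sum, Nat.card_prod, two_mul]

/-! ### Elements of square `-1` -/

omit hodd in
theorem inv_sq {x : SL F} (hx : x * x = negOne F) : x⁻¹ * x⁻¹ = negOne F := by
  rw [← _root_.mul_inv_rev, hx, inv_eq_of_mul_eq_one_right negOne_sq]

omit hodd in
theorem ii : D.i * D.i = negOne F := by
  refine mt_injective ?_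
  rw [mt_mul, mt_negOne]
  show (D.i : M2 F) * (D.i : M2 F) = -1
  rw [D.hstd, cM_sq]

omit hodd in
theorem kk : D.i * D.j * (D.i * D.j) = negOne F := by
  calc D.i * D.j * (D.i * D.j) = D.i * (D.j * D.i) * D.j := by simp only [mul_assoc]
    _ = negOne F * (D.i * D.i * (D.j * D.j)) := by
      rw [D.hji, ← mul_assoc D.i, ← negOne_comm]; simp only [mul_assoc]
    _ = negOne F := by rw [ii, D.hjj, negOne_sq, mul_one]

/-- Equal up to sign. -/
def Pm (x y : SL F) : Prop := y = x ∨ y = negOne F * x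

omit hodd in
theorem Pm.symm {x y : SL F} (h : Pm x y) : Pm y x := by
  rcases h with rfl | rfl
  · exact Or.inl rfl
  · exact Or.inr (by rw [← mul_assoc, negOne_sq, one_mul])

omit hodd in
theorem Pm.trans {x y z : SL F} (h : Pm x y) (h' : Pm y z) : Pm x z := by
  rcases h with rfl | rfl <;> rcases h' with rfl | rfl
  · exact Or.inl rfl
  · exact Or.inr rfl
  · exact Or.inr rfl
  · exact Or.inl (by rw [← mul_assoc, negOne_sq, one_mul])

omit hodd in
theorem Pm.conj (a : SL F) {x y : SL F} (h : Pm x y) : Pm (a * x * a⁻¹) (a * y * a⁻¹) := by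
  rcases h with rfl | rfl
  · exact Or.inl rfl
  · exact Or.inr (by rw [← mul_assoc a, ← negOne_comm]; simp only [mul_assoc])

omit hodd in
theorem Pm.mul {x y x' y' : SL F} (h : Pm x x') (h' : Pm y y') : Pm (x * y) (x' * y') := by
  rcases h with rfl | rfl <;> rcases h' with rfl | rfl
  · exact Or.inl rfl
  · exact Or.inr (by rw [← mul_assoc x', ← negOne_comm, mul_assoc])
  · exact Or.inr (by rw [mul_assoc])
  · exact Or.inl (by
      rw [mul_assoc (negOne F), ← mul_assoc x, ← negOne_comm, mul_assoc (negOne F) x, ← mul_assoc, negOne_sq,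
        one_mul])

theorem not_pm_ij : ¬ Pm D.i D.j ∧ ¬ Pm D.i (D.i * D.j) ∧ ¬ Pm D.j (D.i * D.j) := by
  have hi1 : D.i ≠ 1 ∧ D.i ≠ negOne F := by
    have key : ∀ z : M2 F, z 0 1 = 0 → (D.i : M2 F) ≠ z := fun z hz h => by
      rw [D.hstd] at h
      have := congrFun (congrFun h 0) 1
      rw [hz] at this
      simp [cM] at this
    exact ⟨fun h => key 1 (by simp) (congrArg Subtype.val h),
      fun h => key (-1) (by simp) ((congrArg Subtype.val h).trans mt_negOne)⟩
  have hn1 : negOne F ≠ 1 := negOne_ne_one hodd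
  refine ⟨?_, ?_, ?_⟩
  · intro h
    have h1 := D.hji
    rcases h with e | e <;> rw [e] at h1
    · rw [ii, negOne_sq] at h1; exact hn1 h1
    · rw [mul_assoc, ii, negOne_sq, ← mul_assoc D.i, ← negOne_comm, mul_assoc, ii, negOne_sq, mul_one] at h1
      exact hn1 h1.symm
  · intro h
    rcases h with e | e
    · have : D.j = 1 := mul_eq_left.1 e
      have h1 := D.hjj
      rw [this, one_mul] at h1
      exact hn1 h1.symm
    · have : D.j = negOne F := mul_left_cancel (e.trans (negOne_comm D.i))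
      have h1 := D.hjj
      rw [this, negOne_sq] at h1
      exact hn1 h1.symm
  · intro h
    rcases h with e | e
    · exact hi1.1 (mul_eq_right.1 e)
    · exact hi1.2 (mul_right_cancel e)

omit hodd in
theorem odd_swap {a x y : SL F} (ha : Odd (orderOf a)) (h1 : Pm y (a * x * a⁻¹)) (h2 : Pm x (a * y * a⁻¹)) :
    Pm y x := by
  have hstep : Pm x (a ^ 2 * x * (a ^ 2)⁻¹) := by
    have h := h2.trans (h1.conj a)
    rwa [show a * (a * x * a⁻¹) * a⁻¹ = a ^ 2 * x * (a ^ 2)⁻¹ by rw [sq]; group] at h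
  have hn : ∀ n : ℕ, Pm x ((a ^ 2) ^ n * x * ((a ^ 2) ^ n)⁻¹) := by
    intro n
    induction n with
    | zero => exact Or.inl (by simp)
    | succ n ih =>
      have h := hstep.trans (ih.conj (a ^ 2))
      rwa [show a ^ 2 * ((a ^ 2) ^ n * x * ((a ^ 2) ^ n)⁻¹) * (a ^ 2)⁻¹ =
        (a ^ 2) ^ (n + 1) * x * ((a ^ 2) ^ (n + 1))⁻¹ by rw [pow_succ' (a ^ 2)]; group] at h
  obtain ⟨r, hr⟩ := ha
  have h := hn (r + 1)
  rw [← pow_mul, show 2 * (r + 1) = orderOf a + 1 by omega, pow_succ, pow_orderOf_eq_one, one_mul] at h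
  exact h1.trans h.symm

theorem scalar_of_commute (r : SL F) (h1 : (r : M2 F) * (D.i : M2 F) = (D.i : M2 F) * (r : M2 F))
    (h2 : (r : M2 F) * (D.j : M2 F) = (D.j : M2 F) * (r : M2 F)) : r = 1 ∨ r = negOne F := by
  have h2ne := two_ne hodd
  have hz : ∀ a : F, (2 : F) * a = 0 → a = 0 := fun a ha => (mul_eq_zero.1 ha).resolve_left h2ne
  have hji : (D.j : M2 F) * (D.i : M2 F) = -((D.i : M2 F) * (D.j : M2 F)) := by
    have h := congrArg SL2C.mt D.hji
    rw [mt_mul, mt_mul, mt_negOne, mt_mul, neg_one_mul] at h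
    exact h
  have hd : (D.j : M2 F).det = 1 := D.j.2
  have hr : (r : M2 F).det = 1 := r.2
  rw [D.hstd] at h1 hji
  rw [Matrix.det_fin_two] at hd hr
  have a1 := congrFun (congrFun h1 0) 0
  have a2 := congrFun (congrFun h1 0) 1
  have b1 := congrFun (congrFun hji 0) 0
  have b2 := congrFun (congrFun hji 0) 1
  have c1 := congrFun (congrFun h2 0) 0
  have c2 := congrFun (congrFun h2 0) 1
  simp [cM, Matrix.mul_apply, Fin.sum_univ_two, Matrix.vecMul, dotProduct] at a1 a2 b1 b2 c1 c2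
  set α := (r : M2 F) 0 0
  set β := (r : M2 F) 1 0
  set x := (D.j : M2 F) 0 0
  set y := (D.j : M2 F) 0 1
  set y' := (D.j : M2 F) 1 0
  set w := (D.j : M2 F) 1 1
  set r01 := (r : M2 F) 0 1
  set r11 := (r : M2 F) 1 1
  have e1 : r01 = -β := by linear_combination a1
  have e2 : r11 = α := a2.symm
  have e3 : y' = y := by linear_combination -b1
  have e4 : w = -x := by linear_combination -b2
  have hy : β * y = 0 := hz _ (by
    rw [e1, e3] at c1
    linear_combination -c1)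
  have hx : β * x = 0 := hz _ (by
    rw [e1, e2, e4] at c2
    linear_combination c2)
  rw [e3, e4] at hd
  have hβ : β = 0 := by linear_combination (-β) * hd + (-x) * hx + (-y) * hy
  rw [e1, e2, hβ] at hr
  have hα : (α - 1) * (α + 1) = 0 := by linear_combination hr
  rcases mul_eq_zero.1 hα with h | h
  · refine Or.inl (Subtype.ext ?_)
    have hα1 : α = 1 := sub_eq_zero.1 h
    ext a b; fin_cases a <;> fin_cases b <;> simp
    exacts [hα1, by rw [show r.1 0 1 = r01 from rfl, e1, hβ, neg_zero], hβ, e2.trans hα1]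
  · refine Or.inr (mt_injective ?_)
    rw [mt_negOne]
    have hα1 : α = -1 := eq_neg_of_add_eq_zero_left h
    ext a b; fin_cases a <;> fin_cases b <;> simp
    exacts [hα1, by rw [show SL2C.mt r 0 1 = r01 from rfl, e1, hβ, neg_zero], hβ, e2.trans hα1]

/-! ### The element of order six -/

/-- `(1 + i)(1 + j)/2`. -/
noncomputable def tEl : SL F :=
  ⟨(2 : F)⁻¹ • ((1 + (D.i : M2 F)) * (1 + (D.j : M2 F))), by
    have ht : ∀ x : SL F, x * x = negOne F → (x : M2 F) 0 0 + (x : M2 F) 1 1 = 0 := fun x hx => by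
      rw [← Matrix.trace_fin_two]; exact trace_zero_of_sq hodd hx
    rw [Matrix.det_smul, Matrix.det_mul, det_one_add D.i.2 (ht _ (ii D)), det_one_add D.j.2 (ht _ D.hjj),
      Fintype.card_fin]
    have := two_ne hodd
    field_simp⟩

theorem tEl_conj : tEl D hodd * D.i * (tEl D hodd)⁻¹ = D.j ∧
    tEl D hodd * D.j * (tEl D hodd)⁻¹ = D.i * D.j := by
  have hI : (D.i : M2 F) * D.i = -1 := (congrArg SL2C.mt (ii D)).trans mt_negOne
  have hJ : (D.j : M2 F) * D.j = -1 := (congrArg SL2C.mt D.hjj).trans mt_negOne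
  have hJI : (D.j : M2 F) * D.i = -((D.i : M2 F) * D.j) := by
    have h := congrArg SL2C.mt D.hji
    rw [mt_mul, mt_mul, mt_negOne, mt_mul, neg_one_mul] at h
    exact h
  constructor <;> rw [mul_inv_eq_iff_eq_mul] <;> refine Subtype.ext ?_
  · show ((2 : F)⁻¹ • ((1 + (D.i : M2 F)) * (1 + (D.j : M2 F)))) * (D.i : M2 F) =
      (D.j : M2 F) * ((2 : F)⁻¹ • ((1 + (D.i : M2 F)) * (1 + (D.j : M2 F))))
    rw [smul_mul_assoc, mul_smul_comm, (tEl_ring hI hJ hJI).1]
  · show ((2 : F)⁻¹ • ((1 + (D.i : M2 F)) * (1 + (D.j : M2 F)))) * (D.j : M2 F) =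
      (D.i : M2 F) * (D.j : M2 F) * ((2 : F)⁻¹ • ((1 + (D.i : M2 F)) * (1 + (D.j : M2 F))))
    rw [smul_mul_assoc, mul_smul_comm, (tEl_ring hI hJ hJI).2]

end CfsgLib.SpFour
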