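import Mathlib

/-!
`Sp₄` through the tensor decomposition `F² ⊗ F²` (symplectic ⊗ orthogonal).
-/

set_option autoImplicit false

namespace CfsgLib.SpFour

open Matrix

variable {F : Type*} [Field F]

/-- Two by two matrices. -/
abbrev M2 (F : Type*) := Matrix (Fin 2) (Fin 2) F

/-- Four by four matrices in the indexing of `Matrix.J`. -/
abbrev M4 (F : Type*) := Matrix (Fin 2 ⊕ Fin 2) (Fin 2 ⊕ Fin 2) F

/-- Kronecker product: `U` on the symplectic coordinate, `V` on the orthogonal one. -/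
def kron (U V : M2 F) : M4 F := Matrix.fromBlocks (U 0 0 • V) (U 0 1 • V) (U 1 0 • V) (U 1 1 • V)

/-- The standard matrix of square `-1`. -/
def cM (F : Type*) [Field F] : M2 F := !![0, -1; 1, 0]

/-- A diagonal reflection. -/
def dM (F : Type*) [Field F] : M2 F := !![1, 0; 0, -1]

/-- The swap. -/
def sM (F : Type*) [Field F] : M2 F := !![0, 1; 1, 0]

/-- The first idempotent. -/
def e1 (F : Type*) [Field F] : M2 F := !![1, 0; 0, 0]

/-- The second idempotent. -/
def e2 (F : Type*) [Field F] : M2 F := !![0, 0; 0, 1]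

theorem kron_mul (U V U' V' : M2 F) : kron U V * kron U' V' = kron (U * U') (V * V') := by
  simp only [kron, fromBlocks_multiply, Matrix.mul_apply, Fin.sum_univ_two, Matrix.smul_mul,
    Matrix.mul_smul, smul_smul, add_smul]
  congr 1 <;> simp only [mul_comm]

theorem kron_one : kron (1 : M2 F) 1 = 1 := by simp [kron, fromBlocks_one]

theorem kron_transpose (U V : M2 F) : (kron U V)ᵀ = kron Uᵀ Vᵀ := by
  simp [kron, fromBlocks_transpose]

theorem kron_add_left (U U' V : M2 F) : kron (U + U') V = kron U V + kron U' V := by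
  simp [kron, fromBlocks_add, add_smul]

theorem kron_add_right (U V V' : M2 F) : kron U (V + V') = kron U V + kron U V' := by
  simp [kron, fromBlocks_add, smul_add]

theorem kron_smul_left (a : F) (U V : M2 F) : kron (a • U) V = a • kron U V := by
  simp [kron, fromBlocks_smul, smul_smul]

theorem kron_smul_right (a : F) (U V : M2 F) : kron U (a • V) = a • kron U V := by
  simp [kron, fromBlocks_smul, smul_smul, mul_comm]

theorem kron_neg_left (U V : M2 F) : kron (-U) V = -kron U V := by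
  rw [← neg_one_smul F U, kron_smul_left, neg_one_smul]

theorem kron_neg_right (U V : M2 F) : kron U (-V) = -kron U V := by
  rw [← neg_one_smul F V, kron_smul_right, neg_one_smul]

theorem kron_zero_right (U : M2 F) : kron U 0 = 0 := by simp [kron, fromBlocks_zero]

theorem J_eq : Matrix.J (Fin 2) F = kron (cM F) 1 := by simp [Matrix.J, kron, cM]

theorem transpose_cM_mul (U : M2 F) : Uᵀ * cM F * U = U.det • cM F := by
  ext i j
  fin_cases i <;> fin_cases j <;> simp [cM, Matrix.mul_apply, Fin.sum_univ_two, Matrix.det_fin_two] <;> ring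

theorem kron_mem {U V : M2 F} {μ : F} (hV : Vᵀ * V = μ • 1) (h : U.det * μ = 1) :
    kron U V ∈ Matrix.symplecticGroup (Fin 2) F := by
  rw [SymplecticGroup.mem_iff', J_eq, kron_transpose, kron_mul, kron_mul, transpose_cM_mul, mul_one, hV,
    kron_smul_left, kron_smul_right, smul_smul, h, one_smul]

theorem cM_sq : cM F * cM F = -1 := by
  ext i j; fin_cases i <;> fin_cases j <;> simp [cM]

theorem dM_sq : dM F * dM F = 1 := by
  ext i j; fin_cases i <;> fin_cases j <;> simp [dM]

theorem sM_sq : sM F * sM F = 1 := by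
  ext i j; fin_cases i <;> fin_cases j <;> simp [sM]

theorem dM_mul_sM : dM F * sM F = -cM F := by
  ext i j; fin_cases i <;> fin_cases j <;> simp [cM, dM, sM]

theorem cM_mul_dM : cM F * dM F = sM F := by
  ext i j; fin_cases i <;> fin_cases j <;> simp [cM, dM, sM]

theorem cM_mul_sM : cM F * sM F = -dM F := by
  ext i j; fin_cases i <;> fin_cases j <;> simp [cM, dM, sM]

theorem dM_mul_cM : dM F * cM F = -sM F := by
  ext i j; fin_cases i <;> fin_cases j <;> simp [cM, dM, sM]

theorem sM_mul_cM : sM F * cM F = dM F := by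
  ext i j; fin_cases i <;> fin_cases j <;> simp [cM, dM, sM]

theorem sM_mul_dM : sM F * dM F = cM F := by
  ext i j; fin_cases i <;> fin_cases j <;> simp [cM, dM, sM]

theorem dM_transpose : (dM F)ᵀ * dM F = (1 : F) • 1 := by
  ext i j; fin_cases i <;> fin_cases j <;> norm_num [dM, Matrix.mul_apply, Fin.sum_univ_two]

theorem sM_transpose : (sM F)ᵀ * sM F = (1 : F) • 1 := by
  ext i j; fin_cases i <;> fin_cases j <;> norm_num [sM, Matrix.mul_apply, Fin.sum_univ_two]

theorem cM_transpose : (cM F)ᵀ * cM F = (1 : F) • 1 := by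
  ext i j; fin_cases i <;> fin_cases j <;> norm_num [cM, Matrix.mul_apply, Fin.sum_univ_two]

/-- `p ⊕ q`. -/
def pair (p q : M2 F) : M4 F := kron p (e1 F) + kron q (e2 F)

theorem e_rules : e1 F * e1 F = e1 F ∧ e2 F * e2 F = e2 F ∧ e1 F * e2 F = 0 ∧ e2 F * e1 F = 0 ∧
    e1 F + e2 F = 1 ∧ e1 F - e2 F = dM F ∧ (e1 F)ᵀ = e1 F ∧ (e2 F)ᵀ = e2 F ∧
    sM F * e1 F = e2 F * sM F ∧ sM F * e2 F = e1 F * sM F := by
  refine ⟨?_, ?_, ?_, ?_, ?_, ?_, ?_, ?_, ?_, ?_⟩ <;>
    (ext i j; fin_cases i <;> fin_cases j <;> simp [e1, e2, dM, sM])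

theorem pair_mul (p q p' q' : M2 F) : pair p q * pair p' q' = pair (p * p') (q * q') := by
  obtain ⟨h1, h2, h12, h21, -⟩ := e_rules (F := F)
  simp [pair, mul_add, add_mul, kron_mul, h1, h2, h12, h21, kron_zero_right]

theorem kron_one_right (p : M2 F) : kron p 1 = pair p p := by
  rw [pair, ← kron_add_right, e_rules.2.2.2.2.1]

theorem pair_one : pair (1 : M2 F) 1 = 1 := by rw [← kron_one_right, kron_one]

theorem pair_neg_neg (p q : M2 F) : pair (-p) (-q) = -pair p q := by
  simp [pair, kron_neg_left, add_comm]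

theorem kron_one_dM : kron 1 (dM F) = pair 1 (-1) := by
  rw [pair, kron_neg_left, ← sub_eq_add_neg, eq_sub_iff_add_eq, ← kron_add_right]
  congr 1
  rw [← e_rules.2.2.2.2.2.1, sub_add_cancel]

theorem swap_mul_pair (p q : M2 F) : kron 1 (sM F) * pair p q = pair q p * kron 1 (sM F) := by
  obtain ⟨-, -, -, -, -, -, -, -, h1, h2⟩ := e_rules (F := F)
  simp [pair, mul_add, add_mul, kron_mul, h1, h2, add_comm]

theorem pair_apply (p q : M2 F) :
    Matrix.fromBlocks !![p 0 0, 0; 0, q 0 0] !![p 0 1, 0; 0, q 0 1] !![p 1 0, 0; 0, q 1 0]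
      !![p 1 1, 0; 0, q 1 1] = pair p q := by
  ext (i | i) (j | j) <;> fin_cases i <;> fin_cases j <;> simp [pair, kron, e1, e2]

theorem pair_injective {p q p' q' : M2 F} (h : pair p q = pair p' q') : p = p' ∧ q = q' := by
  rw [← pair_apply p q, ← pair_apply p' q', Matrix.fromBlocks_inj] at h
  obtain ⟨h1, h2, h3, h4⟩ := h
  have k1 := congrFun (congrFun h1 0) 0
  have k2 := congrFun (congrFun h2 0) 0
  have k3 := congrFun (congrFun h3 0) 0
  have k4 := congrFun (congrFun h4 0) 0
  have l1 := congrFun (congrFun h1 1) 1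
  have l2 := congrFun (congrFun h2 1) 1
  have l3 := congrFun (congrFun h3 1) 1
  have l4 := congrFun (congrFun h4 1) 1
  simp at k1 k2 k3 k4 l1 l2 l3 l4
  constructor <;> ext i j <;> fin_cases i <;> fin_cases j <;> assumption

theorem exists_pair (h2 : (2 : F) ≠ 0) {x : M4 F} (h : x * kron 1 (dM F) = kron 1 (dM F) * x) :
    ∃ p q : M2 F, x = pair p q := by
  have h1 : ∀ a : F, -a = a → a = 0 := fun a ha =>
    (mul_eq_zero.1 (show (2 : F) * a = 0 by linear_combination -ha)).resolve_left h2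
  rw [← Matrix.fromBlocks_toBlocks x, show kron (1 : M2 F) (dM F) = fromBlocks (dM F) 0 0 (dM F) by
    simp [kron]] at h
  simp only [fromBlocks_multiply, mul_zero, zero_mul, add_zero, zero_add, Matrix.fromBlocks_inj] at h
  rw [← Matrix.fromBlocks_toBlocks x]
  refine ⟨!![x.toBlocks₁₁ 0 0, x.toBlocks₁₂ 0 0; x.toBlocks₂₁ 0 0, x.toBlocks₂₂ 0 0],
    !![x.toBlocks₁₁ 1 1, x.toBlocks₁₂ 1 1; x.toBlocks₂₁ 1 1, x.toBlocks₂₂ 1 1], ?_⟩
  rw [← pair_apply _ _, Matrix.fromBlocks_inj]
  obtain ⟨a, b, c, d⟩ := h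
  have key : ∀ B : M2 F, B * dM F = dM F * B → B = !![B 0 0, 0; 0, B 1 1] := by
    intro B hB
    have u := congrFun (congrFun hB 0) 1
    have v := congrFun (congrFun hB 1) 0
    simp [dM, Matrix.mul_apply, Fin.sum_univ_two] at u v
    ext i j
    fin_cases i <;> fin_cases j <;> simp
    · exact h1 _ u
    · exact h1 _ v.symm
  exact ⟨key _ a, key _ b, key _ c, key _ d⟩

theorem det_of_pair_mem {p q : M2 F} (h : pair p q ∈ Matrix.symplecticGroup (Fin 2) F) :
    p.det = 1 ∧ q.det = 1 := by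
  obtain ⟨h1, h2, h12, h21, h3, -, t1, t2, -⟩ := e_rules (F := F)
  have ht : (pair p q)ᵀ = pair pᵀ qᵀ := by
    rw [pair, Matrix.transpose_add, kron_transpose, kron_transpose, t1, t2, pair]
  rw [SymplecticGroup.mem_iff', J_eq, ht, kron_one_right, pair_mul, pair_mul, transpose_cM_mul,
    transpose_cM_mul] at h
  obtain ⟨a, b⟩ := pair_injective h
  have a' := congrFun (congrFun a 1) 0
  have b' := congrFun (congrFun b 1) 0
  simp [cM] at a' b'
  exact ⟨a', b'⟩

theorem pair_mem {p q : M2 F} (hp : p.det = 1) (hq : q.det = 1) :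
    pair p q ∈ Matrix.symplecticGroup (Fin 2) F := by
  obtain ⟨h1, h2, h12, h21, h3, -, t1, t2, -⟩ := e_rules (F := F)
  have ht : (pair p q)ᵀ = pair pᵀ qᵀ := by
    rw [pair, Matrix.transpose_add, kron_transpose, kron_transpose, t1, t2, pair]
  rw [SymplecticGroup.mem_iff', J_eq, ht, kron_one_right, pair_mul, pair_mul, transpose_cM_mul,
    transpose_cM_mul, hp, hq, one_smul]

theorem det_one_add {u : M2 F} (hd : u.det = 1) (ht : u 0 0 + u 1 1 = 0) : (1 + u).det = 2 := by
  rw [Matrix.det_fin_two] at hd ⊢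
  simp
  linear_combination hd + ht

theorem gEl_mem (h2 : (2 : F) ≠ 0) {u : M2 F} (hd : u.det = 1) (ht : u 0 0 + u 1 1 = 0) :
    kron ((2 : F)⁻¹ • (1 + u)) (1 + cM F) ∈ Matrix.symplecticGroup (Fin 2) F := by
  refine kron_mem (μ := 2) ?_ ?_
  · ext i j; fin_cases i <;> fin_cases j <;> norm_num [cM, Matrix.mul_apply, Fin.sum_univ_two]
  · rw [Matrix.det_smul, det_one_add hd ht, Fintype.card_fin]
    field_simp

theorem one_add_mul_anticomm {R : Type*} [Ring R] {u p : R} (hu : u * u = -1) (hpu : p * u = -(u * p)) :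
    (1 + u) * p = u * p * (1 + u) := by
  rw [mul_add (u * p), mul_one, mul_assoc, hpu, mul_neg, ← mul_assoc, hu, add_mul, one_mul]
  noncomm_ring

theorem kron_gEl_sq (h2 : (2 : F) ≠ 0) {u : M2 F} (hu : u * u = -1) :
    kron ((2 : F)⁻¹ • (1 + u)) (1 + cM F) ^ 4 = 1 := by
  have h : kron ((2 : F)⁻¹ • (1 + u)) (1 + cM F) ^ 2 = kron u (cM F) := by
    have e : ∀ {A : M2 F}, A * A = -1 → (1 + A) * (1 + A) = (2 : F) • A := fun {A} hA => by
      rw [add_mul, mul_add, mul_add, one_mul, one_mul, mul_one, hA, two_smul]; abel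
    rw [sq, kron_mul, smul_mul_smul_comm, e hu, e cM_sq, kron_smul_left, kron_smul_left, kron_smul_right,
      smul_smul, smul_smul]
    rw [show (2 : F)⁻¹ * 2⁻¹ * 2 * 2 = 1 by field_simp, one_smul]
  rw [show 4 = 2 * 2 from rfl, pow_mul, h, sq, kron_mul, hu, cM_sq, kron_neg_left, kron_neg_right, neg_neg,
    kron_one]

end CfsgLib.SpFour
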