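import Cfsg.Agent.Classical.PSpFourFusion
import Cfsg.Agent.Classical.LinearOrder
import Cfsg.Agent.Classical.SymplecticBlocks
import Cfsg.Agent.Classical.SylowTwoGLTwo

/-!
The 2-fusion system of `PSp₄(q)`, `q` odd, is simple: strongly closed subgroups and automorphisms.
-/

set_option autoImplicit false
set_option linter.style.haveILetI false

namespace CfsgLib.SpFour

open Matrix CfsgLib.SL2C CfsgLib.Linear.FourGroups CfsgLib.Fusion

variable {F : Type*} [Field F] [Fintype F] (D : QData F) (hodd : Odd (Fintype.card F))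
include hodd

/-- An odd element normalising `P` acts as an element of `⟨i, j, t⟩`. -/
theorem exists_small_conj {a : SL F} (ha : Odd (orderOf a))
    (hn : ∀ x ∈ (D.P : Subgroup (SL F)), a * x * a⁻¹ ∈ (D.P : Subgroup (SL F))) :
    ∃ b ∈ Subgroup.closure ({D.i, D.j, tEl D hodd} : Set (SL F)),
      ∀ x ∈ (D.P : Subgroup (SL F)), a * x * a⁻¹ = b * x * b⁻¹ := by
  rcases D.small with h | h8
  · exact ⟨1, one_mem _, fun x hx => by rw [h a ha hn x hx]; simp⟩
  set K := Subgroup.closure ({D.i, D.j, tEl D hodd} : Set (SL F)) with hK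
  have hiK : D.i ∈ K := Subgroup.subset_closure (Or.inl rfl)
  have hjK : D.j ∈ K := Subgroup.subset_closure (Or.inr (Or.inl rfl))
  have htK : tEl D hodd ∈ K := Subgroup.subset_closure (Or.inr (Or.inr rfl))
  obtain ⟨hij, hik, hjk⟩ := not_pm_ij D hodd
  have hcls : ∀ x ∈ (D.P : Subgroup (SL F)), x * x = negOne F →
      Pm D.i (a * x * a⁻¹) ∨ Pm D.j (a * x * a⁻¹) ∨ Pm (D.i * D.j) (a * x * a⁻¹) := by
    intro x hx hsq
    have hsq' : a * x * a⁻¹ * (a * x * a⁻¹) = negOne F := by
      rw [show a * x * a⁻¹ * (a * x * a⁻¹) = a * (x * x) * a⁻¹ by group, hsq, ← negOne_comm,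
        mul_inv_cancel_right]
    rcases h8 _ (hn x hx) with e | e | e | e | e | e | e | e
    · exact absurd (by rw [e, one_mul] at hsq'; exact hsq'.symm) (negOne_ne_one hodd)
    · exact absurd (by rw [e, negOne_sq] at hsq'; exact hsq'.symm) (negOne_ne_one hodd)
    · exact Or.inl (Or.inl e)
    · exact Or.inl (Or.inr e)
    · exact Or.inr (Or.inl (Or.inl e))
    · exact Or.inr (Or.inl (Or.inr e))
    · exact Or.inr (Or.inr (Or.inl e))
    · exact Or.inr (Or.inr (Or.inr e))
  have hkP : D.i * D.j ∈ (D.P : Subgroup (SL F)) := mul_mem D.hi D.hj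
  have himul : ∀ u v : SL F, a * (u * v) * a⁻¹ = (a * u * a⁻¹) * (a * v * a⁻¹) := fun u v => by group
  have hneg : ∀ {u v : SL F}, Pm u v → ∀ w : SL F, Pm (w * u * w⁻¹) (w * v * w⁻¹) := fun h w => h.conj w
  -- `b₀` agrees with `a` on `i` and `j` up to sign
  obtain ⟨b₀, hb₀, h1, h2⟩ : ∃ b₀ ∈ K, Pm (b₀ * D.i * b₀⁻¹) (a * D.i * a⁻¹) ∧
      Pm (b₀ * D.j * b₀⁻¹) (a * D.j * a⁻¹) := by
    obtain ⟨ti, tj⟩ := tEl_conj D hodd
    have hmulneg : ∀ u : SL F, Pm u (negOne F * u) := fun u => Or.inr rfl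
    rcases hcls D.i D.hi (ii D) with hi' | hi' | hi'
    · rcases hcls D.j D.hj D.hjj with hj' | hj' | hj'
      · exact absurd ((hi'.symm.trans hj').conj a⁻¹) (by
          rw [show a⁻¹ * (a * D.i * a⁻¹) * a⁻¹⁻¹ = D.i by group,
            show a⁻¹ * (a * D.j * a⁻¹) * a⁻¹⁻¹ = D.j by group]
          exact hij)
      · exact ⟨1, one_mem _, by simpa using hi', by simpa using hj'⟩
      · have h3 : Pm D.j (a * (D.i * D.j) * a⁻¹) := by
          rw [himul]
          refine Pm.trans ?_ (hi'.mul hj')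
          exact Or.inr (by rw [← mul_assoc, ii])
        exact absurd (odd_swap ha hj' h3) (fun h => hjk h.symm)
    · rcases hcls D.j D.hj D.hjj with hj' | hj' | hj'
      · exact absurd (odd_swap ha hi' hj') (fun h => hij h.symm)
      · exact absurd ((hi'.symm.trans hj').conj a⁻¹) (by
          rw [show a⁻¹ * (a * D.i * a⁻¹) * a⁻¹⁻¹ = D.i by group,
            show a⁻¹ * (a * D.j * a⁻¹) * a⁻¹⁻¹ = D.j by group]
          exact hij)
      · exact ⟨tEl D hodd, htK, by rw [ti]; exact hi', by rw [tj]; exact hj'⟩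
    · rcases hcls D.j D.hj D.hjj with hj' | hj' | hj'
      · refine ⟨tEl D hodd * tEl D hodd, mul_mem htK htK, ?_, ?_⟩
        · rw [show tEl D hodd * tEl D hodd * D.i * (tEl D hodd * tEl D hodd)⁻¹ =
            tEl D hodd * (tEl D hodd * D.i * (tEl D hodd)⁻¹) * (tEl D hodd)⁻¹ by group, ti, tj]
          exact hi'
        · rw [show tEl D hodd * tEl D hodd * D.j * (tEl D hodd * tEl D hodd)⁻¹ =
            tEl D hodd * (tEl D hodd * D.j * (tEl D hodd)⁻¹) * (tEl D hodd)⁻¹ by group, tj,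
            show tEl D hodd * (D.i * D.j) * (tEl D hodd)⁻¹ = (tEl D hodd * D.i * (tEl D hodd)⁻¹) *
              (tEl D hodd * D.j * (tEl D hodd)⁻¹) by group, ti, tj,
            show D.j * (D.i * D.j) = D.i by
              rw [← mul_assoc, D.hji, mul_assoc, mul_assoc, D.hjj, ← mul_assoc, negOne_comm, mul_assoc,
                negOne_sq, mul_one]]
          exact hj'
      · have h3 : Pm D.i (a * (D.i * D.j) * a⁻¹) := by
          rw [himul]
          refine Pm.trans ?_ (hi'.mul hj')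
          exact Or.inr (by rw [mul_assoc, D.hjj, negOne_comm])
        exact absurd (odd_swap ha hi' h3) (fun h => hik h.symm)
      · exact absurd ((hi'.symm.trans hj').conj a⁻¹) (by
          rw [show a⁻¹ * (a * D.i * a⁻¹) * a⁻¹⁻¹ = D.i by group,
            show a⁻¹ * (a * D.j * a⁻¹) * a⁻¹⁻¹ = D.j by group]
          exact hij)
  -- fix the signs
  have hs1 : D.i * D.j * D.i⁻¹ = negOne F * D.j := by
    rw [mul_inv_eq_iff_eq_mul, mul_assoc, D.hji, ← mul_assoc, negOne_sq, one_mul]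
  have hs2 : D.j * D.i * D.j⁻¹ = negOne F * D.i := by
    rw [D.hji, mul_assoc, mul_inv_cancel_right]
  have hc : ∀ w : SL F, w * negOne F * w⁻¹ = negOne F := fun w => by rw [← negOne_comm, mul_inv_cancel_right]
  have hcn : ∀ w u : SL F, w * (negOne F * u) * w⁻¹ = negOne F * (w * u * w⁻¹) := fun w u => by
    rw [← mul_assoc w, ← negOne_comm, mul_assoc, mul_assoc, mul_assoc]
  obtain ⟨b, hb, h1', h2'⟩ : ∃ b ∈ K, a * D.i * a⁻¹ = b * D.i * b⁻¹ ∧ a * D.j * a⁻¹ = b * D.j * b⁻¹ := by
    rcases h1 with e1 | e1 <;> rcases h2 with e2 | e2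
    · exact ⟨b₀, hb₀, e1, e2⟩
    · refine ⟨b₀ * D.i, mul_mem hb₀ hiK, ?_, ?_⟩
      · rw [e1]; group
      · rw [e2, ← hcn, ← hs1]; group
    · refine ⟨b₀ * D.j, mul_mem hb₀ hjK, ?_, ?_⟩
      · rw [e1, ← hcn, ← hs2]; group
      · rw [e2]; group
    · refine ⟨b₀ * (D.i * D.j), mul_mem hb₀ (mul_mem hiK hjK), ?_, ?_⟩
      · rw [e1, show b₀ * (D.i * D.j) * D.i * (b₀ * (D.i * D.j))⁻¹ =
          b₀ * (D.i * (D.j * D.i * D.j⁻¹) * D.i⁻¹) * b₀⁻¹ by group, hs2, hcn D.i, mul_inv_cancel_right, hcn]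
      · rw [e2, show b₀ * (D.i * D.j) * D.j * (b₀ * (D.i * D.j))⁻¹ =
          b₀ * (D.i * D.j * D.i⁻¹) * b₀⁻¹ by group, hs1, hcn]
  refine ⟨b, hb, fun x hx => ?_⟩
  let φ₁ := (MulAut.conj a).toMonoidHom
  let φ₂ := (MulAut.conj b).toMonoidHom
  suffices hle : x ∈ φ₁.eqLocus φ₂ from hle
  have e1 : D.i ∈ φ₁.eqLocus φ₂ := h1'
  have e2 : D.j ∈ φ₁.eqLocus φ₂ := h2'
  have en : negOne F ∈ φ₁.eqLocus φ₂ := (hc a).trans (hc b).symm
  rcases h8 x hx with rfl | rfl | rfl | rfl | rfl | rfl | rfl | rfl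
  exacts [one_mem _, en, e1, mul_mem en e1, e2, mul_mem en e2, mul_mem e1 e2, mul_mem en (mul_mem e1 e2)]

/-! ### The image group -/

variable {G : Type*} [Group G] [Finite G] (ψ : Matrix.symplecticGroup (Fin 2) F →* G)
  (hker : ∀ x, ψ x = 1 ↔ (x : M4 F) = 1 ∨ (x : M4 F) = -1)
include hker

omit hodd [Finite G] in
theorem psi_eq {x y : Matrix.symplecticGroup (Fin 2) F} :
    ψ x = ψ y ↔ (x : M4 F) = y ∨ (x : M4 F) = -y := by
  rw [← mul_inv_eq_one, ← map_inv, ← map_mul, hker]
  have h : ((x * y⁻¹ : Matrix.symplecticGroup (Fin 2) F) : M4 F) * (y : M4 F) = x := by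
    rw [← Submonoid.coe_mul, inv_mul_cancel_right]
  constructor
  · rintro (e | e)
    · exact Or.inl (by rw [← h, e, one_mul])
    · exact Or.inr (by rw [← h, e, neg_one_mul])
  · have hy : (y : M4 F) * ((y⁻¹ : Matrix.symplecticGroup (Fin 2) F) : M4 F) = 1 := by
      rw [← Submonoid.coe_mul, mul_inv_cancel]; rfl
    rintro (e | e)
    · exact Or.inl (by rw [Submonoid.coe_mul, e, hy])
    · exact Or.inr (by rw [Submonoid.coe_mul, e, neg_mul, hy])

omit [Finite G] in
theorem negOne_pair : (pairHom (negOne F, negOne F) : M4 F) = -1 := by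
  rw [pairHom_val, ← pair_one, ← pair_neg_neg]
  show pair (SL2C.mt (negOne F)) (SL2C.mt (negOne F)) = _
  rw [mt_negOne]

variable {S : Sylow 2 G} (hS : (S : Subgroup G) = (S0 D).map ψ)
include hS

omit [Finite G] in
theorem mem_sylow_iff {x : Matrix.symplecticGroup (Fin 2) F} : ψ x ∈ (S : Subgroup G) ↔ x ∈ S0 D := by
  rw [hS]
  refine ⟨?_, fun h => ⟨x, h, rfl⟩⟩
  rintro ⟨y, hy, e⟩
  have hn : pairHom (negOne F, negOne F) ∈ S0 D := pair_mem_S0 D (negOne_mem D) (negOne_mem D)
  rcases (psi_eq ψ hker).1 e with h | h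
  · rwa [← Subtype.ext h]
  · have : x = pairHom (negOne F, negOne F) * y := Subtype.ext (by
      rw [Submonoid.coe_mul, negOne_pair hodd ψ hker, neg_one_mul, h, neg_neg])
    rw [this]; exact mul_mem hn hy

omit [Finite G] in
theorem psi_mem {x : Matrix.symplecticGroup (Fin 2) F} (hx : x ∈ S0 D) : ψ x ∈ (S : Subgroup G) :=
  (mem_sylow_iff D hodd ψ hker hS).2 hx

omit [Finite G] in
/-- The only central elements. -/
theorem central_cases {s : G} (hs : s ∈ (S : Subgroup G))
    (hc : ∀ u ∈ (S : Subgroup G), s * u = u * s) : s = 1 ∨ s = ψ (pairHom (1, negOne F)) := by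
  have h2 := two_ne hodd
  rw [hS] at hs
  obtain ⟨x, hx, rfl⟩ := hs
  have hcomm : ∀ y ∈ S0 D, (x : M4 F) * (y : M4 F) = (y : M4 F) * x ∨
      (x : M4 F) * (y : M4 F) = -((y : M4 F) * x) := fun y hy => by
    have h := hc _ (psi_mem D hodd ψ hker hS hy)
    rw [← map_mul, ← map_mul, psi_eq ψ hker] at h
    exact h
  obtain ⟨p, hp, q, hq, rfl | rfl⟩ := hx
  · have key : ∀ c ∈ (D.P : Subgroup (SL F)), p * c = c * p ∧ q * c = c * q := by
      intro c hcP
      constructor
      · rcases hcomm _ (pair_mem_S0 D hcP (one_mem _)) with e | e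
        · rw [pairHom_val, pairHom_val, pair_mul, pair_mul] at e
          exact Subtype.ext (pair_injective e).1
        · rw [pairHom_val, pairHom_val, pair_mul, pair_mul, ← pair_neg_neg] at e
          have e2 := (pair_injective e).2
          simp only [Matrix.SpecialLinearGroup.coe_one, mul_one, one_mul] at e2
          exfalso
          have h1 : ((q : M2 F)).det = 1 := q.2
          have e3 : (2 : F) • (q : M2 F) = 0 := by rw [two_smul]; nth_rw 2 [e2]; abel
          rw [(smul_eq_zero.1 e3).resolve_left h2] at h1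
          simp at h1
      · rcases hcomm _ (pair_mem_S0 D (one_mem _) hcP) with e | e
        · rw [pairHom_val, pairHom_val, pair_mul, pair_mul] at e
          exact Subtype.ext (pair_injective e).2
        · rw [pairHom_val, pairHom_val, pair_mul, pair_mul, ← pair_neg_neg] at e
          have e2 := (pair_injective e).1
          simp only [Matrix.SpecialLinearGroup.coe_one, mul_one, one_mul] at e2
          exfalso
          have h1 : ((p : M2 F)).det = 1 := p.2
          have e3 : (2 : F) • (p : M2 F) = 0 := by rw [two_smul]; nth_rw 2 [e2]; abel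
          rw [(smul_eq_zero.1 e3).resolve_left h2] at h1
          simp at h1
    have hpm : ∀ r ∈ (D.P : Subgroup (SL F)), r * D.i = D.i * r → r * D.j = D.j * r → r = 1 ∨ r = negOne F := by
      intro r hr h1 h2'
      exact scalar_of_commute D hodd r (congrArg Subtype.val h1) (congrArg Subtype.val h2')
    rcases hpm p hp (key _ D.hi).1 (key _ D.hj).1 with rfl | rfl <;>
      rcases hpm q hq (key _ D.hi).2 (key _ D.hj).2 with rfl | rfl
    · exact Or.inl (by rw [show ((1 : SL F), (1 : SL F)) = 1 from rfl, map_one, map_one])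
    · exact Or.inr rfl
    · refine Or.inr ((psi_eq ψ hker).2 (Or.inr ?_))
      rw [← neg_one_mul (pairHom ((1 : SL F), negOne F) : M4 F), ← negOne_pair hodd ψ hker,
        ← Submonoid.coe_mul, ← map_mul, Prod.mk_mul_mk, mul_one, negOne_sq]
    · exact Or.inl ((hker _).2 (Or.inr (negOne_pair hodd ψ hker)))
  · exfalso
    rcases hcomm _ (pair_mem_S0 D D.hi (one_mem _)) with e | e
    · have e' : pairHom (p, q) * wS F * pairHom (D.i, 1) = pairHom (D.i, 1) * (pairHom (p, q) * wS F) :=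
        Subtype.ext e
      rw [mul_assoc, wS_pair, ← mul_assoc, ← mul_assoc, ← map_mul, ← map_mul] at e'
      have e2 := congrArg Prod.fst (pairHom_injective (mul_right_cancel e'))
      simp only [Prod.fst_mul, mul_one] at e2
      exact (not_pm_ij D hodd).1 (by
        exfalso
        have h1 : D.i = 1 := mul_eq_right.1 e2.symm
        have h3 := ii D
        rw [h1, one_mul] at h3
        exact negOne_ne_one hodd h3.symm)
    · have e' : pairHom (p, q) * wS F * pairHom (D.i, 1) =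
          pairHom (negOne F, negOne F) * (pairHom (D.i, 1) * (pairHom (p, q) * wS F)) := Subtype.ext (by
        rw [Submonoid.coe_mul _ (pairHom (negOne F, negOne F)), negOne_pair hodd ψ hker, neg_one_mul]
        exact e)
      rw [mul_assoc, wS_pair, ← mul_assoc, ← mul_assoc, ← mul_assoc, ← map_mul, ← map_mul, ← map_mul] at e'
      have e2 := congrArg Prod.fst (pairHom_injective (mul_right_cancel e'))
      simp only [Prod.fst_mul, mul_one] at e2
      have h1 : negOne F * D.i = 1 := mul_eq_right.1 e2.symm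
      have h3 := ii D
      have h4 : D.i = negOne F := by
        rw [← one_mul D.i, ← negOne_sq, mul_assoc, h1, mul_one]
      rw [h4, negOne_sq] at h3
      exact negOne_ne_one hodd h3.symm

omit [Finite G] in
theorem z_mem : ψ (pairHom (1, negOne F)) ∈ (S : Subgroup G) :=
  psi_mem D hodd ψ hker hS (pair_mem_S0 D (one_mem _) (negOne_mem D))

theorem stronglyClosed_cases {T : Subgroup G}
    (hT : (Cfsg.groupFusionSystem (S : Subgroup G)).StronglyClosed T) : T = ⊥ ∨ T = (S : Subgroup G) := by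
  haveI : Fact (Nat.Prime 2) := ⟨Nat.prime_two⟩
  rw [or_iff_not_imp_left]
  intro hne
  refine le_antisymm hT.1 ?_
  have h2 := two_ne hodd
  have hcl : ∀ (h : Matrix.symplecticGroup (Fin 2) F) {x : Matrix.symplecticGroup (Fin 2) F},
      ψ x ∈ T → h * x * h⁻¹ ∈ S0 D → ψ (h * x * h⁻¹) ∈ T := fun h {x} hx hy => by
    rw [map_mul, map_mul, map_inv]
    exact InvolPattern.conj_mem_of_stronglyClosed hT hx (by
      rw [← map_inv, ← map_mul, ← map_mul]; exact psi_mem D hodd ψ hker hS hy)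
  -- the central involution
  have hz : ψ (pairHom (1, negOne F)) ∈ T := by
    haveI := (S.2 : IsPGroup 2 (S : Subgroup G)).isNilpotent
    have hN : (T.subgroupOf (S : Subgroup G)).Normal := ⟨fun n hn g =>
      InvolPattern.conj_mem_of_stronglyClosed hT hn (g * n * g⁻¹).2⟩
    have hne' : T.subgroupOf (S : Subgroup G) ≠ ⊥ := by
      rw [Ne, Subgroup.subgroupOf_eq_bot, disjoint_iff, inf_eq_left.2 hT.1]; exact hne
    obtain ⟨w, hw, hw1⟩ := (Subgroup.ne_bot_iff_exists_ne_one.1 (PGroupBasic.inf_center_ne_bot _ hne')) |>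
      fun ⟨⟨w, hw⟩, h⟩ => (⟨w, hw, fun e => h (Subtype.ext e)⟩ : ∃ w, w ∈ T.subgroupOf (S : Subgroup G) ⊓
        Subgroup.center (S : Subgroup G) ∧ w ≠ 1)
    rcases central_cases D hodd ψ hker hS w.2
      (fun u hu => (congrArg Subtype.val (Subgroup.mem_center_iff.1 hw.2 ⟨u, hu⟩)).symm) with e | e
    · exact absurd (Subtype.ext e) hw1
    · rw [← e]; exact hw.1
  -- the swap
  have hw : ψ (wS F) ∈ T := by
    let Y : Matrix.symplecticGroup (Fin 2) F := ⟨kron !![(2 : F)⁻¹, 0; 0, 1] !![1, 1; 1, -1],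
      kron_mem (μ := 2) (by ext a b; fin_cases a <;> fin_cases b <;> norm_num [Matrix.mul_apply, Fin.sum_univ_two])
        (by rw [Matrix.det_fin_two_of]; field_simp; ring)⟩
    have hY : Y * pairHom (1, negOne F) * Y⁻¹ = wS F := by
      rw [mul_inv_eq_iff_eq_mul]
      refine Subtype.ext ?_
      show kron _ _ * (pairHom ((1 : SL F), negOne F) : M4 F) = kron 1 (sM F) * kron _ _
      rw [pairHom_one_negOne, kron_mul, kron_mul, mul_one, one_mul]
      congr 1
      ext a b; fin_cases a <;> fin_cases b <;> simp [dM, sM]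
    rw [← hY]
    exact hcl Y hz (by rw [hY]; exact wS_mem_S0 D)
  have hinv : ∀ a ∈ (D.P : Subgroup (SL F)), ψ (pairHom (a, a⁻¹)) ∈ T := by
    intro a ha
    have e : pairHom (a, a⁻¹) = pairHom (a, 1) * wS F * (pairHom (a, 1))⁻¹ * (wS F)⁻¹ := by
      rw [mul_assoc, mul_assoc, ← mul_assoc (wS F), ← map_inv, wS_conj, ← map_mul, Prod.inv_mk, inv_one,
        Prod.mk_mul_mk, mul_one, one_mul]
    rw [e, map_mul, map_inv ψ (wS F)]
    refine mul_mem (hcl _ hw ?_) (inv_mem hw)
    exact mul_mem (mul_mem (pair_mem_S0 D ha (one_mem _)) (wS_mem_S0 D))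
      (inv_mem (pair_mem_S0 D ha (one_mem _)))
  have hfour : ∀ a ∈ (D.P : Subgroup (SL F)), a * a = negOne F →
      ∀ b ∈ (D.P : Subgroup (SL F)), b * b = negOne F → ψ (pairHom (1, a * b)) ∈ T := by
    intro a ha haa b hb hbb
    obtain ⟨h, hh⟩ := isConj_iff.1 (isConj_of_trace_zero hodd
      (trace_zero_of_sq hodd (inv_sq haa)) (trace_zero_of_sq hodd hbb))
    have e : pairHom (1, h) * pairHom (a, a⁻¹) * (pairHom (1, h))⁻¹ = pairHom (a, b) := by
      rw [← map_inv, ← map_mul, ← map_mul]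
      refine congrArg _ (Prod.ext ?_ ?_)
      · simp
      · exact hh
    have h1 := hcl (pairHom (1, h)) (hinv a ha) (by rw [e]; exact pair_mem_S0 D ha hb)
    rw [e] at h1
    have h3 := mul_mem (hinv a⁻¹ (inv_mem ha)) h1
    rwa [← map_mul, ← map_mul, inv_inv, Prod.mk_mul_mk, inv_mul_cancel] at h3
  have hk : ψ (pairHom (1, D.i * D.j)) ∈ T := hfour _ D.hi (ii D) _ D.hj D.hjj
  have hfour' : ∀ b ∈ (D.P : Subgroup (SL F)), b * b = negOne F → ψ (pairHom (1, b)) ∈ T := by
    intro b hb hbb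
    have h1 := mul_mem hk (hfour _ (inv_mem (mul_mem D.hi D.hj)) (inv_sq (kk D)) b hb hbb)
    rwa [← map_mul, ← map_mul, Prod.mk_mul_mk, mul_one, mul_inv_cancel_left] at h1
  have hall : ∀ x ∈ (D.P : Subgroup (SL F)), ψ (pairHom (1, x)) ∈ T := by
    intro x hx
    rcases D.gen x hx with h | ⟨y, hy, z, hz', hyy, hzz, rfl⟩
    · exact hfour' x hx h
    · have h1 := mul_mem (hfour' y hy hyy) (hfour' z hz' hzz)
      rwa [← map_mul, ← map_mul, Prod.mk_mul_mk, mul_one] at h1
  intro s hs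
  rw [hS] at hs
  obtain ⟨_, ⟨p, hp, q, hq, rfl | rfl⟩, rfl⟩ := hs
  all_goals
    have h1 := mul_mem (hinv p hp) (hall (p * q) (mul_mem hp hq))
    rw [← map_mul, ← map_mul, Prod.mk_mul_mk, mul_one, inv_mul_cancel_left] at h1
  · exact h1
  · rw [map_mul]; exact mul_mem h1 hw

end CfsgLib.SpFour
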