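import Cfsg.Agent.Dickson.Moebius
import Mathlib.LinearAlgebra.Projectivization.Action
import Mathlib.FieldTheory.Finite.Basic

/-!
Multiple transitivity of `PGL_2` and `SL_2` on the projective line.
-/

set_option autoImplicit false
set_option linter.flexible false

namespace CfsgLib.Linear.ProjLine

open Matrix OnePoint MulAction Projectivization

variable {F : Type*} [Field F] [DecidableEq F]

local notation "P1" => Projectivization F (Fin 2 → F)

theorem pgl_smul_equiv (g : Matrix.ProjGenLinGroup (Fin 2) F) (x : OnePoint F) :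
    g • equivProjectivization F x = equivProjectivization F ((g : CfsgLib.Dickson.PGL2 F) • x) := by
  induction g using ProjGenLinGroup.induction_on with
  | mk g =>
    rw [CfsgLib.Dickson.mk_smul_eq, equivProjectivization_smul]
    rfl

theorem exists_pgl_std (a : Fin 3 ↪ P1) : ∃ g : Matrix.ProjGenLinGroup (Fin 2) F,
    g • a 0 = equivProjectivization F ∞ ∧ g • a 1 = equivProjectivization F ((0 : F) : OnePoint F) ∧
      g • a 2 = equivProjectivization F ((1 : F) : OnePoint F) := by
  set e := equivProjectivization F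
  have hne : ∀ i j, i ≠ j → e.symm (a i) ≠ e.symm (a j) := fun i j h h' =>
    h (a.injective (e.symm.injective h'))
  obtain ⟨g, h0, h1, h2⟩ := CfsgLib.Dickson.exists_smul_triple (hne 0 1 (by decide))
    (hne 0 2 (by decide)) (hne 1 2 (by decide))
  refine ⟨g, ?_, ?_, ?_⟩
  · rw [← e.apply_symm_apply (a 0), pgl_smul_equiv, h0]
  · rw [← e.apply_symm_apply (a 1), pgl_smul_equiv, h1]
  · rw [← e.apply_symm_apply (a 2), pgl_smul_equiv, h2]

theorem exists_pgl_map (a b : Fin 3 ↪ P1) :
    ∃ g : Matrix.ProjGenLinGroup (Fin 2) F, ∀ i, g • a i = b i := by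
  obtain ⟨g, g0, g1, g2⟩ := exists_pgl_std a
  obtain ⟨k, k0, k1, k2⟩ := exists_pgl_std b
  refine ⟨k⁻¹ * g, fun i => ?_⟩
  rw [mul_smul, inv_smul_eq_iff]
  fin_cases i
  · exact g0.trans k0.symm
  · exact g1.trans k1.symm
  · exact g2.trans k2.symm

theorem pgl_sharply :
    IsMultiplyPretransitive (Matrix.ProjGenLinGroup (Fin 2) F) P1 3 ∧
    ∀ (g : Matrix.ProjGenLinGroup (Fin 2) F) (a b c : P1), a ≠ b → a ≠ c → b ≠ c →
      g • a = a → g • b = b → g • c = c → g = 1 := by
  refine ⟨isMultiplyPretransitive_iff.2 fun {a b} => ?_, fun g a b c hab hac hbc ha hb hc => ?_⟩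
  · obtain ⟨g, hg⟩ := exists_pgl_map a b
    exact ⟨g, DFunLike.ext _ _ hg⟩
  · set e := equivProjectivization F
    have key : ∀ x : P1, g • x = x → (g : CfsgLib.Dickson.PGL2 F) • e.symm x = e.symm x := by
      intro x hx
      apply e.injective
      rw [← pgl_smul_equiv, e.apply_symm_apply, hx]
    exact CfsgLib.Dickson.eq_one_of_fix_three (e.symm.injective.ne hab) (e.symm.injective.ne hac)
      (e.symm.injective.ne hbc) (key a ha) (key b hb) (key c hc)

theorem sl_triply_iff [Fintype F] :
    IsMultiplyPretransitive (Matrix.SpecialLinearGroup (Fin 2) F) P1 3 ↔ ringChar F = 2 := by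
  set e := equivProjectivization F with he
  have hsl : ∀ (g : Matrix.SpecialLinearGroup (Fin 2) F) (x : P1),
      g • x = (ProjGenLinGroup.mk (Matrix.SpecialLinearGroup.toGL g)) • x := fun g x => by
    induction x using Projectivization.ind with
    | _ v hv => rfl
  constructor
  · intro h
    by_contra hc
    obtain ⟨ν, hν⟩ := FiniteField.exists_nonsquare hc
    have hν0 : ν ≠ 0 := fun e => hν (e ▸ IsSquare.zero)
    have hν1 : ν ≠ 1 := fun e => hν (e ▸ IsSquare.one)
    have mkE : ∀ t : F, t ≠ 0 → ∃ a : Fin 3 ↪ P1, a 0 = e ∞ ∧ a 1 = e ((0 : F) : OnePoint F) ∧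
        a 2 = e (t : OnePoint F) := by
      intro t ht
      refine ⟨⟨![e ∞, e ((0 : F) : OnePoint F), e (t : OnePoint F)], ?_⟩, rfl, rfl, rfl⟩
      intro i j hij
      fin_cases i <;> fin_cases j <;> simp [ht, Ne.symm ht] at hij ⊢
    obtain ⟨a, a0, a1, a2⟩ := mkE 1 one_ne_zero
    obtain ⟨b, b0, b1, b2⟩ := mkE ν hν0
    obtain ⟨g, hg⟩ := isMultiplyPretransitive_iff.1 h (x := a) (y := b)
    have key : ∀ x y : OnePoint F, g • e x = e y → Matrix.SpecialLinearGroup.toGL g • x = y := by
      intro x y hxy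
      apply e.injective
      rw [← hxy, hsl, he, equivProjectivization_smul]
      rfl
    have g0 := key ∞ ∞ (by
      have := DFunLike.congr_fun hg 0; rwa [Function.Embedding.smul_apply, a0, b0] at this)
    have g1 := key ((0 : F) : OnePoint F) ((0 : F) : OnePoint F) (by
      have := DFunLike.congr_fun hg 1; rwa [Function.Embedding.smul_apply, a1, b1] at this)
    have g2 := key ((1 : F) : OnePoint F) (ν : OnePoint F) (by
      have := DFunLike.congr_fun hg 2; rwa [Function.Embedding.smul_apply, a2, b2] at this)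
    rw [smul_infty_eq_self_iff] at g0
    rw [smul_some_eq_ite] at g1 g2
    have hd := g.2
    rw [Matrix.det_fin_two] at hd
    have g0' : (g : Matrix (Fin 2) (Fin 2) F) 1 0 = 0 := g0
    rw [g0', mul_zero, sub_zero] at hd
    have h11 : (g : Matrix (Fin 2) (Fin 2) F) 1 1 ≠ 0 := right_ne_zero_of_mul_eq_one hd
    simp [g0', h11] at g1 g2
    rw [g1, add_zero, div_eq_iff h11] at g2
    refine hν ⟨(g : Matrix (Fin 2) (Fin 2) F) 0 0, ?_⟩
    linear_combination (-ν) * hd - (g : Matrix (Fin 2) (Fin 2) F) 0 0 * g2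
  · intro h2
    haveI : CharP F 2 := ringChar.of_eq h2
    refine isMultiplyPretransitive_iff.2 fun {a b} => ?_
    obtain ⟨g, hg⟩ := exists_pgl_map a b
    induction g using ProjGenLinGroup.induction_on with
    | mk g =>
      obtain ⟨r, hr⟩ : ∃ r : F, r ^ 2 = g.det := by
        obtain ⟨r, hr⟩ := FiniteField.isSquare_of_char_two h2 (g.det : F)
        exact ⟨r, by rw [hr, pow_two]⟩
      have hr0 : r ≠ 0 := fun e => g.det.ne_zero (by rw [← hr, e]; simp)
      have hdet : (r⁻¹ • (g : Matrix (Fin 2) (Fin 2) F)).det = 1 := by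
        rw [Matrix.det_smul, Fintype.card_fin, ← Matrix.GeneralLinearGroup.val_det_apply, ← hr,
          ← mul_pow, inv_mul_cancel₀ hr0, one_pow]
      let s : Matrix.SpecialLinearGroup (Fin 2) F := ⟨_, hdet⟩
      refine ⟨s, DFunLike.ext _ _ fun i => ?_⟩
      · refine (?_ : _ = ProjGenLinGroup.mk g • a i).trans (hg i)
        rw [Function.Embedding.smul_apply, hsl]
        congr 1
        rw [ProjGenLinGroup.mk_eq_mk_iff]
        refine ⟨Units.mk0 r hr0, Units.ext ?_⟩
        ext k l
        simp [s, hr0, mul_comm]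
        change r * (r⁻¹ * (g : Matrix (Fin 2) (Fin 2) F) k l) = _
        rw [← mul_assoc, mul_inv_cancel₀ hr0, one_mul]

end CfsgLib.Linear.ProjLine
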