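import Cfsg.Agent.Classical.PSLTwoFour
import Cfsg.Agent.Classical.PSpFourKron

/-!
A Sylow 2-subgroup of `SL₂(q)`, `q` odd, with explicit quaternion generators, and the action of
odd elements normalising it.
-/

set_option autoImplicit false
set_option linter.style.haveILetI false

namespace CfsgLib.SpFour

open Matrix CfsgLib.SL2C CfsgLib.Linear.FourGroups

variable {F : Type*} [Field F] [Fintype F]

/-- A Sylow 2-subgroup with quaternion generators. -/
structure QData (F : Type*) [Field F] [Fintype F] where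
  /-- the Sylow subgroup -/
  P : Sylow 2 (SL F)
  /-- first generator -/
  i : SL F
  /-- second generator -/
  j : SL F
  hi : i ∈ (P : Subgroup (SL F))
  hj : j ∈ (P : Subgroup (SL F))
  hstd : (i : Matrix (Fin 2) (Fin 2) F) = cM F
  hjj : j * j = negOne F
  hji : j * i = negOne F * (i * j)
  gen : ∀ x ∈ (P : Subgroup (SL F)), x * x = negOne F ∨
    ∃ y ∈ (P : Subgroup (SL F)), ∃ z ∈ (P : Subgroup (SL F)), y * y = negOne F ∧ z * z = negOne F ∧ x = y * z
  small : (∀ a : SL F, Odd (orderOf a) → (∀ x ∈ (P : Subgroup (SL F)), a * x * a⁻¹ ∈ (P : Subgroup (SL F))) →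
      ∀ x ∈ (P : Subgroup (SL F)), a * x * a⁻¹ = x) ∨
    ∀ x ∈ (P : Subgroup (SL F)), x = 1 ∨ x = negOne F ∨ x = i ∨ x = negOne F * i ∨ x = j ∨ x = negOne F * j ∨
      x = i * j ∨ x = negOne F * (i * j)

theorem negOne_comm (x : SL F) : negOne F * x = x * negOne F :=
  (Subgroup.mem_center_iff.1 negOne_mem_center x).symm

theorem negOne_sq : negOne F * negOne F = 1 := by
  refine mt_injective ?_
  rw [mt_mul, mt_negOne, neg_mul_neg, one_mul, mt_one]

theorem units_pow_two (k : ℕ) (u : (ZMod (2 * 2 ^ k))ˣ) {m : ℕ} (hm : Odd m) (h : u ^ m = 1) : u = 1 := by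
  haveI : NeZero (2 * 2 ^ k) := ⟨by positivity⟩
  refine orderOf_eq_one_iff.1 (Nat.eq_one_of_dvd_coprimes (a := 2 ^ k) (b := m)
    (hm.coprime_two_left.pow_left k) ?_ (orderOf_dvd_of_pow_eq_one h))
  refine (orderOf_dvd_natCard u).trans ?_
  rw [Nat.card_eq_fintype_card, ZMod.card_units_eq_totient,
    show 2 * 2 ^ k = 2 ^ (k + 1) by ring, Nat.totient_prime_pow Nat.prime_two (Nat.succ_pos k)]
  simp

/-- Automorphisms of odd order of a large generalized quaternion group are trivial. -/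
theorem quaternion_aut_trivial {k : ℕ} (hk : 2 ≤ k)
    (φ : QuaternionGroup (2 ^ k) ≃* QuaternionGroup (2 ^ k)) {m : ℕ} (hm : Odd m)
    (h : ∀ x, φ^[m] x = x) : ∀ x, φ x = x := by
  haveI : NeZero (2 ^ k) := ⟨by positivity⟩
  obtain ⟨u, hu⟩ : ∃ u : ZMod (2 * 2 ^ k), φ (.a 1) = .a u := by
    rcases hc : φ (.a 1) with u | u
    · exact ⟨u, rfl⟩
    · exfalso
      have h1 := congrArg orderOf hc
      rw [MulEquiv.orderOf_eq, QuaternionGroup.orderOf_a_one, QuaternionGroup.orderOf_xa] at h1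
      have : 2 ^ 2 ≤ 2 ^ k := Nat.pow_le_pow_right (by norm_num) hk
      omega
  have ha : ∀ r : ℕ, φ (.a (r : ZMod (2 * 2 ^ k))) = .a (r * u) := by
    intro r
    rw [← QuaternionGroup.a_one_pow, map_pow, hu]
    induction r with
    | zero => simp
    | succ r ih => rw [pow_succ, ih, QuaternionGroup.a_mul_a]; push_cast; congr 1; ring
  have ha' : ∀ r : ZMod (2 * 2 ^ k), φ (.a r) = .a (r * u) := fun r => by
    rw [← ZMod.natCast_zmod_val r, ha]
  have hiter : ∀ n : ℕ, φ^[n] (.a 1) = .a (u ^ n) := by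
    intro n
    induction n with
    | zero => simp
    | succ n ih => rw [Function.iterate_succ_apply', ih, ha', pow_succ]
  have hum : u ^ m = 1 := by
    have h1 := (hiter m).symm.trans (h (.a 1))
    exact QuaternionGroup.a.inj h1
  have hu1 : u = 1 := by
    obtain ⟨w, hw⟩ : IsUnit u := IsUnit.of_pow_eq_one hum hm.pos.ne'
    rw [← hw, units_pow_two k w hm (Units.ext (by rw [Units.val_pow_eq_pow_val, hw, hum, Units.val_one])),
      Units.val_one]
  obtain ⟨v, hv⟩ : ∃ v : ZMod (2 * 2 ^ k), φ (.xa 0) = .xa v := by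
    rcases hc : φ (.xa 0) with v | v
    · exfalso
      have h1 : φ (.a v) = φ (.xa 0) := by rw [ha', hu1, mul_one, hc]
      exact (fun e : (QuaternionGroup.a v : QuaternionGroup (2 ^ k)) = .xa 0 => nomatch e) (φ.injective h1)
    · exact ⟨v, rfl⟩
  have hxa : ∀ r, φ (.xa r) = .xa (r + v) := fun r => by
    rw [show (QuaternionGroup.xa r : QuaternionGroup (2 ^ k)) = .xa 0 * .a r by
      rw [QuaternionGroup.xa_mul_a, zero_add], map_mul, hv, ha', hu1, mul_one, QuaternionGroup.xa_mul_a, add_comm]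
  have hiter2 : ∀ n : ℕ, φ^[n] (.xa 0) = .xa ((n : ZMod (2 * 2 ^ k)) * v) := by
    intro n
    induction n with
    | zero => simp
    | succ n ih => rw [Function.iterate_succ_apply', ih, hxa]; push_cast; congr 1; ring
  have hv0 : v = 0 := by
    have h1 := QuaternionGroup.xa.inj ((hiter2 m).symm.trans (h (.xa 0)))
    have h2 : IsUnit ((m : ℕ) : ZMod (2 * 2 ^ k)) :=
      (ZMod.isUnit_iff_coprime m _).2 (by
        rw [show 2 * 2 ^ k = 2 ^ (k + 1) by ring]
        exact hm.coprime_two_right.pow_right _)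
    exact h2.mul_right_eq_zero.1 h1
  rintro (r | r)
  · rw [ha', hu1, mul_one]
  · rw [hxa, hv0, add_zero]

theorem exists_qdata (hodd : Odd (Fintype.card F)) : Nonempty (QData F) := by
  obtain ⟨P₀⟩ : Nonempty (Sylow 2 (SL F)) := inferInstance
  obtain ⟨k, hk, ⟨e₀⟩⟩ := CfsgLib.Linear.SylowTwoSL.exists_quaternion hodd P₀
  haveI : NeZero (2 ^ k) := ⟨by positivity⟩
  have h2k : ((2 ^ (k - 1) : ℕ) : ZMod (2 * 2 ^ k)) + (2 ^ (k - 1) : ℕ) = ((2 ^ k : ℕ) : ZMod (2 * 2 ^ k)) := by
    rw [← Nat.cast_add]; congr 1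
    conv_rhs => rw [show k = k - 1 + 1 by omega, pow_succ, mul_two]
  set I : QuaternionGroup (2 ^ k) := .a ((2 ^ (k - 1) : ℕ) : ZMod (2 * 2 ^ k)) with hI
  set N : QuaternionGroup (2 ^ k) := .a ((2 ^ k : ℕ) : ZMod (2 * 2 ^ k)) with hN
  set J : QuaternionGroup (2 ^ k) := .xa 0 with hJ
  have hNo : N * N = 1 ∧ N ≠ 1 := by
    refine ⟨?_, fun h => ?_⟩
    · rw [hN, QuaternionGroup.a_mul_a, QuaternionGroup.one_def, ← Nat.cast_add,
        show 2 ^ k + 2 ^ k = 2 * 2 ^ k by ring, ZMod.natCast_self]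
    · rw [hN, QuaternionGroup.one_def] at h
      have h1 := QuaternionGroup.a.inj h
      rw [ZMod.natCast_eq_zero_iff] at h1
      have := Nat.le_of_dvd (by positivity) h1
      have := Nat.two_pow_pos k
      omega
  have hxx : ∀ r : ZMod (2 * 2 ^ k), (QuaternionGroup.xa r : QuaternionGroup (2 ^ k)) * .xa r = N := fun r => by
    rw [hN, QuaternionGroup.xa_mul_xa]; congr 1; simp
  have key : ∀ (P : Sylow 2 (SL F)) (e : (P : Subgroup (SL F)) ≃* QuaternionGroup (2 ^ k)),
      (e.symm N : SL F) = negOne F := fun P e => by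
    refine CfsgLib.Linear.SylowTwoSL.eq_neg_one hodd (fun h => hNo.2 ?_) ?_
    · rw [← e.apply_symm_apply N, show e.symm N = 1 from Subtype.ext h, map_one]
    · rw [← Subgroup.coe_mul, ← map_mul, hNo.1, map_one, Subgroup.coe_one]
  have hII : I * I = N := by rw [hI, hN, QuaternionGroup.a_mul_a, h2k]
  have hi0 : (mt (e₀.symm I : SL F)).trace = 0 := trace_zero_of_sq hodd (by
    rw [← Subgroup.coe_mul, ← map_mul, hII, key])
  obtain ⟨g, hg⟩ := isConj_iff.1 (conj_std hodd _ hi0).symm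
  set P := g • P₀ with hP
  have hPm : ∀ x : (P₀ : Subgroup (SL F)), g * (x : SL F) * g⁻¹ ∈ (P : Subgroup (SL F)) := fun x => ⟨_, x.2, rfl⟩
  let e : (P : Subgroup (SL F)) ≃* QuaternionGroup (2 ^ k) := (P₀.equiv P).symm.trans e₀
  let f : QuaternionGroup (2 ^ k) →* SL F :=
    (MulAut.conj g).toMonoidHom.comp ((P₀ : Subgroup (SL F)).subtype.comp e₀.symm.toMonoidHom)
  have hf : ∀ y, f y ∈ (P : Subgroup (SL F)) := fun y => hPm (e₀.symm y)
  have hfs : ∀ x ∈ (P : Subgroup (SL F)), ∃ y, f y = x := by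
    rintro x ⟨x₀, hx₀, rfl⟩
    exact ⟨e₀ ⟨x₀, hx₀⟩, by simp [f]⟩
  have hfN : f N = negOne F := by
    show g * (e₀.symm N : SL F) * g⁻¹ = negOne F
    rw [key, ← negOne_comm, mul_inv_cancel_right]
  have hfi : (f I : Matrix (Fin 2) (Fin 2) F) = cM F := by
    show ((g * (e₀.symm I : SL F) * g⁻¹ : SL F) : Matrix (Fin 2) (Fin 2) F) = cM F
    rw [hg]; rfl
  refine ⟨⟨P, f I, f J, hf I, hf J, hfi, ?_, ?_, ?_, ?_⟩⟩
  · rw [← map_mul, hxx, hfN]
  · rw [← map_mul, ← hfN, ← map_mul, ← map_mul, hI, hJ, hN, QuaternionGroup.xa_mul_a, QuaternionGroup.a_mul_xa,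
      QuaternionGroup.a_mul_xa]
    congr 2
    have hz : ((2 ^ k : ℕ) : ZMod (2 * 2 ^ k)) * 2 = 0 := by
      rw [← ZMod.natCast_self (2 * 2 ^ k)]; push_cast; ring
    linear_combination h2k + hz
  · intro x hx
    obtain ⟨y, rfl⟩ := hfs x hx
    rcases y with r | r
    · refine Or.inr ⟨f (.xa 0), hf _, f (.xa (r - (2 ^ k : ℕ))), hf _, ?_, ?_, ?_⟩
      · rw [← map_mul, hxx, hfN]
      · rw [← map_mul, hxx, hfN]
      · rw [← map_mul, QuaternionGroup.xa_mul_xa]; congr 2; ring
    · exact Or.inl (by rw [← map_mul, hxx, hfN])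
  · rcases Nat.lt_or_ge k 2 with h | h
    · refine Or.inr fun x hx => ?_
      obtain ⟨y, rfl⟩ := hfs x hx
      obtain rfl : k = 1 := by omega
      have hall : ∀ y : QuaternionGroup (2 ^ 1), y = 1 ∨ y = N ∨ y = I ∨ y = N * I ∨ y = J ∨ y = N * J ∨
          y = I * J ∨ y = N * (I * J) := by
        rw [hI, hN, hJ]; decide
      rcases hall y with rfl | rfl | rfl | rfl | rfl | rfl | rfl | rfl <;> simp [hfN]
    · refine Or.inl fun a ha hn x hx => ?_
      let c : (P : Subgroup (SL F)) →* (P : Subgroup (SL F)) :=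
        ((MulAut.conj a).toMonoidHom.comp (P : Subgroup (SL F)).subtype).codRestrict _ fun z => hn z z.2
      have hc : Function.Bijective c := by
        refine Finite.injective_iff_bijective.1 fun z w hzw => Subtype.ext ?_
        exact (MulAut.conj a).injective (congrArg Subtype.val hzw)
      let φ := (e.symm.trans (MulEquiv.ofBijective c hc)).trans e
      have hiter : ∀ (n : ℕ) (z : QuaternionGroup (2 ^ k)),
          (e.symm (φ^[n] z) : SL F) = a ^ n * (e.symm z : SL F) * (a ^ n)⁻¹ := by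
        intro n
        induction n with
        | zero => intro z; simp
        | succ n ih =>
          intro z
          rw [Function.iterate_succ_apply', show e.symm (φ (φ^[n] z)) = c (e.symm (φ^[n] z)) from
            e.symm_apply_apply _]
          show a * (e.symm (φ^[n] z) : SL F) * a⁻¹ = _
          rw [ih, pow_succ']
          group
      have h1 := quaternion_aut_trivial h φ ha (fun z => e.symm.injective (Subtype.ext (by
        rw [hiter, pow_orderOf_eq_one]; simp))) (e ⟨x, hx⟩)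
      have h2 := congrArg (fun z => (e.symm z : SL F)) h1
      have h3 := hiter 1 (e ⟨x, hx⟩)
      simp only [Function.iterate_one] at h3
      rw [h3] at h2
      simpa using h2

end CfsgLib.SpFour
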