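import Mathlib

/-!
Matrices with `t - 1` of rank one.
-/

set_option autoImplicit false

namespace CfsgLib.Linear.RankOne

open Matrix

variable {F ι : Type*} [Field F] [Fintype ι] [DecidableEq ι]

theorem exists_vec {t : Matrix ι ι F} (ht : (t - 1).rank = 1) :
    ∃ (v : ι → F) (lam : (ι → F) →ₗ[F] F), v ≠ 0 ∧ (∃ x, lam x ≠ 0) ∧
      ∀ x, t *ᵥ x = x + lam x • v := by
  obtain ⟨⟨v, hv⟩, hv0, hspan⟩ := finrank_eq_one_iff'.1 (by rwa [Matrix.rank] at ht)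
  have hv0' : v ≠ 0 := fun e => hv0 (Subtype.ext e)
  have hmem : ∀ x, (t - 1) *ᵥ x ∈ Submodule.span F {v} := fun x => by
    obtain ⟨c, hc⟩ := hspan ⟨(t - 1) *ᵥ x, ⟨x, rfl⟩⟩
    rw [Submodule.mem_span_singleton]
    exact ⟨c, congrArg Subtype.val hc⟩
  let E : F ≃ₗ[F] Submodule.span F {v} := LinearEquiv.toSpanNonzeroSingleton F (ι → F) v hv0'
  let lam : (ι → F) →ₗ[F] F := E.symm.toLinearMap ∘ₗ (Matrix.mulVecLin (t - 1)).codRestrict _ hmem
  have hlam : ∀ x, lam x • v = (t - 1) *ᵥ x := fun x =>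
    congrArg Subtype.val (E.apply_symm_apply ⟨(t - 1) *ᵥ x, hmem x⟩)
  obtain ⟨x, hx⟩ := hv
  refine ⟨v, lam, hv0', ⟨x, fun e => hv0' ?_⟩, fun x => ?_⟩
  · have h := hlam x
    rw [e, zero_smul] at h
    exact hx.symm.trans h.symm
  · rw [hlam, Matrix.sub_mulVec, Matrix.one_mulVec, add_sub_cancel]

end CfsgLib.Linear.RankOne
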