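import Cfsg.Agent.ZJ.DicksonThm
import Cfsg.Agent.Classical.SylowTwoSL

/-!
Subgroups of `SL₂` in odd characteristic with several Sylow `p`-subgroups contain `SL₂(p)`.
-/

set_option autoImplicit false
set_option linter.unusedSectionVars false
set_option linter.style.haveILetI false

namespace CfsgLib.Linear.PrimeFieldSL

open Matrix
open CfsgLib.ZJ (upper lower upper_mul lower_mul upper_pow lower_pow upper_zero lower_zero)

variable {F : Type*} [Field F]

/-- `SL₂(F)`. -/
abbrev SL2F (F : Type*) [Field F] := Matrix.SpecialLinearGroup (Fin 2) F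

theorem sq_zero_of_pow_zero (N : Matrix (Fin 2) (Fin 2) F) {m : ℕ} (h : N ^ m = 0) :
    N * N = 0 := by
  have hdet : N.det = 0 := by
    have := congrArg Matrix.det h
    rw [Matrix.det_pow, Matrix.det_zero] at this
    exact eq_zero_of_pow_eq_zero this
  have hch : N * N = N.trace • N := by
    rw [Matrix.det_fin_two] at hdet
    ext i j
    fin_cases i <;> fin_cases j <;>
      simp [Matrix.mul_apply, Fin.sum_univ_two, Matrix.trace_fin_two] <;>
      first | linear_combination -hdet | ring
  have hk : ∀ k : ℕ, N ^ (k + 1) = N.trace ^ k • N := fun k => by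
    induction k with
    | zero => simp
    | succ k ih => rw [pow_succ, ih, Matrix.smul_mul, hch, smul_smul, pow_succ]
  rcases m with _ | m
  · have h0 : N = 0 := by rw [← mul_one N, ← pow_zero N, h, mul_zero]
    rw [h0, mul_zero]
  · rw [hk] at h
    rcases smul_eq_zero.1 h with e | e
    · rw [hch, eq_zero_of_pow_eq_zero e, zero_smul]
    · rw [e, mul_zero]

/-- A `p`-element of order `p` is conjugate to `upper 1` under `GL₂`. -/
theorem exists_conj_upper (p : ℕ) [Fact p.Prime] [CharP F p] (x : SL2F F) (hx : x ^ p = 1)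
    (hx1 : x ≠ 1) :
    ∃ φ : SL2F F →* SL2F F, Function.Injective φ ∧ φ x = upper 1 := by
  set N : Matrix (Fin 2) (Fin 2) F := (x : Matrix (Fin 2) (Fin 2) F) - 1 with hN
  have hNp : N ^ p = 0 := by
    rw [hN, sub_pow_char_of_commute (p := p) (Commute.one_right _), one_pow,
      ← Matrix.SpecialLinearGroup.coe_pow, hx, Matrix.SpecialLinearGroup.coe_one, sub_self]
  have hNN := sq_zero_of_pow_zero N hNp
  obtain ⟨i, j, hij⟩ : ∃ i j, N i j ≠ 0 := by
    by_contra hc
    push Not at hc
    exact hx1 (Subtype.ext (sub_eq_zero.1 (show N = 0 by ext i j; exact hc i j)))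
  -- the basis `(N v, v)` for a coordinate vector `v`
  let G : Matrix (Fin 2) (Fin 2) F := Matrix.of fun a b =>
    if b = 0 then N a j else (1 : Matrix (Fin 2) (Fin 2) F) a j
  have hxG : (x : Matrix (Fin 2) (Fin 2) F) * G = G * !![1, 1; 0, 1] := by
    have e : (x : Matrix (Fin 2) (Fin 2) F) = N + 1 := (sub_add_cancel _ _).symm
    have h2 : ∀ a, N a 0 * N 0 j + N a 1 * N 1 j = 0 := fun a => by
      have := congrFun (congrFun hNN a) j
      simpa [Matrix.mul_apply, Fin.sum_univ_two] using this
    rw [e, Matrix.add_mul, Matrix.one_mul]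
    ext a b
    fin_cases b
    · simp [G, Matrix.mul_apply, Fin.sum_univ_two, h2 a]
    · rcases (show j = 0 ∨ j = 1 by omega) with rfl | rfl <;> fin_cases a <;>
        simp [G, Matrix.mul_apply, Fin.sum_univ_two]
  have hG : G.det ≠ 0 := by
    have h2 : ∀ a, N a 0 * N 0 j + N a 1 * N 1 j = 0 := fun a => by
      have := congrFun (congrFun hNN a) j
      simpa [Matrix.mul_apply, Fin.sum_univ_two] using this
    rw [Matrix.det_fin_two]
    rcases (show j = 0 ∨ j = 1 by omega) with rfl | rfl <;>
      rcases (show i = 0 ∨ i = 1 by omega) with rfl | rfl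
    · intro h0
      simp [G] at h0
      have := h2 0
      rw [h0, mul_zero, add_zero] at this
      exact hij (mul_self_eq_zero.1 this)
    · intro h0
      simp [G] at h0
      exact hij h0
    · intro h0
      simp [G] at h0
      exact hij h0
    · intro h0
      simp [G] at h0
      have := h2 1
      rw [h0, mul_zero, zero_add] at this
      exact hij (mul_self_eq_zero.1 this)
  let U : (Matrix (Fin 2) (Fin 2) F)ˣ := Matrix.GeneralLinearGroup.mkOfDetNeZero G hG
  let φ : SL2F F →* SL2F F :=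
    { toFun := fun A => ⟨((U⁻¹ : (Matrix (Fin 2) (Fin 2) F)ˣ) : Matrix (Fin 2) (Fin 2) F) *
        (A : Matrix (Fin 2) (Fin 2) F) * (U : Matrix (Fin 2) (Fin 2) F), by
          rw [Matrix.det_units_conj']; exact A.2⟩
      map_one' := Subtype.ext (by simp)
      map_mul' := fun A B => Subtype.ext (show
          ((U⁻¹ : (Matrix (Fin 2) (Fin 2) F)ˣ) : Matrix (Fin 2) (Fin 2) F) *
              ((A : Matrix (Fin 2) (Fin 2) F) * (B : Matrix (Fin 2) (Fin 2) F)) *
              (U : Matrix (Fin 2) (Fin 2) F) =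
            (((U⁻¹ : (Matrix (Fin 2) (Fin 2) F)ˣ) : Matrix (Fin 2) (Fin 2) F) *
              (A : Matrix (Fin 2) (Fin 2) F) * (U : Matrix (Fin 2) (Fin 2) F)) *
            (((U⁻¹ : (Matrix (Fin 2) (Fin 2) F)ˣ) : Matrix (Fin 2) (Fin 2) F) *
              (B : Matrix (Fin 2) (Fin 2) F) * (U : Matrix (Fin 2) (Fin 2) F)) by
        simp only [Matrix.mul_assoc, Units.mul_inv_cancel_left]) }
  refine ⟨φ, fun A B h => Subtype.ext ?_, Subtype.ext ?_⟩
  · have := congrArg Subtype.val h
    change ((U⁻¹ : (Matrix (Fin 2) (Fin 2) F)ˣ) : Matrix (Fin 2) (Fin 2) F) * _ * _ =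
      ((U⁻¹ : (Matrix (Fin 2) (Fin 2) F)ˣ) : Matrix (Fin 2) (Fin 2) F) * _ * _ at this
    exact (Units.mul_right_inj _).1 ((Units.mul_left_inj _).1 this)
  · show ((U⁻¹ : (Matrix (Fin 2) (Fin 2) F)ˣ) : Matrix (Fin 2) (Fin 2) F) * _ * G = !![1, 1; 0, 1]
    rw [Matrix.mul_assoc, hxG, ← Matrix.mul_assoc, show G = (U : Matrix (Fin 2) (Fin 2) F) from rfl,
      Units.inv_mul, Matrix.one_mul]

variable [Fintype F] (p : ℕ) [Fact p.Prime] [CharP F p]

/-- Dickson: a subgroup with several Sylow `p`-subgroups contains a copy of `SL₂(p)`. -/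
theorem exists_sl_prime (hp : p ≠ 2) (H : Subgroup (SL2F F)) (hH : 1 < Nat.card (Sylow p H)) :
    ∃ K : Subgroup (SL2F F), K ≤ H ∧
      Nonempty (K ≃* Matrix.SpecialLinearGroup (Fin 2) (ZMod p)) := by
  classical
  have hpp : p.Prime := Fact.out
  have hodd : Odd (Fintype.card F) := by
    obtain ⟨n, -, hn⟩ := FiniteField.card F p
    rw [hn]
    exact Odd.pow (hpp.odd_of_ne_two hp)
  have hdvd : p ∣ Nat.card H := by
    by_contra hnd
    have : Subsingleton (Sylow p H) := ⟨fun P Q => Sylow.ext (by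
      have key : ∀ P : Sylow p H, (P : Subgroup H) = ⊥ := fun P => by
        rw [← Subgroup.card_eq_one, P.card_eq_multiplicity,
          Nat.factorization_eq_zero_of_not_dvd hnd, pow_zero]
      rw [key P, key Q])⟩
    rw [Nat.card_of_subsingleton (default : Sylow p H)] at hH
    omega
  obtain ⟨⟨x, hxH⟩, hxo⟩ := exists_prime_orderOf_dvd_card' (G := H) p hdvd
  rw [Subgroup.orderOf_mk] at hxo
  obtain ⟨φ, hφ, hφx⟩ := exists_conj_upper p x (orderOf_dvd_iff_pow_eq_one.1 hxo.dvd)
    (fun e => by rw [e, orderOf_one] at hxo; exact hpp.one_lt.ne hxo)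
  -- some element moves the fixed line
  obtain ⟨g, hg, hg0⟩ : ∃ g ∈ H, φ g 1 0 ≠ 0 := by
    by_contra hc
    push Not at hc
    let μ : H →* F :=
      { toFun := fun a => φ a 0 0
        map_one' := by simp
        map_mul' := fun a b => by
          rw [Subgroup.coe_mul, map_mul, CfsgLib.ZJ.sl2_mul, hc _ b.2, mul_zero, add_zero] }
    have hker : IsPGroup p μ.ker := by
      rintro ⟨a, ha⟩
      refine ⟨1, Subtype.ext (Subtype.ext (hφ ?_))⟩
      have h00 : φ a 0 0 = 1 := ha
      have hd := CfsgLib.ZJ.sl2_det (φ a)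
      rw [h00, hc _ a.2, mul_zero, sub_zero, one_mul] at hd
      have e : φ a = upper (φ a 0 1) :=
        CfsgLib.ZJ.sl2_ext (by rw [h00, CfsgLib.ZJ.upper_00]) (by rw [CfsgLib.ZJ.upper_01])
          (by rw [hc _ a.2, CfsgLib.ZJ.upper_10]) (by rw [hd, CfsgLib.ZJ.upper_11])
      rw [pow_one, SubgroupClass.coe_pow, SubgroupClass.coe_pow, map_pow, e, upper_pow,
        CharP.cast_eq_zero, zero_mul, upper_zero]
      simp
    have key : ∀ P : Sylow p H, (P : Subgroup H) = μ.ker := by
      intro P
      refine (P.is_maximal' hker fun a ha => ?_).symm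
      obtain ⟨k, hk⟩ := P.isPGroup' ⟨a, ha⟩
      have h1 : μ a ^ p ^ k = 1 := by
        rw [← map_pow, show a ^ p ^ k = 1 from congrArg Subtype.val hk, map_one]
      rw [MonoidHom.mem_ker]
      have h2 : iterateFrobenius F p k (μ a) = iterateFrobenius F p k 1 := by
        rw [iterateFrobenius_def, iterateFrobenius_def, h1, one_pow]
      exact (iterateFrobenius F p k).injective h2
    have : Subsingleton (Sylow p H) := ⟨fun P Q => Sylow.ext ((key P).trans (key Q).symm)⟩
    rw [Nat.card_of_subsingleton (default : Sylow p H)] at hH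
    omega
  set H' := H.map φ with hH'
  set L := H' ⊔ Subgroup.center (SL2F F) with hL
  have hneg : (-1 : SL2F F) ∈ L := by
    refine (le_sup_right : _ ≤ L) ?_
    rw [show (-1 : SL2F F) = CfsgLib.SL2C.negOne F from Subtype.ext (by
      rw [show ((CfsgLib.SL2C.negOne F : SL2F F) : Matrix (Fin 2) (Fin 2) F) = -1 from
        CfsgLib.SL2C.mt_negOne]
      simp)]
    exact CfsgLib.SL2C.negOne_mem_center
  have hu : upper (1 : F) ∈ H' := ⟨x, hxH, hφx⟩
  obtain ⟨t, ht⟩ := CfsgLib.ZJ.SL2Count.exists_conj_lower (L := L) hp hneg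
    ((le_sup_left : _ ≤ L) hu) ⟨φ g, (le_sup_left : _ ≤ L) ⟨g, hg, rfl⟩⟩ hg0
  -- the conjugate lies in `H'` already
  have hlow : upper t * lower 1 * (upper t)⁻¹ ∈ H' := by
    set y := upper t * lower 1 * (upper t)⁻¹ with hy
    have hyp : y ^ p = 1 := by
      rw [hy, conj_pow, lower_pow, CharP.cast_eq_zero, zero_mul, lower_zero, mul_one,
        mul_inv_cancel]
    obtain ⟨a, ha, z, hz, e⟩ := Subgroup.mem_sup_of_normal_right.1 ht
    have hzz : z * z = 1 := CfsgLib.SL2C.mul_self_eq_one_of_center hz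
    have haz : a = y * z := by rw [← e, mul_assoc, hzz, mul_one]
    obtain ⟨j, hj⟩ := hpp.odd_of_ne_two hp
    have : a ^ (p + 1) = y := by
      have hc : Commute y z := Subgroup.mem_center_iff.1 hz y
      rw [haz, hc.mul_pow, pow_succ, hyp, one_mul, show p + 1 = 2 * (j + 1) by omega, pow_mul,
        pow_two, hzz, one_pow, mul_one]
    exact this ▸ pow_mem ha _
  let φ' : SL2F F ≃* SL2F F := MulEquiv.ofBijective φ ⟨hφ, Finite.injective_iff_surjective.1 hφ⟩
  let ψ : Matrix.SpecialLinearGroup (Fin 2) (ZMod p) →* SL2F F :=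
    φ'.symm.toMonoidHom.comp ((MulAut.conj (upper t)).toMonoidHom.comp
      (Matrix.SpecialLinearGroup.map (ZMod.castHom dvd_rfl F)))
  have hψ : Function.Injective ψ := by
    refine φ'.symm.injective.comp ((MulAut.conj (upper t)).injective.comp ?_)
    intro A B h
    ext i j
    exact (ZMod.castHom dvd_rfl F).injective
      (congrFun (congrFun (congrArg Subtype.val h) i) j)
  refine ⟨ψ.range, ?_, ⟨(MonoidHom.ofInjective hψ).symm⟩⟩
  have hmem : ∀ A, φ (ψ A) ∈ H' := by
    intro A
    have hφψ : φ (ψ A) = upper t * Matrix.SpecialLinearGroup.map (ZMod.castHom dvd_rfl F) A *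
        (upper t)⁻¹ := φ'.apply_symm_apply _
    rw [hφψ]
    let S : Subgroup (Matrix.SpecialLinearGroup (Fin 2) (ZMod p)) :=
      H'.comap ((MulAut.conj (upper t)).toMonoidHom.comp
        (Matrix.SpecialLinearGroup.map (ZMod.castHom dvd_rfl F)))
    have hup : upper t * upper 1 * (upper t)⁻¹ ∈ H' := by
      rw [CfsgLib.ZJ.upper_inv, upper_mul, upper_mul, show t + 1 + -t = (1 : F) by ring]
      exact hu
    refine CfsgLib.ZJ.sl2_upper_lower_induction A S (fun a => ?_) (fun a => ?_)
    · obtain ⟨n, rfl⟩ := ZMod.natCast_zmod_surjective a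
      have e : Matrix.SpecialLinearGroup.map (ZMod.castHom dvd_rfl F) (upper (n : ZMod p)) =
          upper (1 : F) ^ n := by
        rw [upper_pow, mul_one]
        apply Subtype.ext
        rw [Matrix.SpecialLinearGroup.map_apply_coe]
        ext i j
        fin_cases i <;> fin_cases j <;> simp [upper]
      show upper t * _ * (upper t)⁻¹ ∈ H'
      rw [e, ← conj_pow]
      exact pow_mem hup n
    · obtain ⟨n, rfl⟩ := ZMod.natCast_zmod_surjective a
      have e : Matrix.SpecialLinearGroup.map (ZMod.castHom dvd_rfl F) (lower (n : ZMod p)) =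
          lower (1 : F) ^ n := by
        rw [lower_pow, mul_one]
        apply Subtype.ext
        rw [Matrix.SpecialLinearGroup.map_apply_coe]
        ext i j
        fin_cases i <;> fin_cases j <;> simp [lower]
      show upper t * _ * (upper t)⁻¹ ∈ H'
      rw [e, ← conj_pow]
      exact pow_mem hlow n
  rintro _ ⟨A, rfl⟩
  obtain ⟨h, hh, he⟩ := hmem A
  exact hφ he ▸ hh

/-- The Sylow 2-subgroups of such a subgroup are generalised quaternion. -/
theorem exists_quaternion_sylow (hp : p ≠ 2) (H : Subgroup (SL2F F))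
    (hH : 1 < Nat.card (Sylow p H)) (S : Sylow 2 H) :
    ∃ k : ℕ, 1 ≤ k ∧ Nonempty ((S : Subgroup H) ≃* QuaternionGroup (2 ^ k)) := by
  classical
  have hpp : p.Prime := Fact.out
  have := Fact.mk Nat.prime_two
  have hodd : Odd (Fintype.card F) := by
    obtain ⟨n, -, hn⟩ := FiniteField.card F p
    rw [hn]
    exact Odd.pow (hpp.odd_of_ne_two hp)
  have hu : ∀ a b : (S : Subgroup H), orderOf a = 2 → orderOf b = 2 →
      b ∈ Subgroup.zpowers a := by
    intro a b ha hb
    have key : ∀ y : (S : Subgroup H), orderOf y = 2 →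
        ((y : H) : SL2F F) = CfsgLib.SL2C.negOne F := by
      intro y hy
      have hy' : orderOf ((y : H) : SL2F F) = 2 := by
        rw [Subgroup.orderOf_coe, Subgroup.orderOf_coe, hy]
      refine CfsgLib.Linear.SylowTwoSL.eq_neg_one hodd (fun e => ?_) ?_
      · rw [e, orderOf_one] at hy'
        omega
      · rw [← pow_two]
        exact orderOf_dvd_iff_pow_eq_one.1 hy'.dvd
    rw [show b = a from Subtype.ext (Subtype.ext ((key b hb).trans (key a ha).symm))]
    exact Subgroup.mem_zpowers a
  rcases CfsgLib.UniqueInvol.cyclic_or_quaternion S.isPGroup' hu with hc | ⟨-, hn⟩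
  · exfalso
    obtain ⟨K, hKH, ⟨e⟩⟩ := exists_sl_prime p hp H hH
    obtain ⟨Q⟩ : Nonempty (Sylow 2 (Matrix.SpecialLinearGroup (Fin 2) (ZMod p))) := inferInstance
    have hoddp : Odd (Fintype.card (ZMod p)) := by rw [ZMod.card]; exact hpp.odd_of_ne_two hp
    obtain ⟨k, hk, ⟨q⟩⟩ := CfsgLib.Linear.SylowTwoSL.exists_quaternion hoddp Q
    let ι : Matrix.SpecialLinearGroup (Fin 2) (ZMod p) →* H :=
      (Subgroup.inclusion hKH).comp e.symm.toMonoidHom
    have hι : Function.Injective ι := (Subgroup.inclusion_injective hKH).comp e.symm.injective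
    obtain ⟨S', hS'⟩ := (Q.isPGroup'.map ι).exists_le_sylow
    have hc' : IsCyclic (S' : Subgroup H) :=
      isCyclic_of_surjective (S.equiv S').toMonoidHom (S.equiv S').surjective
    let j : QuaternionGroup (2 ^ k) →* (S' : Subgroup H) :=
      (Subgroup.inclusion hS').comp
        (((Q : Subgroup _).equivMapOfInjective ι hι).toMonoidHom.comp q.symm.toMonoidHom)
    have hj : Function.Injective j := (Subgroup.inclusion_injective hS').comp
      ((((Q : Subgroup _).equivMapOfInjective ι hι).injective).comp q.symm.injective)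
    have hcomm := hj (show j (QuaternionGroup.a 1 * QuaternionGroup.xa 0) =
        j (QuaternionGroup.xa 0 * QuaternionGroup.a 1) by
      rw [map_mul, map_mul]
      letI := hc'.commGroup
      exact mul_comm _ _)
    rw [QuaternionGroup.a_mul_xa, QuaternionGroup.xa_mul_a] at hcomm
    injection hcomm with h1
    have h2 : ((2 : ℕ) : ZMod (2 * 2 ^ k)) = 0 := by
      push_cast
      linear_combination -h1
    have h3 := Nat.le_of_dvd two_pos ((ZMod.natCast_eq_zero_iff 2 _).1 h2)
    have : 2 ≤ 2 ^ k := Nat.le_self_pow (by omega) 2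
    omega
  · exact hn

end CfsgLib.Linear.PrimeFieldSL
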