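import Cfsg.Agent.Classical.InvolutionRing
import Mathlib

/-!
Semisimple elements preserving a bilinear form: idempotents for the eigenvalues 1, -1, and
norms in the commutative algebra generated by the element and a self-adjoint unit.
-/

set_option autoImplicit false
set_option linter.style.haveILetI false
set_option linter.deprecated false

namespace CfsgLib.SemiConj

open Matrix

variable {F : Type*} [Field F] {ν : Type*} [Fintype ν] [DecidableEq ν]

/-- The adjoint for the bilinear form with Gram matrix `G` (with inverse `G'`). -/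
def adjG (G G' M : Matrix ν ν F) : Matrix ν ν F := G' * Mᵀ * G

variable {G G' : Matrix ν ν F}

omit [DecidableEq ν] in
theorem adjG_add (M N : Matrix ν ν F) : adjG G G' (M + N) = adjG G G' M + adjG G G' N := by
  simp [adjG, mul_add, add_mul]

omit [DecidableEq ν] in
theorem adjG_sub (M N : Matrix ν ν F) : adjG G G' (M - N) = adjG G G' M - adjG G G' N := by
  simp [adjG, mul_sub, sub_mul]

omit [DecidableEq ν] in
theorem adjG_smul (c : F) (M : Matrix ν ν F) : adjG G G' (c • M) = c • adjG G G' M := by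
  simp [adjG]

omit [DecidableEq ν] in
theorem adjG_sum {α : Type*} (s : Finset α) (f : α → Matrix ν ν F) :
    adjG G G' (∑ i ∈ s, f i) = ∑ i ∈ s, adjG G G' (f i) := by
  simp [adjG, Matrix.transpose_sum, Finset.mul_sum, Finset.sum_mul]

theorem adjG_mul (hG : G * G' = 1) (M N : Matrix ν ν F) :
    adjG G G' (M * N) = adjG G G' N * adjG G G' M := by
  simp only [adjG, Matrix.transpose_mul]
  rw [show G' * Nᵀ * G * (G' * Mᵀ * G) = G' * Nᵀ * (G * G') * Mᵀ * G by simp only [mul_assoc],
    hG, mul_one]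
  simp only [mul_assoc]

theorem adjG_one (hG : G * G' = 1) : adjG G G' 1 = 1 := by
  rw [adjG, Matrix.transpose_one, mul_one]
  exact mul_eq_one_comm.1 hG

theorem adjG_pow (hG : G * G' = 1) (M : Matrix ν ν F) (k : ℕ) :
    adjG G G' (M ^ k) = adjG G G' M ^ k := by
  induction k with
  | zero => simp [adjG_one hG]
  | succ k ih => rw [pow_succ, adjG_mul hG, ih, ← pow_succ']

theorem adjG_adjG (hG : G * G' = 1) {ε : F} (hε : Gᵀ = ε • G) (hεε : ε * ε = 1) (M : Matrix ν ν F) :
    adjG G G' (adjG G G' M) = M := by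
  have hG' : G'ᵀ = ε • G' := by
    have h1 : G'ᵀ * (ε • G) = 1 := by
      rw [← hε, ← Matrix.transpose_mul, hG, Matrix.transpose_one]
    calc G'ᵀ = G'ᵀ * (ε • G) * (ε • G') := by
          rw [mul_assoc, smul_mul_smul_comm, hεε, one_smul, hG, mul_one]
      _ = ε • G' := by rw [h1, one_mul]
  have h : G' * G = 1 := mul_eq_one_comm.1 hG
  simp only [adjG, Matrix.transpose_mul, Matrix.transpose_transpose, hε, hG']
  simp only [smul_mul_assoc, mul_smul_comm, smul_smul, hεε, one_smul]
  rw [show G' * (G * (M * G')) * G = (G' * G) * M * (G' * G) by simp only [mul_assoc], h, one_mul, mul_one]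

/-- The average of the powers of `A`. -/
def avg (A : Matrix ν ν F) (N : ℕ) : Matrix ν ν F := (N : F)⁻¹ • ∑ i ∈ Finset.range N, A ^ i

variable {A : Matrix ν ν F} {N : ℕ}

theorem mul_sum_pow (hA : A ^ N = 1) :
    A * ∑ i ∈ Finset.range N, A ^ i = ∑ i ∈ Finset.range N, A ^ i := by
  have h : ∑ i ∈ Finset.range N, A ^ (i + 1) = ∑ i ∈ Finset.range N, A ^ i := by
    have h1 := Finset.sum_range_succ' (fun i => A ^ i) N
    have h2 := Finset.sum_range_succ (fun i => A ^ i) N
    rw [h1, hA, pow_zero] at h2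
    exact add_right_cancel h2
  rw [Finset.mul_sum]
  simp only [← pow_succ']
  exact h

theorem mul_avg (hA : A ^ N = 1) : A * avg A N = avg A N := by
  rw [avg, mul_smul_comm, mul_sum_pow hA]

theorem pow_mul_avg (hA : A ^ N = 1) (k : ℕ) : A ^ k * avg A N = avg A N := by
  induction k with
  | zero => simp
  | succ k ih => rw [pow_succ, mul_assoc, mul_avg hA, ih]

theorem avg_mul_of_fix (hN : (N : F) ≠ 0) {P : Matrix ν ν F} (hP : A * P = P) : avg A N * P = P := by
  have h : ∀ k, A ^ k * P = P := fun k => by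
    induction k with
    | zero => simp
    | succ k ih => rw [pow_succ, mul_assoc, hP, ih]
  rw [avg, smul_mul_assoc, Finset.sum_mul, Finset.sum_congr rfl (fun i _ => h i), Finset.sum_const,
    Finset.card_range, ← Nat.cast_smul_eq_nsmul F, smul_smul, inv_mul_cancel₀ hN, one_smul]

theorem avg_idem (hN : (N : F) ≠ 0) (hA : A ^ N = 1) : avg A N * avg A N = avg A N :=
  avg_mul_of_fix hN (mul_avg hA)

theorem commute_avg {M : Matrix ν ν F} (h : Commute M A) (N : ℕ) : Commute M (avg A N) :=
  (Commute.sum_right _ _ _ fun i _ => h.pow_right i).smul_right _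

theorem avg_mem {S : Subalgebra F (Matrix ν ν F)} (h : A ∈ S) (N : ℕ) : avg A N ∈ S :=
  S.smul_mem (S.sum_mem fun i _ => pow_mem h i) _

theorem adjG_avg (hG : G * G' = 1) {ε : F} (hε : Gᵀ = ε • G) (hεε : ε * ε = 1) (hN : (N : F) ≠ 0)
    (hA : A ^ N = 1) (hJ : adjG G G' A * A = 1) : adjG G G' (avg A N) = avg A N := by
  set P := avg A N with hP
  have hfix : adjG G G' A * P = P := by
    conv_lhs => rw [hP, ← mul_avg hA, ← mul_assoc, hJ, one_mul]
  have h1 : adjG G G' P * P = P := by
    have h := avg_mul_of_fix (A := adjG G G' A) hN hfix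
    rwa [show avg (adjG G G' A) N = adjG G G' P by
      rw [hP, avg, avg, adjG_smul, adjG_sum]
      simp only [adjG_pow hG]] at h
  have h2 := congrArg (adjG G G') h1
  rw [adjG_mul hG, adjG_adjG hG hε hεε, h1] at h2
  exact h2.symm

theorem exists_sub_one_mul (hN : (N : F) ≠ 0) (hA : A ^ N = 1) :
    ∃ W : Matrix ν ν F, (A - 1) * W = 1 - avg A N ∧ Commute A W ∧
      ∀ S : Subalgebra F (Matrix ν ν F), A ∈ S → W ∈ S := by
  have key : ∀ n, (A - 1) * ∑ i ∈ Finset.range n, (i : F) • A ^ i =
      (n : F) • A ^ n - A * ∑ i ∈ Finset.range n, A ^ i := by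
    intro n
    induction n with
    | zero => simp
    | succ n ih =>
      rw [Finset.sum_range_succ, mul_add, ih, Finset.sum_range_succ, mul_add, ← pow_succ', mul_smul_comm,
        sub_mul, one_mul, ← pow_succ', smul_sub, Nat.cast_succ, add_smul, one_smul]
      abel
  refine ⟨(N : F)⁻¹ • ∑ i ∈ Finset.range N, (i : F) • A ^ i, ?_, ?_, fun S hS => ?_⟩
  · rw [mul_smul_comm, key, hA, mul_sum_pow hA, smul_sub, smul_smul, inv_mul_cancel₀ hN, one_smul]
    rfl
  · exact (Commute.sum_right _ _ _ fun i _ => (((Commute.refl A).pow_right i).smul_right _)).smul_right _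
  · exact S.smul_mem (S.sum_mem fun i _ => S.smul_mem (pow_mem hS i) _) _

/-- The norm equation away from the eigenvalues `1` and `-1`. -/
theorem exists_core [Finite F] (hG : G * G' = 1) {ε : F} (hε : Gᵀ = ε • G) (hεε : ε * ε = 1)
    (hN : (N : F) ≠ 0) (hA : A ^ N = 1) (hJ : adjG G G' A * A = 1) {H : Matrix ν ν F}
    (hAH : Commute A H) (hH : adjG G G' H = H) (hu : IsUnit H) :
    ∃ C K : Matrix ν ν F, Commute A C ∧ Commute A K ∧
      (1 - avg (A ^ 2) N) * C = C ∧ K * C = 1 - avg (A ^ 2) N ∧ C * K = 1 - avg (A ^ 2) N ∧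
      adjG G G' C * C = (1 - avg (A ^ 2) N) * H ∧ adjG G G' K * H * K = 1 - avg (A ^ 2) N := by
  classical
  set E := avg (A ^ 2) N with hE
  have hA2 : (A ^ 2) ^ N = 1 := by rw [← pow_mul, mul_comm, pow_mul, hA, one_pow]
  have hJ2 : adjG G G' (A ^ 2) * A ^ 2 = 1 := by
    rw [adjG_pow hG, sq, sq, mul_assoc, ← mul_assoc (adjG G G' A) A A, hJ, one_mul, hJ]
  set s : Set (Matrix ν ν F) := {A, H} with hs
  have hcomm : ∀ a ∈ s, ∀ b ∈ s, a * b = b * a := by
    rintro a (rfl | rfl) b (rfl | rfl)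
    · rfl
    · exact hAH.eq
    · exact hAH.eq.symm
    · rfl
  set R := Algebra.adjoin F s
  letI : CommRing R := Algebra.adjoinCommRingOfComm F hcomm
  haveI : Finite (Matrix ν ν F) := inferInstanceAs (Finite (ν → ν → F))
  have hAR : A ∈ R := Algebra.subset_adjoin (Or.inl rfl)
  have hHR : H ∈ R := Algebra.subset_adjoin (Or.inr rfl)
  have hpre : adjG G G' A = A ^ (N - 1) := by
    have hN0 : N ≠ 0 := fun h => hN (by simp [h])
    refine left_inv_eq_right_inv hJ ?_
    rw [← pow_succ', Nat.sub_add_cancel (Nat.one_le_iff_ne_zero.2 hN0), hA]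
  have hJR : ∀ M ∈ R, adjG G G' M ∈ R := by
    intro M hM
    induction hM using Algebra.adjoin_induction with
    | mem x hx =>
      rcases hx with rfl | rfl
      · rw [hpre]; exact pow_mem hAR _
      · rw [hH]; exact hHR
    | algebraMap c =>
      rw [Algebra.algebraMap_eq_smul_one, adjG_smul, adjG_one hG]
      exact R.smul_mem (one_mem R) _
    | add x y _ _ hx hy => rw [adjG_add]; exact add_mem hx hy
    | mul x y _ _ hx hy => rw [adjG_mul hG]; exact mul_mem hy hx
  let τ : R ≃+* R :=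
    { toFun := fun a => ⟨adjG G G' a.1, hJR _ a.2⟩
      invFun := fun a => ⟨adjG G G' a.1, hJR _ a.2⟩
      left_inv := fun a => Subtype.ext (adjG_adjG hG hε hεε _)
      right_inv := fun a => Subtype.ext (adjG_adjG hG hε hεε _)
      map_mul' := fun a b => Subtype.ext ((adjG_mul hG a.1 b.1).trans
        (congrArg Subtype.val (mul_comm (⟨_, hJR _ b.2⟩ : R) ⟨_, hJR _ a.2⟩)))
      map_add' := fun a b => Subtype.ext (adjG_add a.1 b.1) }
  have hτ : ∀ x, τ (τ x) = x := fun x => Subtype.ext (adjG_adjG hG hε hεε _)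
  have hER : E ∈ R := avg_mem (pow_mem hAR 2) N
  set e : R := ⟨E, hER⟩ with he
  have hτe : τ e = e := Subtype.ext (adjG_avg hG hε hεε hN hA2 hJ2)
  have hee : e * e = e := Subtype.ext (avg_idem hN hA2)
  set I : Ideal R := Ideal.span {e}
  have hI : I = Ideal.map (τ : R →+* R) I := by
    rw [Ideal.map_span, Set.image_singleton]
    exact congrArg (fun x => Ideal.span {x}) hτe.symm
  let σ : R ⧸ I ≃+* R ⧸ I := Ideal.quotientEquiv I I τ hI
  have hσ : ∀ x, σ (Ideal.Quotient.mk I x) = Ideal.Quotient.mk I (τ x) := fun x =>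
    Ideal.quotientEquiv_mk _ _ _ _ _
  haveI : Finite (R ⧸ I) := Finite.of_surjective _ Ideal.Quotient.mk_surjective
  have hkill : ∀ {x y : R}, Ideal.Quotient.mk I x = Ideal.Quotient.mk I y → x * (1 - e) = y * (1 - e) := by
    intro x y h
    obtain ⟨r, hr⟩ := Ideal.mem_span_singleton'.1 (Ideal.Quotient.eq.1 h)
    linear_combination (1 - e) * hr.symm - r * hee
  obtain ⟨u, rfl⟩ := hu
  have hinv : (↑u⁻¹ : Matrix ν ν F) ∈ R := by
    have h : u⁻¹ = u ^ (orderOf u - 1) := by
      rw [inv_eq_iff_mul_eq_one, ← pow_succ', Nat.sub_add_cancel (orderOf_pos u), pow_orderOf_eq_one]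
    rw [h, Units.val_pow_eq_pow_val]
    exact pow_mem hHR _
  set hh : R := ⟨(u : Matrix ν ν F), hHR⟩
  set hi : R := ⟨(↑u⁻¹ : Matrix ν ν F), hinv⟩
  have hhi : hh * hi = 1 := Subtype.ext (Units.mul_inv u)
  have hτh : τ hh = hh := Subtype.ext hH
  set a : R := ⟨A, hAR⟩
  have ha : τ a * a = 1 := Subtype.ext hJ
  obtain ⟨W, hW, -, hWS⟩ := exists_sub_one_mul hN hA2
  set w : R := ⟨W, hWS R (pow_mem hAR 2)⟩
  have haw : (a ^ 2 - 1) * w = 1 - e := Subtype.ext hW
  have hd : IsUnit (Ideal.Quotient.mk I a - σ (Ideal.Quotient.mk I a)) := by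
    refine IsUnit.of_mul_eq_one (Ideal.Quotient.mk I (a * w)) ?_
    rw [hσ, ← map_sub, ← map_mul, ← map_one (Ideal.Quotient.mk I), Ideal.Quotient.eq]
    refine Ideal.mem_span_singleton'.2 ⟨-1, ?_⟩
    linear_combination -haw + w * ha
  obtain ⟨z, hz⟩ := CfsgLib.InvolRing.exists_norm σ (fun x => by
      obtain ⟨x, rfl⟩ := Ideal.Quotient.mk_surjective x
      rw [hσ, hσ, hτ]) hd (h := Ideal.Quotient.mk I hh) (by rw [hσ, hτh])
    ((IsUnit.of_mul_eq_one hi hhi).map _)
  obtain ⟨z, rfl⟩ := Ideal.Quotient.mk_surjective z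
  rw [hσ, ← map_mul] at hz
  have hz' := hkill hz
  have hff : (1 - e) * (1 - e) = 1 - e := by linear_combination hee
  set c : R := z * (1 - e) with hc
  have hτc : τ c = τ z * (1 - e) := by rw [hc, map_mul, map_sub, map_one, hτe]
  have hcc : τ c * c = (1 - e) * hh := by
    rw [hτc, hc]
    linear_combination (1 - e) * hz' + hh * hff
  set k : R := τ c * hi
  have hkc : k * c = 1 - e := by linear_combination hi * hcc + (1 - e) * hhi
  have hτhi : τ hi = hi := by
    have h := congrArg τ hhi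
    rw [map_mul, hτh, map_one] at h
    linear_combination hi * h - τ hi * hhi
  have hkk : τ k * hh * k = 1 - e := by
    rw [show τ k = c * hi by rw [show k = τ c * hi from rfl, map_mul, hτ, hτhi]]
    linear_combination hkc + c * τ c * hi * hhi
  refine ⟨c.1, k.1, congrArg Subtype.val (mul_comm a c), congrArg Subtype.val (mul_comm a k),
    congrArg Subtype.val (show (1 - e) * c = c by linear_combination z * hff),
    congrArg Subtype.val hkc, congrArg Subtype.val ((mul_comm c k).trans hkc),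
    congrArg Subtype.val hcc, congrArg Subtype.val hkk⟩

end CfsgLib.SemiConj
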