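import Cfsg.Agent.Classical.SemisimpleCore
import Cfsg.Agent.Forms.Quadratic

/-!
Semisimple elements of odd order of orthogonal groups are conjugate iff they are linearly conjugate.
-/

set_option autoImplicit false
set_option linter.style.haveILetI false

namespace CfsgLib.SemiConj

open Matrix

variable {F : Type*} [Field F] {ν : Type*} [Fintype ν] [DecidableEq ν]

omit [Fintype ν] [DecidableEq ν] in
theorem map_sub_polar (Q : QuadraticForm F (ν → F)) (a b : ν → F) :
    Q (a - b) = Q a + Q b - QuadraticMap.polar Q a b := by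
  have h : QuadraticMap.polar Q a (-b) = -QuadraticMap.polar Q a b := QuadraticMap.polar_neg_right Q a b
  rw [QuadraticMap.polar, ← sub_eq_add_neg, QuadraticMap.map_neg] at h
  linear_combination h

/-- A linear conjugator between isometries of odd order prime to the characteristic can be
replaced by an isometry. -/
theorem exists_orth_conj [Finite F] (Q : QuadraticForm F (ν → F))
    (hQ : (QuadraticMap.polarBilin Q).Nondegenerate) {A B X : Matrix ν ν F} {N : ℕ}
    (hN : (N : F) ≠ 0) (hodd : Odd N) (hA : A ^ N = 1) (hQA : ∀ v, Q (A *ᵥ v) = Q v)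
    (hQB : ∀ v, Q (B *ᵥ v) = Q v) (hX : IsUnit X) (hXA : X * A = B * X) :
    ∃ g : (ν → F) ≃ₗ[F] (ν → F), (∀ v, Q (g v) = Q v) ∧ ∀ v, g (A *ᵥ v) = B *ᵥ g v := by
  classical
  set G : Matrix ν ν F := LinearMap.BilinForm.toMatrix' (QuadraticMap.polarBilin Q) with hGdef
  have hpol : ∀ u v, u ⬝ᵥ (G *ᵥ v) = QuadraticMap.polar Q u v := fun u v => by
    rw [← Matrix.toBilin'_apply', hGdef, Matrix.toBilin'_toMatrix']
    rfl
  obtain ⟨G', hG⟩ : ∃ G', G * G' = 1 := by
    refine ((Matrix.isUnit_iff_isUnit_det G).2 (isUnit_iff_ne_zero.2 ?_)).exists_right_inv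
    exact (LinearMap.BilinForm.nondegenerate_toBilin'_iff_det_ne_zero).1
      (by rwa [hGdef, Matrix.toBilin'_toMatrix'])
  have hε : Gᵀ = (1 : F) • G := by
    rw [one_smul]
    refine Matrix.toBilin'.injective (LinearMap.ext₂ fun u v => ?_)
    rw [Matrix.toBilin'_apply', Matrix.toBilin'_apply', dotProduct_mulVec, Matrix.vecMul_transpose,
      dotProduct_comm, hpol, hpol, QuadraticMap.polar_comm]
  have hadj : ∀ M : Matrix ν ν F, (∀ v, Q (M *ᵥ v) = Q v) → adjG G G' M * M = 1 := by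
    intro M hM
    have h : Mᵀ * G * M = G := by
      refine Matrix.toBilin'.injective (LinearMap.ext₂ fun u v => ?_)
      rw [Matrix.toBilin'_apply', Matrix.toBilin'_apply']
      simp only [← Matrix.mulVec_mulVec]
      rw [dotProduct_mulVec, Matrix.vecMul_transpose, hpol, hpol, QuadraticMap.polar, QuadraticMap.polar,
        ← Matrix.mulVec_add, hM, hM, hM]
    rw [adjG, mul_assoc, mul_assoc, ← mul_assoc Mᵀ, h]
    exact mul_eq_one_comm.1 hG
  have hJA := hadj A hQA
  have hJB := hadj B hQB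
  set H := adjG G G' X * X with hH
  have hGH : G * H = Xᵀ * G * X := by
    rw [hH, adjG, ← mul_assoc, ← mul_assoc, ← mul_assoc, hG, one_mul]
  have hHu : IsUnit H := by
    obtain ⟨u, rfl⟩ := hX
    refine IsUnit.mul (IsUnit.of_mul_eq_one (adjG G G' (↑u⁻¹ : Matrix ν ν F)) ?_) u.isUnit
    rw [← adjG_mul hG, Units.inv_mul, adjG_one hG]
  have hJH : adjG G G' H = H := by rw [hH, adjG_mul hG, adjG_adjG hG hε (mul_one 1)]
  have hAH : Commute A H := by
    have h1 : A * adjG G G' X = adjG G G' X * B := by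
      have hXB : adjG G G' A * adjG G G' X = adjG G G' X * adjG G G' B := by
        rw [← adjG_mul hG, ← adjG_mul hG, hXA]
      calc A * adjG G G' X = A * (adjG G G' X * (adjG G G' B * B)) := by rw [hJB, mul_one]
        _ = A * (adjG G G' A * adjG G G' X * B) := by rw [hXB]; simp only [mul_assoc]
        _ = adjG G G' X * B := by simp only [← mul_assoc, mul_eq_one_comm.1 hJA, one_mul]
    show A * H = H * A
    rw [hH, ← mul_assoc, h1, mul_assoc, mul_assoc, hXA]
  obtain ⟨C, K, -, hAK, hEC, hKC, hCK, -, hKK⟩ := exists_core hG hε (mul_one 1) hN hA hJA hAH hJH hHu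
  have hA2 : (A ^ 2) ^ N = 1 := by rw [← pow_mul, mul_comm, pow_mul, hA, one_pow]
  set E := avg (A ^ 2) N with hE
  have hJE : adjG G G' E = E := adjG_avg hG hε (mul_one 1) hN hA2 (by
    rw [adjG_pow hG, sq, sq, mul_assoc, ← mul_assoc (adjG G G' A) A A, hJA, one_mul, hJA])
  have hEE : E * E = E := avg_idem hN hA2
  have hAE : A * E = E := by
    obtain ⟨k, hk⟩ := hodd
    have h : A = (A ^ 2) ^ (k + 1) := by
      rw [← pow_mul, show 2 * (k + 1) = N + 1 by omega, pow_succ, hA, one_mul]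
    nth_rw 1 [h]
    exact pow_mul_avg hA2 _
  have hAEc : Commute A E := commute_avg ((Commute.refl A).pow_right 2) N
  have hGE : Eᵀ * G = G * E := by
    conv_rhs => rw [← hJE, adjG, ← mul_assoc, ← mul_assoc, hG, one_mul]
  obtain ⟨W, hW, hAW, -⟩ := exists_sub_one_mul hN hA2
  let V' : Submodule F (ν → F) := LinearMap.ker E.mulVecLin
  have hfix : ∀ x, E *ᵥ x = 0 → (1 - E) *ᵥ x = x := fun x hx => by
    rw [Matrix.sub_mulVec, Matrix.one_mulVec, hx, sub_zero]
  set P := X * K with hP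
  have hpolP : ∀ u v, E *ᵥ v = 0 → QuadraticMap.polar Q (P *ᵥ u) (P *ᵥ v) = QuadraticMap.polar Q u v := by
    intro u v hv
    have h : Pᵀ * G * P = G * (1 - E) := by
      rw [← hKK, hP, Matrix.transpose_mul,
        show Kᵀ * Xᵀ * G * (X * K) = Kᵀ * (Xᵀ * G * X) * K by simp only [mul_assoc], ← hGH, adjG]
      simp only [← mul_assoc]
      rw [hG, one_mul]
    rw [← hpol, ← hpol, ← Matrix.vecMul_transpose, ← dotProduct_mulVec, Matrix.mulVec_mulVec,
      Matrix.mulVec_mulVec, h, ← Matrix.mulVec_mulVec, hfix v hv]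
  have hPA : P * A = B * P := by
    rw [hP, mul_assoc, ← hAK.eq, ← mul_assoc, hXA, mul_assoc]
  have hEA : ∀ x, E *ᵥ x = 0 → E *ᵥ (A *ᵥ x) = 0 := fun x hx => by
    rw [Matrix.mulVec_mulVec, ← hAEc.eq, ← Matrix.mulVec_mulVec, hx, Matrix.mulVec_zero]
  let φ : V' →ₗ[F] (ν → F) := P.mulVecLin ∘ₗ V'.subtype
  obtain ⟨X', hX'⟩ := hX.exists_right_inv
  have hX'X : X' * X = 1 := mul_eq_one_comm.1 hX'
  have hinj : Function.Injective φ := by
    intro a b hab
    have h : P *ᵥ ((a : ν → F) - b) = 0 := by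
      rw [Matrix.mulVec_sub]
      exact sub_eq_zero.2 hab
    have h2 := congrArg (fun z => (C * X') *ᵥ z) h
    simp only [Matrix.mulVec_zero, Matrix.mulVec_mulVec] at h2
    rw [hP, show C * X' * (X * K) = C * (X' * X) * K by simp only [mul_assoc], hX'X, mul_one, hCK,
      hfix _ (LinearMap.mem_ker.1 (sub_mem a.2 b.2))] at h2
    exact Subtype.ext (sub_eq_zero.1 h2)
  have hφ : ∀ a : V', Q (φ a) = Q (a : ν → F) := by
    rintro ⟨x, hx⟩
    have hx0 : E *ᵥ x = 0 := hx
    set y := ((A + 1) * W) *ᵥ x with hy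
    have hEy : E *ᵥ y = 0 := by
      have hWE : Commute W E := commute_avg (hAW.symm) N
      have h : E * ((A + 1) * W) = ((A + 1) * W) * E :=
        (((hAEc.symm).add_right (Commute.one_right E)).mul_right hWE.symm).eq
      rw [hy, Matrix.mulVec_mulVec, h, ← Matrix.mulVec_mulVec, hx0, Matrix.mulVec_zero]
    have hxy : x = A *ᵥ y - y := by
      conv_lhs => rw [← hfix x hx0, ← hW]
      rw [hy, show (A ^ 2 - 1) = (A - 1) * (A + 1) by rw [sq]; noncomm_ring, mul_assoc,
        ← Matrix.mulVec_mulVec, Matrix.sub_mulVec, Matrix.one_mulVec]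
    show Q (P *ᵥ x) = Q x
    rw [hxy, Matrix.mulVec_sub, map_sub_polar, map_sub_polar, hpolP _ _ hEy, hQA]
    have h1 : Q (P *ᵥ (A *ᵥ y)) = Q (P *ᵥ y) := by
      rw [Matrix.mulVec_mulVec, hPA, ← Matrix.mulVec_mulVec, hQB]
    have h2 := hpolP y y hEy
    rw [QuadraticMap.polar_self, QuadraticMap.polar_self] at h2
    rw [h1]
    linear_combination h2
  obtain ⟨g, hg, hgφ⟩ := CfsgLib.Forms.quad_witt hQ V' φ hinj hφ
  have hgV : ∀ x, E *ᵥ x = 0 → g x = P *ᵥ x := fun x hx => hgφ ⟨x, hx⟩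
  refine ⟨g, hg, fun v => ?_⟩
  have hsplit : v = (1 - E) *ᵥ v + E *ᵥ v := by
    rw [← Matrix.add_mulVec, sub_add_cancel, Matrix.one_mulVec]
  have h0 : ∀ u, E *ᵥ ((1 - E) *ᵥ u) = 0 := fun u => by
    rw [Matrix.mulVec_mulVec, mul_sub, mul_one, hEE, sub_self, Matrix.zero_mulVec]
  suffices hfx : B *ᵥ g (E *ᵥ v) = g (E *ᵥ v) by
    conv_lhs => rw [hsplit]
    conv_rhs => rw [hsplit]
    rw [Matrix.mulVec_add, map_add, map_add, Matrix.mulVec_add, hfx, Matrix.mulVec_mulVec v A E, hAE,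
      hgV _ (hEA _ (h0 v)), hgV _ (h0 v), Matrix.mulVec_mulVec, Matrix.mulVec_mulVec, hPA,
      ← Matrix.mulVec_mulVec, ← Matrix.mulVec_mulVec]
  set w := g (E *ᵥ v) with hw
  set u := X' *ᵥ w with hu
  have hXu : X *ᵥ u = w := by rw [hu, Matrix.mulVec_mulVec, hX', Matrix.one_mulVec]
  have hperp : ∀ z, E *ᵥ z = 0 → QuadraticMap.polar Q w (P *ᵥ z) = 0 := by
    intro z hz
    rw [← hgV z hz, hw, QuadraticMap.polar, ← map_add, hg, hg, hg]
    show QuadraticMap.polar Q (E *ᵥ v) z = 0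
    rw [← hpol, ← Matrix.vecMul_transpose, ← dotProduct_mulVec, Matrix.mulVec_mulVec, hGE,
      ← Matrix.mulVec_mulVec, hz, Matrix.mulVec_zero, dotProduct_zero]
  have hu0 : (1 - E) *ᵥ u = 0 := by
    refine dotProduct_eq_zero _ fun z => ?_
    obtain ⟨H', hH'⟩ := hHu.exists_right_inv
    have h := hperp (C *ᵥ (H' *ᵥ (G' *ᵥ z))) (by rw [← hEC, ← Matrix.mulVec_mulVec, h0])
    rw [← hpol, ← hXu, ← Matrix.vecMul_transpose, ← dotProduct_mulVec] at h
    simp only [Matrix.mulVec_mulVec] at h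
    have hcomm : Commute H (1 - E) :=
      (Commute.one_right H).sub_right (commute_avg (hAH.symm.pow_right 2) N)
    rw [hP, show Xᵀ * (G * (X * K * (C * (H' * G')))) = Xᵀ * G * X * (K * C) * (H' * G') by
      simp only [mul_assoc], ← hGH] at h
    rw [← Matrix.vecMul_transpose, ← dotProduct_mulVec]
    rw [show (1 - E)ᵀ = G * (1 - E) * G' by
      rw [Matrix.transpose_sub, Matrix.transpose_one, mul_sub, mul_one, sub_mul, hG, ← hGE, mul_assoc,
        hG, mul_one]]
    rw [hKC, mul_assoc G H, hcomm.eq,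
      show G * ((1 - E) * H) * (H' * G') = G * (1 - E) * (H * H') * G' by simp only [mul_assoc],
      hH', mul_one] at h
    exact h
  have hAu : A *ᵥ u = u := by
    rw [Matrix.sub_mulVec, Matrix.one_mulVec, sub_eq_zero] at hu0
    conv_lhs => rw [hu0]
    rw [Matrix.mulVec_mulVec, hAE, ← hu0]
  rw [← hXu, Matrix.mulVec_mulVec, ← hXA, ← Matrix.mulVec_mulVec, hAu]

end CfsgLib.SemiConj
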