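import Cfsg.Agent.Classical.SemisimpleCore
import Cfsg.Agent.Forms.OfBilin

/-!
Semisimple elements of symplectic groups are conjugate iff they are linearly conjugate.
-/

set_option autoImplicit false
set_option linter.style.haveILetI false

namespace CfsgLib.SemiConj

open Matrix

variable {F : Type*} [Field F]

/-- Two nondegenerate alternating forms on the same space are equivalent. -/
theorem exists_alt_equiv {W : Type*} [AddCommGroup W] [Module F W] [FiniteDimensional F W]
    (B₀ B₁ : LinearMap.BilinForm F W) (h₀ : B₀.IsAlt) (h₁ : B₁.IsAlt)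
    (n₀ : ∀ x, (∀ y, B₀ x y = 0) → x = 0) (n₁ : ∀ x, (∀ y, B₁ x y = 0) → x = 0) :
    ∃ φ : W ≃ₗ[F] W, ∀ x y, B₀ (φ x) (φ y) = B₁ x y := by
  obtain ⟨m, k, b, hb1, hb2, hb3, hb4⟩ := CfsgLib.Forms.exists_symplectic_basis _ W B₀ h₀ rfl
  obtain ⟨m', k', c, hc1, hc2, hc3, hc4⟩ := CfsgLib.Forms.exists_symplectic_basis _ W B₁ h₁ rfl
  obtain rfl : k = 0 := by
    rcases Nat.eq_zero_or_pos k with h | h
    · exact h
    · exact absurd (n₀ _ (hb4 ⟨0, h⟩)) (b.ne_zero _)
  obtain rfl : k' = 0 := by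
    rcases Nat.eq_zero_or_pos k' with h | h
    · exact h
    · exact absurd (n₁ _ (hc4 ⟨0, h⟩)) (c.ne_zero _)
  obtain rfl : m = m' := by
    have h1 := Module.finrank_eq_card_basis b
    have h2 := Module.finrank_eq_card_basis c
    simp only [Fintype.card_sum, Fintype.card_fin] at h1 h2
    omega
  refine ⟨c.equiv b (Equiv.refl _), fun x y => ?_⟩
  have key : B₀.compl₁₂ (c.equiv b (Equiv.refl _)).toLinearMap (c.equiv b (Equiv.refl _)).toLinearMap = B₁ := by
    refine c.ext fun i => c.ext fun j => ?_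
    simp only [LinearMap.compl₁₂_apply, LinearEquiv.coe_coe, Module.Basis.equiv_apply, Equiv.refl_apply]
    rcases i with (i | i) | i <;> rcases j with (j | j) | j <;>
      first
      | exact i.elim0
      | exact j.elim0
      | rw [hb2, hc2]
      | rw [hb3, hc3]
      | rw [hb1, hc1]
      | rw [← LinearMap.IsAlt.neg h₀, ← LinearMap.IsAlt.neg h₁, hb1, hc1]
  exact LinearMap.congr_fun₂ key x y

variable {ν : Type*} [Fintype ν] [DecidableEq ν] {G G' : Matrix ν ν F}

/-- Equivalence of the two alternating forms on the image of a self-adjoint idempotent. -/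
theorem exists_block (hG : G * G' = 1) (halt : ∀ x : ν → F, x ⬝ᵥ (G *ᵥ x) = 0) {f X : Matrix ν ν F}
    (hff : f * f = f) (hf : adjG G G' f = f) (hX : IsUnit X)
    (hcom : Commute f (adjG G G' X * X)) :
    ∃ D : Matrix ν ν F, f * D = D ∧ D * f = D ∧ adjG G G' D * D = f * (adjG G G' X * X) := by
  classical
  set H := adjG G G' X * X with hH
  have hGG : G' * G = 1 := mul_eq_one_comm.1 hG
  have hfG : fᵀ * G = G * f := by
    conv_rhs => rw [← hf, adjG, ← mul_assoc, ← mul_assoc, hG, one_mul]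
  let W : Submodule F (ν → F) := LinearMap.range f.mulVecLin
  have hfix : ∀ x : W, f *ᵥ (x : ν → F) = x := by
    rintro ⟨x, y, rfl⟩
    simp [Matrix.mulVec_mulVec, hff]
  let B₀ : LinearMap.BilinForm F W := (Matrix.toBilin' G).restrict W
  let B₁ : LinearMap.BilinForm F W := (Matrix.toBilin' (G * H)).restrict W
  have hB0 : ∀ x y : W, B₀ x y = (x : ν → F) ⬝ᵥ (G *ᵥ (y : ν → F)) := fun x y =>
    Matrix.toBilin'_apply' _ _ _
  have hB1 : ∀ x y : W, B₁ x y = (x : ν → F) ⬝ᵥ ((G * H) *ᵥ (y : ν → F)) := fun x y =>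
    Matrix.toBilin'_apply' _ _ _
  have hGH : G * H = Xᵀ * G * X := by
    rw [hH, adjG, ← mul_assoc, ← mul_assoc, ← mul_assoc, hG, one_mul]
  have h0 : B₀.IsAlt := fun x => by rw [hB0, halt]
  have h1 : B₁.IsAlt := fun x => by
    rw [hB1, hGH, mul_assoc, ← Matrix.mulVec_mulVec, dotProduct_mulVec, Matrix.vecMul_transpose,
      ← Matrix.mulVec_mulVec, halt]
  have nd : ∀ M : Matrix ν ν F, IsUnit M → Commute f M → ∀ x : W,
      (∀ y : W, (x : ν → F) ⬝ᵥ ((G * M) *ᵥ (y : ν → F)) = 0) → x = 0 := by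
    intro M hM hfM x hx
    obtain ⟨N, hN⟩ := hM.exists_right_inv
    have h : ∀ z, (x : ν → F) ⬝ᵥ z = 0 := by
      intro z
      have h2 := hx ⟨f *ᵥ (N *ᵥ (G' *ᵥ z)), _, rfl⟩
      rw [Matrix.mulVec_mulVec, mul_assoc, ← hfM.eq, ← mul_assoc, ← hfG, Matrix.mulVec_mulVec,
        mul_assoc, mul_assoc, hN, mul_one, ← Matrix.mulVec_mulVec, Matrix.mulVec_mulVec _ G G',
        hG, Matrix.one_mulVec, dotProduct_mulVec, Matrix.vecMul_transpose, hfix] at h2
      exact h2
    exact Subtype.ext (dotProduct_eq_zero _ h)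
  obtain ⟨φ, hφ⟩ := exists_alt_equiv B₀ B₁ h0 h1
    (fun x hx => nd 1 isUnit_one (Commute.one_right f) x fun y => by rw [mul_one, ← hB0]; exact hx y)
    (fun x hx => nd H (by
      obtain ⟨u, rfl⟩ := hX
      refine IsUnit.mul (IsUnit.of_mul_eq_one (adjG G G' (↑u⁻¹ : Matrix ν ν F)) ?_) u.isUnit
      rw [← adjG_mul hG, Units.inv_mul, adjG_one hG]) hcom x fun y => by rw [← hB1]; exact hx y)
  set L : (ν → F) →ₗ[F] (ν → F) :=
    W.subtype ∘ₗ φ.toLinearMap ∘ₗ f.mulVecLin.rangeRestrict with hL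
  set D := LinearMap.toMatrix' L with hD
  have hDx : ∀ x, D *ᵥ x = (φ ⟨f *ᵥ x, x, rfl⟩ : ν → F) := fun x => by
    rw [hD, ← Matrix.toLin'_apply, Matrix.toLin'_toMatrix']
    rfl
  refine ⟨D, ?_, ?_, ?_⟩
  · refine Matrix.toLin'.injective (LinearMap.ext fun x => ?_)
    rw [Matrix.toLin'_apply, Matrix.toLin'_apply, ← Matrix.mulVec_mulVec, hDx]
    exact hfix _
  · refine Matrix.toLin'.injective (LinearMap.ext fun x => ?_)
    rw [Matrix.toLin'_apply, Matrix.toLin'_apply, ← Matrix.mulVec_mulVec, hDx, hDx]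
    simp [Matrix.mulVec_mulVec, hff]
  · have key : Dᵀ * G * D = fᵀ * (G * H) * f := by
      refine Matrix.toBilin'.injective (LinearMap.ext₂ fun x y => ?_)
      rw [Matrix.toBilin'_apply', Matrix.toBilin'_apply']
      simp only [← Matrix.mulVec_mulVec]
      rw [dotProduct_mulVec, Matrix.vecMul_transpose, dotProduct_mulVec (v := x),
        Matrix.vecMul_transpose, hDx, hDx, ← hB0, hφ, hB1, ← Matrix.mulVec_mulVec]
    calc adjG G G' D * D = G' * (Dᵀ * G * D) := by simp only [adjG, mul_assoc]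
      _ = G' * (G * f) * H * f := by rw [key, ← hfG]; simp only [mul_assoc]
      _ = f * H * f := by rw [← mul_assoc G', hGG, one_mul]
      _ = f * H := by rw [hcom.eq, mul_assoc, hff]

/-- A linear conjugator between semisimple isometries of an alternating form can be corrected. -/
theorem exists_symp_conj [Finite F] (hG : G * G' = 1) (hε : Gᵀ = (-1 : F) • G)
    (halt : ∀ x : ν → F, x ⬝ᵥ (G *ᵥ x) = 0) {A B X : Matrix ν ν F} {N : ℕ} (hN : (N : F) ≠ 0)
    (hA : A ^ N = 1) (hJA : adjG G G' A * A = 1) (hJB : adjG G G' B * B = 1) (hX : IsUnit X)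
    (hXA : X * A = B * X) :
    ∃ Y : Matrix ν ν F, adjG G G' Y * Y = 1 ∧ Y * A = B * Y := by
  classical
  have hεε : (-1 : F) * -1 = 1 := by norm_num
  set H := adjG G G' X * X with hH
  have hHu : IsUnit H := by
    obtain ⟨u, rfl⟩ := hX
    refine IsUnit.mul (IsUnit.of_mul_eq_one (adjG G G' (↑u⁻¹ : Matrix ν ν F)) ?_) u.isUnit
    rw [← adjG_mul hG, Units.inv_mul, adjG_one hG]
  have hJH : adjG G G' H = H := by rw [hH, adjG_mul hG, adjG_adjG hG hε hεε]
  have hAH : Commute A H := by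
    have h1 : A * adjG G G' X = adjG G G' X * B := by
      have hXB : adjG G G' A * adjG G G' X = adjG G G' X * adjG G G' B := by
        rw [← adjG_mul hG, ← adjG_mul hG, hXA]
      calc A * adjG G G' X = A * (adjG G G' X * (adjG G G' B * B)) := by rw [hJB, mul_one]
        _ = A * (adjG G G' A * adjG G G' X * B) := by rw [hXB]; simp only [mul_assoc]
        _ = adjG G G' X * B := by simp only [← mul_assoc, mul_eq_one_comm.1 hJA, one_mul]
    show A * H = H * A
    rw [hH, ← mul_assoc, h1, mul_assoc, mul_assoc, hXA]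
  obtain ⟨C, K, hAC, -, hEC, -, -, hCC, -⟩ := exists_core hG hε hεε hN hA hJA hAH hJH hHu
  have hA2 : (A ^ 2) ^ N = 1 := by rw [← pow_mul, mul_comm, pow_mul, hA, one_pow]
  have hJ2 : adjG G G' (A ^ 2) * A ^ 2 = 1 := by
    rw [adjG_pow hG, sq, sq, mul_assoc, ← mul_assoc (adjG G G' A) A A, hJA, one_mul, hJA]
  set E := avg (A ^ 2) N with hE
  set f := avg A N with hf
  set g := E - f with hg
  have hJE : adjG G G' E = E := adjG_avg hG hε hεε hN hA2 hJ2
  have hJf : adjG G G' f = f := adjG_avg hG hε hεε hN hA hJA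
  have hff : f * f = f := avg_idem hN hA
  have hEE : E * E = E := avg_idem hN hA2
  have hEf : E * f = f := avg_mul_of_fix hN (by rw [sq, mul_assoc, mul_avg hA, mul_avg hA])
  have hfE : f * E = f := by
    have h : Commute f E := commute_avg ((commute_avg (Commute.refl A) N).symm.pow_right 2) N
    rw [h.eq, hEf]
  have hJg : adjG G G' g = g := by rw [hg, adjG_sub, hJE, hJf]
  have hgg : g * g = g := by rw [hg, sub_mul, mul_sub, mul_sub, hEE, hEf, hfE, hff]; abel
  have hHA : Commute H A := hAH.symm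
  have hHf : Commute f H := (commute_avg hHA N).symm
  have hHE : Commute E H := (commute_avg (hHA.pow_right 2) N).symm
  obtain ⟨D₁, hfD, hDf, hD1⟩ := exists_block hG halt hff hJf hX hHf
  obtain ⟨D₂, hgD, hDg, hD2⟩ := exists_block hG halt hgg hJg hX (hHE.sub_left hHf)
  have hAE : A * E + E = f + f := by
    have h1 : ∀ n, (∑ i ∈ Finset.range n, A * (A ^ 2) ^ i) + ∑ i ∈ Finset.range n, (A ^ 2) ^ i =
        ∑ j ∈ Finset.range (2 * n), A ^ j := by
      intro n
      induction n with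
      | zero => simp
      | succ n ih =>
        rw [show 2 * (n + 1) = 2 * n + 1 + 1 by omega, Finset.sum_range_succ _ (2 * n + 1),
          Finset.sum_range_succ _ (2 * n), ← ih, Finset.sum_range_succ, Finset.sum_range_succ,
          ← pow_mul, ← pow_succ']
        abel
    have h2 : ∑ j ∈ Finset.range (2 * N), A ^ j =
        (∑ j ∈ Finset.range N, A ^ j) + ∑ j ∈ Finset.range N, A ^ j := by
      rw [two_mul, Finset.sum_range_add]
      congr 1
      refine Finset.sum_congr rfl fun i _ => ?_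
      rw [pow_add, hA, one_mul]
    rw [hE, hf, avg, avg, mul_smul_comm, ← smul_add, ← smul_add, Finset.mul_sum, h1, h2]
  have hAg : A * g = -g := by
    rw [hg, mul_sub, mul_avg hA, neg_sub]
    rw [eq_sub_of_add_eq hAE]
    abel
  have hgA : g * A = -g := by
    have h : Commute A g :=
      (commute_avg ((Commute.refl A).pow_right 2) N).sub_right (commute_avg (Commute.refl A) N)
    rw [← h.eq, hAg]
  have hfA : f * A = f := by rw [← (commute_avg (Commute.refl A) N).eq, mul_avg hA]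
  set T := C + D₁ + D₂ with hT
  have h1E : (1 - E) * f = 0 := by rw [sub_mul, one_mul, hEf, sub_self]
  have hf1 : f * (1 - E) = 0 := by rw [mul_sub, mul_one, hfE, sub_self]
  have hg1 : g * (1 - E) = 0 := by rw [hg, mul_sub, mul_one, sub_mul, hEE, hfE]; abel
  have h1g : (1 - E) * g = 0 := by rw [hg, sub_mul, one_mul, mul_sub, hEE, hEf]; abel
  have hfg : f * g = 0 := by rw [hg, mul_sub, hfE, hff, sub_self]
  have hgf : g * f = 0 := by rw [hg, sub_mul, hEf, hff, sub_self]
  have cross : ∀ P P' M M' : Matrix ν ν F, P * M = M → P' * M' = M' → adjG G G' P = P → P * P' = 0 →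
      adjG G G' M * M' = 0 := by
    intro P P' M M' h1 h2 h3 h4
    rw [← h1, adjG_mul hG, h3, ← h2, mul_assoc, ← mul_assoc P, h4, zero_mul, mul_zero]
  have hJ1E : adjG G G' (1 - E) = 1 - E := by rw [adjG_sub, adjG_one hG, hJE]
  have hTT : adjG G G' T * T = H := by
    rw [hT, adjG_add, adjG_add, add_mul, add_mul, mul_add, mul_add, mul_add, mul_add, mul_add, mul_add,
      cross _ _ C D₁ hEC hfD hJ1E h1E, cross _ _ C D₂ hEC hgD hJ1E h1g,
      cross _ _ D₁ C hfD hEC hJf hf1, cross _ _ D₁ D₂ hfD hgD hJf hfg,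
      cross _ _ D₂ C hgD hEC hJg hg1, cross _ _ D₂ D₁ hgD hfD hJg hgf, hCC, hD1, hD2, hg]
    rw [sub_mul, sub_mul, one_mul]
    abel
  have hTA : T * A = A * T := by
    rw [hT, add_mul, add_mul, mul_add, mul_add, hAC.eq]
    congr 1
    · congr 1
      rw [← hDf, mul_assoc, hfA, hDf]
      nth_rw 2 [← hfD]
      rw [← mul_assoc, hf, mul_avg hA, ← hf, hfD]
    · rw [← hDg, mul_assoc, hgA, mul_neg, hDg]
      nth_rw 2 [← hgD]
      rw [← mul_assoc, hAg, neg_mul, hgD]
  obtain ⟨T', hT'⟩ : ∃ T', T * T' = 1 := by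
    have h := congrArg Matrix.det hTT
    rw [Matrix.det_mul] at h
    have h2 : IsUnit ((adjG G G' T).det * T.det) := h ▸ (Matrix.isUnit_iff_isUnit_det H).1 hHu
    exact ((Matrix.isUnit_iff_isUnit_det T).2 (IsUnit.mul_iff.1 h2).2).exists_right_inv
  have hT'T : T' * T = 1 := mul_eq_one_comm.1 hT'
  refine ⟨X * T', ?_, ?_⟩
  · rw [adjG_mul hG, show adjG G G' T' * adjG G G' X * (X * T') = adjG G G' T' * H * T' by
      rw [hH]; simp only [mul_assoc], ← hTT, show adjG G G' T' * (adjG G G' T * T) * T' =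
        (adjG G G' T' * adjG G G' T) * (T * T') by simp only [mul_assoc],
      hT', mul_one, ← adjG_mul hG, hT', adjG_one hG]
  · have h : T' * A = A * T' := by
      calc T' * A = T' * A * (T * T') := by rw [hT', mul_one]
        _ = T' * (T * A) * T' := by rw [hTA]; simp only [mul_assoc]
        _ = A * T' := by rw [← mul_assoc T', hT'T, one_mul]
    rw [mul_assoc, h, ← mul_assoc, hXA, mul_assoc]

end CfsgLib.SemiConj
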