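import Cfsg.Agent.QuadStd.Disc
import Cfsg.Agent.QuadStd.DiscStd
import Cfsg.Agent.Forms.OfBilin
import Mathlib.LinearAlgebra.BilinearForm.TensorProduct
import Mathlib.LinearAlgebra.Matrix.Kronecker
import Mathlib.LinearAlgebra.TensorProduct.Basis
import Mathlib.RingTheory.Flat.Basic

/-!
Symmetric forms over finite fields of odd order: existence of a totally isotropic subspace of half
dimension in terms of the discriminant, and discriminants of tensor products.
-/

set_option autoImplicit false
set_option linter.unusedSectionVars false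

namespace CfsgLib.Linear.SplitForm

open Matrix QuadraticMap TensorProduct

variable {F : Type*} [Field F] {V : Type*} [AddCommGroup V] [Module F V] [FiniteDimensional F V]

theorem isSquare_sq_mul {t d : F} (ht : t ≠ 0) : IsSquare (d * t ^ 2) ↔ IsSquare d := by
  rw [mul_comm]
  exact CfsgLib.QuadStd.isSquare_mul_sq_iff ht

theorem det_lagrange_blocks {m : ℕ} (A D : Matrix (Fin m) (Fin m) F) :
    (Matrix.fromBlocks 0 A Aᵀ D).det = (-1) ^ m * A.det ^ 2 := by
  have h : Matrix.fromBlocks 0 A Aᵀ D =
      Matrix.fromBlocks (0 : Matrix (Fin m) (Fin m) F) 1 1 0 * Matrix.fromBlocks Aᵀ D 0 A := by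
    rw [Matrix.fromBlocks_multiply]
    simp
  rw [h, Matrix.det_mul, CfsgLib.QuadStd.det_swap_blocks, Matrix.det_fromBlocks_zero₂₁,
    Matrix.det_transpose]
  ring

/-- A change of basis multiplies the discriminant by a square. -/
theorem det_toMatrix_basis {ι : Type*} [Fintype ι] [DecidableEq ι] (B : LinearMap.BilinForm F V)
    (b c : Module.Basis ι F V) :
    ∃ t : F, t ≠ 0 ∧
      (LinearMap.BilinForm.toMatrix c B).det = (LinearMap.BilinForm.toMatrix b B).det * t ^ 2 := by
  refine ⟨(b.toMatrix c).det, fun e => ?_, ?_⟩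
  · have := congrArg Matrix.det (b.toMatrix_mul_toMatrix_flip c)
    rw [Matrix.det_mul, e, zero_mul, Matrix.det_one] at this
    exact zero_ne_one this
  · rw [← LinearMap.BilinForm.toMatrix_mul_basis_toMatrix b c B, Matrix.det_mul, Matrix.det_mul,
      Matrix.det_transpose]
    ring

variable [Finite F]

/-- A form has a totally isotropic subspace of half dimension iff `(-1)^m det` is a square. -/
theorem exists_iso_iff (h2 : (2 : F) ≠ 0) (B : LinearMap.BilinForm F V) (hS : B.IsSymm)
    (hN : B.Nondegenerate) {ι : Type*} [Fintype ι] [DecidableEq ι] (b : Module.Basis ι F V) (m : ℕ)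
    (hm : Fintype.card ι = 2 * m) :
    (∃ X : Submodule F V, Module.finrank F X = m ∧ ∀ x ∈ X, ∀ y ∈ X, B x y = 0) ↔
      IsSquare ((-1 : F) ^ m * (LinearMap.BilinForm.toMatrix b B).det) := by
  classical
  have hV : Module.finrank F V = 2 * m := by rw [Module.finrank_eq_card_basis b, hm]
  let e : ι ≃ Fin m ⊕ Fin m := (Fintype.equivFinOfCardEq (hm.trans (two_mul m))).trans
    finSumFinEquiv.symm
  have hb' : ∀ c : Module.Basis (Fin m ⊕ Fin m) F V, ∃ t : F, t ≠ 0 ∧
      (LinearMap.BilinForm.toMatrix c B).det = (LinearMap.BilinForm.toMatrix b B).det * t ^ 2 := by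
    intro c
    obtain ⟨t, ht, h⟩ := det_toMatrix_basis B b (c.reindex e.symm)
    refine ⟨t, ht, h ▸ ?_⟩
    rw [← Matrix.det_submatrix_equiv_self e (LinearMap.BilinForm.toMatrix c B)]
    congr 1
    ext i j
    simp [Matrix.submatrix_apply, LinearMap.BilinForm.toMatrix_apply]
  constructor
  · rintro ⟨X, hX, hiso⟩
    obtain ⟨Y, hY⟩ := Submodule.exists_isCompl X
    have hYm : Module.finrank F Y = m := by
      have := Submodule.finrank_add_eq_of_isCompl hY
      omega
    let c : Module.Basis (Fin m ⊕ Fin m) F V :=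
      ((Module.finBasisOfFinrankEq F X hX).prod (Module.finBasisOfFinrankEq F Y hYm)).map
        (Submodule.prodEquivOfIsCompl X Y hY)
    have hcl : ∀ i, c (Sum.inl i) = ((Module.finBasisOfFinrankEq F X hX) i : V) := fun i => by
      simp [c]
    set M := LinearMap.BilinForm.toMatrix c B with hM
    have hsym : ∀ i j, M i j = M j i := fun i j => by
      rw [hM, LinearMap.BilinForm.toMatrix_apply, LinearMap.BilinForm.toMatrix_apply]
      exact hS.eq _ _
    have hblocks : M = Matrix.fromBlocks 0 M.toBlocks₁₂ M.toBlocks₁₂ᵀ M.toBlocks₂₂ := by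
      ext (i | i) (j | j)
      · rw [Matrix.fromBlocks_apply₁₁, hM, LinearMap.BilinForm.toMatrix_apply, hcl, hcl]
        exact hiso _ (SetLike.coe_mem _) _ (SetLike.coe_mem _)
      · rfl
      · exact hsym _ _
      · rfl
    obtain ⟨t, ht, hdet⟩ := hb' c
    rw [← hM, hblocks, det_lagrange_blocks] at hdet
    rw [← isSquare_sq_mul ht, mul_assoc, ← hdet, ← mul_assoc, ← pow_add, ← two_mul,
      pow_mul, neg_one_sq, one_pow, one_mul]
    exact IsSquare.sq _
  · intro hsq
    let Q : QuadraticForm F V := LinearMap.BilinMap.toQuadraticMap B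
    have hpol : ∀ x y, polar Q x y = 2 * B x y := fun x y => by
      rw [LinearMap.BilinMap.polar_toQuadraticMap, show B y x = B x y from hS.eq y x]
      ring
    have hQ : (polarBilin Q).Nondegenerate := by
      refine ⟨fun x hx => hN.1 x fun y => ?_, fun y hy => hN.2 y fun x => ?_⟩
      · have := hx y
        rw [polarBilin_apply_apply, hpol] at this
        exact (mul_eq_zero.1 this).resolve_left h2
      · have := hy x
        rw [polarBilin_apply_apply, hpol] at this
        exact (mul_eq_zero.1 this).resolve_left h2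
    let P : QuadraticForm F (Fin m ⊕ Fin m → F) := CfsgLib.Quad.plusQ m
    let en : Fin m ⊕ Fin m ≃ Fin (m + m) := finSumFinEquiv
    let c : Module.Basis (Fin (m + m)) F (Fin m ⊕ Fin m → F) :=
      (Pi.basisFun F (Fin m ⊕ Fin m)).reindex en
    let b' : Module.Basis (Fin (m + m)) F V := b.reindex (e.trans en)
    have hgc : (CfsgLib.QuadStd.gram P c).det = (-1) ^ m := by
      rw [← CfsgLib.QuadStd.det_swap_blocks, ← CfsgLib.QuadStd.gram_plus,
        ← Matrix.det_submatrix_equiv_self en.symm]
      congr 1
      ext i j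
      simp [CfsgLib.QuadStd.gram, c, P]
    have hP : (polarBilin P).Nondegenerate := by
      have hne : (CfsgLib.QuadStd.gram P c).det ≠ 0 := by rw [hgc]; simp
      refine (LinearMap.BilinForm.nondegenerate_iff_det_ne_zero c).2 ?_
      convert hne using 2
      ext i j
      simp [CfsgLib.QuadStd.gram, LinearMap.BilinForm.toMatrix_apply]
    have hgb : (CfsgLib.QuadStd.gram Q b').det =
        2 ^ (m + m) * (LinearMap.BilinForm.toMatrix b B).det := by
      have h : CfsgLib.QuadStd.gram Q b' = (2 : F) •
          (LinearMap.BilinForm.toMatrix b B).submatrix (e.trans en).symm (e.trans en).symm := by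
        ext i j
        simp [CfsgLib.QuadStd.gram, hpol, b', LinearMap.BilinForm.toMatrix_apply]
      rw [h, Matrix.det_smul, Fintype.card_fin, Matrix.det_submatrix_equiv_self]
    obtain ⟨g, hg⟩ := CfsgLib.QuadStd.isometric_of_disc h2 hQ hP b' c (by
      rw [hgb, hgc, show (2 : F) ^ (m + m) * (LinearMap.BilinForm.toMatrix b B).det * (-1) ^ m =
        (-1) ^ m * (LinearMap.BilinForm.toMatrix b B).det * ((2 : F) ^ m) ^ 2 by ring,
        isSquare_sq_mul (pow_ne_zero _ h2)]
      exact hsq)
    let L : (Fin m → F) →ₗ[F] (Fin m ⊕ Fin m → F) :=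
      { toFun := fun u => Sum.elim u 0
        map_add' := fun u v => by ext (i | i) <;> simp
        map_smul' := fun r u => by ext (i | i) <;> simp }
    have hL : Function.Injective (g.symm.toLinearMap ∘ₗ L) := by
      refine g.symm.injective.comp fun u v h => funext fun i => ?_
      exact congrFun h (Sum.inl i)
    refine ⟨LinearMap.range (g.symm.toLinearMap ∘ₗ L), ?_, ?_⟩
    · rw [LinearMap.finrank_range_of_inj hL, Module.finrank_fin_fun]
    · rintro _ ⟨u, rfl⟩ _ ⟨v, rfl⟩
      have key : ∀ w, Q (g.symm (L w)) = 0 := fun w => by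
        rw [← hg, LinearEquiv.apply_symm_apply]
        simp [P, CfsgLib.Quad.plusQ_coe, Cfsg.quadFormPlus, L]
      have h0 : polar Q (g.symm (L u)) (g.symm (L v)) = 0 := by
        rw [polar, ← map_add, ← map_add, key, key, key]
        simp
      rw [hpol] at h0
      exact (mul_eq_zero.1 h0).resolve_left h2

/-! ### Tensor products -/

section Tensor

variable {U W : Type*} [AddCommGroup U] [Module F U] [AddCommGroup W] [Module F W]
  (B₁ : LinearMap.BilinForm F U) (B₂ : LinearMap.BilinForm F W)

omit [Finite F] in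
theorem tmul_apply (x : U) (y : W) (x' : U) (y' : W) :
    (B₁.tmul B₂) (x ⊗ₜ[F] y) (x' ⊗ₜ[F] y') = B₂ y y' * B₁ x x' :=
  rfl

omit [Finite F] in
theorem toMatrix_tmul {ι κ : Type*} [Fintype ι] [DecidableEq ι] [Fintype κ] [DecidableEq κ]
    (b : Module.Basis ι F U) (c : Module.Basis κ F W) :
    LinearMap.BilinForm.toMatrix (b.tensorProduct c) (B₁.tmul B₂) =
      Matrix.kroneckerMap (· * ·) (LinearMap.BilinForm.toMatrix b B₁)
        (LinearMap.BilinForm.toMatrix c B₂) := by
  ext ⟨i, j⟩ ⟨i', j'⟩
  simp [LinearMap.BilinForm.toMatrix_apply, Module.Basis.tensorProduct_apply, mul_comm]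

omit [Finite F] in
theorem nondeg_tmul {ι κ : Type*} [Fintype ι] [DecidableEq ι] [Fintype κ] [DecidableEq κ]
    (b : Module.Basis ι F U) (c : Module.Basis κ F W) (h₁ : B₁.Nondegenerate)
    (h₂ : B₂.Nondegenerate) : LinearMap.BilinForm.Nondegenerate (B₁.tmul B₂) := by
  refine (LinearMap.BilinForm.nondegenerate_iff_det_ne_zero (b.tensorProduct c)).2 ?_
  rw [toMatrix_tmul, Matrix.det_kronecker]
  exact mul_ne_zero (pow_ne_zero _ ((LinearMap.BilinForm.nondegenerate_iff_det_ne_zero b).1 h₁))
    (pow_ne_zero _ ((LinearMap.BilinForm.nondegenerate_iff_det_ne_zero c).1 h₂))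

omit [Finite F] in
theorem symm_tmul_of_alt (h₁ : B₁.IsAlt) (h₂ : B₂.IsAlt) (u v : U ⊗[F] W) :
    (B₁.tmul B₂) u v = (B₁.tmul B₂) v u := by
  induction u using TensorProduct.induction_on with
  | zero => simp
  | add a b ha hb => simp [map_add, ha, hb]
  | tmul x y =>
    induction v using TensorProduct.induction_on with
    | zero => simp
    | add a b ha hb => simp [map_add, ha, hb]
    | tmul x' y' =>
      rw [tmul_apply, tmul_apply, ← LinearMap.IsAlt.neg h₁ x' x, ← LinearMap.IsAlt.neg h₂ y' y]
      ring

omit [Finite F] in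
/-- An isotropic subspace of the first factor gives one of the tensor product. -/
theorem exists_iso_tmul [FiniteDimensional F U] [FiniteDimensional F W] (X : Submodule F U)
    (hX : ∀ x ∈ X, ∀ y ∈ X, B₁ x y = 0) :
    ∃ Z : Submodule F (U ⊗[F] W), Module.finrank F Z = Module.finrank F X * Module.finrank F W ∧
      ∀ x ∈ Z, ∀ y ∈ Z, (B₁.tmul B₂) x y = 0 := by
  refine ⟨LinearMap.range (LinearMap.rTensor W X.subtype), ?_, ?_⟩
  · rw [LinearMap.finrank_range_of_inj
      (Module.Flat.rTensor_preserves_injective_linearMap X.subtype X.injective_subtype),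
      Module.finrank_tensorProduct]
  · rintro _ ⟨a, rfl⟩ _ ⟨b, rfl⟩
    induction a using TensorProduct.induction_on with
    | zero => simp
    | add p q hp hq => simp [map_add, hp, hq]
    | tmul x y =>
      induction b using TensorProduct.induction_on with
      | zero => simp
      | add p q hp hq =>
        simp only [LinearMap.rTensor_tmul, Submodule.subtype_apply] at hp hq ⊢
        simp [map_add, hp, hq]
      | tmul x' y' =>
        rw [LinearMap.rTensor_tmul, LinearMap.rTensor_tmul, tmul_apply, Submodule.subtype_apply,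
          Submodule.subtype_apply, hX _ x.2 _ x'.2, mul_zero]

omit [Finite F] in
/-- A non-degenerate alternating form has a Lagrangian. -/
theorem exists_lagrangian [FiniteDimensional F U] (hA : B₁.IsAlt) (hN : B₁.Nondegenerate) (k : ℕ)
    (hU : Module.finrank F U = 2 * k) :
    ∃ X : Submodule F U, Module.finrank F X = k ∧ ∀ x ∈ X, ∀ y ∈ X, B₁ x y = 0 := by
  obtain ⟨m, r, b, -, h2, -, h4⟩ := CfsgLib.Forms.exists_symplectic_basis _ U B₁ hA rfl
  have hr : r = 0 := by
    by_contra hne
    have := hN.1 _ (h4 ⟨0, Nat.pos_of_ne_zero hne⟩)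
    exact b.ne_zero _ this
  have hm : m = k := by
    have := Module.finrank_eq_card_basis b
    rw [hU, hr] at this
    simp at this
    omega
  refine ⟨Submodule.span F (Set.range fun i : Fin m => b (Sum.inl (Sum.inl i))), ?_, ?_⟩
  · rw [show (fun i : Fin m => b (Sum.inl (Sum.inl i))) = b ∘ (Sum.inl ∘ Sum.inl) from rfl,
      finrank_span_eq_card (b.linearIndependent.comp _ (Sum.inl_injective.comp Sum.inl_injective)),
      Fintype.card_fin, hm]
  · intro x hx y hy
    induction hx using Submodule.span_induction with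
    | mem x hx =>
      induction hy using Submodule.span_induction with
      | mem y hy =>
        obtain ⟨i, rfl⟩ := hx
        obtain ⟨j, rfl⟩ := hy
        exact h2 i j
      | zero => simp
      | add p q _ _ hp hq => simp [hp, hq]
      | smul a p _ hp => simp [hp]
    | zero => simp
    | add p q _ _ hp hq => simp [hp, hq]
    | smul a p _ hp => simp [hp]

end Tensor

end CfsgLib.Linear.SplitForm
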