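import Mathlib
import Cfsg.Agent.Spectrum.MatrixOrder
import Cfsg.Agent.Classical.LinearOrder

/-!
Sylow `r`-subgroups of `GL n` and `SL n` over a field with `q` elements, for primes `r > n` not dividing `q`.
-/

set_option autoImplicit false

namespace CfsgLib.SylowLarge

open Polynomial

section Arith

variable {q r : ℕ} [Fact r.Prime]

theorem orderOf_cast_pos (hrq : ¬ r ∣ q) : 0 < orderOf (q : ZMod r) := by
  have h : (q : ZMod r) ≠ 0 := fun h => hrq ((ZMod.natCast_eq_zero_iff q r).1 h)
  rw [orderOf_pos_iff, isOfFinOrder_iff_pow_eq_one]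
  exact ⟨r - 1, by have := (Fact.out : r.Prime).two_le; omega, ZMod.pow_card_sub_one_eq_one h⟩

theorem dvd_pow_sub_one_iff (hq : 1 ≤ q) (m : ℕ) : r ∣ q ^ m - 1 ↔ orderOf (q : ZMod r) ∣ m := by
  rw [orderOf_dvd_iff_pow_eq_one, ← ZMod.natCast_eq_zero_iff, Nat.cast_sub (Nat.one_le_pow m q hq),
    sub_eq_zero, Nat.cast_pow, Nat.cast_one]

theorem val_cyclotomic (hq : 2 ≤ q) (hrq : ¬ r ∣ q) :
    padicValNat r ((cyclotomic (orderOf (q : ZMod r)) ℤ).eval (q : ℤ)).natAbs =
      padicValNat r (q ^ orderOf (q : ZMod r) - 1) := by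
  set e := orderOf (q : ZMod r) with he
  have he0 : 0 < e := orderOf_cast_pos hrq
  have hprod : ∏ d ∈ e.divisors, ((cyclotomic d ℤ).eval (q : ℤ)).natAbs = q ^ e - 1 := by
    have h := congrArg (fun f : ℤ[X] => (f.eval (q : ℤ)).natAbs) (prod_cyclotomic_eq_X_pow_sub_one he0 ℤ)
    simp only [eval_prod, eval_sub, eval_pow, eval_X, eval_one] at h
    rw [← Int.natAbsHom_apply, map_prod] at h
    simp only [Int.natAbsHom_apply] at h
    rw [h]
    have h1 : 1 ≤ q ^ e := Nat.one_le_pow e q (by omega)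
    rw [show (q : ℤ) ^ e - 1 = ((q ^ e - 1 : ℕ) : ℤ) by push_cast [Nat.cast_sub h1]; rfl, Int.natAbs_natCast]
  have hne : q ^ e - 1 ≠ 0 := by have := Nat.one_lt_pow he0.ne' (show 1 < q by omega); omega
  rw [← hprod] at hne ⊢
  rw [← Nat.cons_self_properDivisors he0.ne', Finset.prod_cons] at hne ⊢
  obtain ⟨h1, h2⟩ := mul_ne_zero_iff.1 hne
  rw [padicValNat.mul h1 h2, padicValNat.eq_zero_of_not_dvd (n := ∏ d ∈ e.properDivisors, _), add_zero]
  intro h3
  obtain ⟨d, hd, h4⟩ := ((Fact.out : r.Prime).prime.dvd_finsetProd_iff _).1 h3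
  rw [Nat.mem_properDivisors] at hd
  have hd0 : 0 < d := Nat.pos_of_ne_zero fun h0 => by subst h0; exact he0.ne' (zero_dvd_iff.1 hd.1)
  have h5 : ((cyclotomic d ℤ).eval (q : ℤ)).natAbs ∣ q ^ d - 1 := by
    have h6 : (cyclotomic d ℤ).eval (q : ℤ) ∣ ((X : ℤ[X]) ^ d - 1).eval (q : ℤ) :=
      Polynomial.eval_dvd (cyclotomic.dvd_X_pow_sub_one d ℤ)
    rw [eval_sub, eval_pow, eval_X, eval_one, show (q : ℤ) ^ d - 1 = ((q ^ d - 1 : ℕ) : ℤ) by
      push_cast [Nat.cast_sub (Nat.one_le_pow d q (by omega))]; rfl] at h6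
    exact Int.natAbs_dvd_natAbs.2 h6
  have h7 := Nat.le_of_dvd hd0 ((dvd_pow_sub_one_iff (by omega) d).1 (h4.trans h5))
  omega

theorem val_pow_sub_one' (hq : 2 ≤ q) (hrq : ¬ r ∣ q) {m : ℕ} (hm : 0 < m)
    (hmr : orderOf (q : ZMod r) ∣ m → ¬ r ∣ m / orderOf (q : ZMod r)) :
    padicValNat r (q ^ m - 1) =
      if orderOf (q : ZMod r) ∣ m then padicValNat r (q ^ orderOf (q : ZMod r) - 1) else 0 := by
  split_ifs with h
  · set e := orderOf (q : ZMod r) with he
    have he0 : 0 < e := orderOf_cast_pos hrq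
    have hmr' := hmr h
    obtain ⟨i, rfl⟩ := h
    rw [Nat.mul_div_cancel_left i he0] at hmr'
    set x := q ^ e with hx
    have hx1 : 1 < x := Nat.one_lt_pow he0.ne' (by omega)
    have hgeom : (∑ j ∈ Finset.range i, x ^ j) * (x - 1) + 1 = x ^ i := by
      have := geom_sum_mul_add (x - 1) i
      rwa [Nat.sub_add_cancel hx1.le] at this
    have hxi : q ^ (e * i) - 1 = (∑ j ∈ Finset.range i, x ^ j) * (x - 1) := by
      rw [pow_mul, ← hx]; omega
    have hndvd : ¬ r ∣ ∑ j ∈ Finset.range i, x ^ j := by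
      rw [← ZMod.natCast_eq_zero_iff]
      have hx' : (x : ZMod r) = 1 := by rw [hx, Nat.cast_pow, he, pow_orderOf_eq_one]
      push_cast
      simp only [hx', one_pow, Finset.sum_const, Finset.card_range, nsmul_eq_mul, mul_one]
      rw [ZMod.natCast_eq_zero_iff]
      exact hmr'
    rw [hxi, padicValNat.mul (fun h0 => hndvd (by rw [h0]; exact dvd_zero r)) (by omega),
      padicValNat.eq_zero_of_not_dvd hndvd, zero_add]
  · exact padicValNat.eq_zero_of_not_dvd fun h' => h ((dvd_pow_sub_one_iff (by omega) m).1 h')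

theorem val_pow_sub_one (hq : 2 ≤ q) (hrq : ¬ r ∣ q) {m : ℕ} (hm : 0 < m) (hmr : m < r) :
    padicValNat r (q ^ m - 1) =
      if orderOf (q : ZMod r) ∣ m then padicValNat r (q ^ orderOf (q : ZMod r) - 1) else 0 :=
  val_pow_sub_one' hq hrq hm fun h =>
    Nat.not_dvd_of_pos_of_lt (Nat.div_pos (Nat.le_of_dvd hm h) (orderOf_cast_pos hrq))
      (lt_of_le_of_lt (Nat.div_le_self _ _) hmr)

theorem val_prod' (hq : 2 ≤ q) (hrq : ¬ r ∣ q) {n : ℕ}
    (hrn : ∀ j, 0 < j → j ≤ n → orderOf (q : ZMod r) ∣ j → ¬ r ∣ j / orderOf (q : ZMod r)) :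
    padicValNat r (∏ i : Fin n, (q ^ n - q ^ (i : ℕ))) =
      n / orderOf (q : ZMod r) * padicValNat r (q ^ orderOf (q : ZMod r) - 1) := by
  have hne : ∀ i : Fin n, q ^ n - q ^ (i : ℕ) ≠ 0 := fun i => by
    have := Nat.pow_lt_pow_right (show 1 < q by omega) i.2; omega
  rw [← Nat.factorization_def _ (Fact.out : r.Prime), Nat.factorization_prod fun i _ => hne i,
    Finsupp.finset_sum_apply]
  have hterm : ∀ i : Fin n, (q ^ n - q ^ (i : ℕ)).factorization r =
      if orderOf (q : ZMod r) ∣ n - (i : ℕ) then padicValNat r (q ^ orderOf (q : ZMod r) - 1) else 0 := by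
    intro i
    have hi := i.2
    rw [show q ^ n - q ^ (i : ℕ) = q ^ (i : ℕ) * (q ^ (n - i) - 1) by
      rw [Nat.mul_sub, ← pow_add, mul_one, Nat.add_sub_cancel' hi.le],
      Nat.factorization_def _ (Fact.out : r.Prime),
      padicValNat.mul (pow_ne_zero _ (by omega))
        (by have := Nat.one_lt_pow (show n - (i : ℕ) ≠ 0 by omega) (show 1 < q by omega); omega),
      padicValNat.eq_zero_of_not_dvd fun h => hrq ((Fact.out : r.Prime).dvd_of_dvd_pow h), zero_add]
    exact val_pow_sub_one' hq hrq (by omega) (hrn _ (by omega) (by omega))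
  rw [Finset.sum_congr rfl fun i _ => hterm i, Fin.sum_univ_eq_sum_range
    (fun i => if orderOf (q : ZMod r) ∣ n - i then padicValNat r (q ^ orderOf (q : ZMod r) - 1) else 0) n,
    ← Finset.sum_range_reflect]
  have hcong : ∀ i ∈ Finset.range n, (if orderOf (q : ZMod r) ∣ n - (n - 1 - i) then
      padicValNat r (q ^ orderOf (q : ZMod r) - 1) else 0) =
      if orderOf (q : ZMod r) ∣ i + 1 then padicValNat r (q ^ orderOf (q : ZMod r) - 1) else 0 := by
    intro i hi
    rw [Finset.mem_range] at hi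
    rw [show n - (n - 1 - i) = i + 1 by omega]
  rw [Finset.sum_congr rfl hcong, Finset.sum_ite, Finset.sum_const, Finset.sum_const_zero, add_zero,
    Nat.card_multiples, smul_eq_mul]

theorem val_prod (hq : 2 ≤ q) (hrq : ¬ r ∣ q) {n : ℕ} (hrn : n < r) :
    padicValNat r (∏ i : Fin n, (q ^ n - q ^ (i : ℕ))) =
      n / orderOf (q : ZMod r) * padicValNat r (q ^ orderOf (q : ZMod r) - 1) :=
  val_prod' hq hrq fun j hj hjn h =>
    Nat.not_dvd_of_pos_of_lt (Nat.div_pos (Nat.le_of_dvd hj h) (orderOf_cast_pos hrq))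
      (lt_of_le_of_lt ((Nat.div_le_self _ _).trans hjn) hrn)

end Arith

/-- An injection of the cyclic group of order `m` into a cyclic group of order divisible by `m`. -/
theorem exists_cyclic_embedding {C : Type*} [Group C] [Finite C] [IsCyclic C] {m : ℕ} (hm : m ∣ Nat.card C) :
    ∃ f : Multiplicative (ZMod m) →* C, Function.Injective f := by
  obtain ⟨g, hg⟩ := IsCyclic.exists_ofOrder_eq_natCard (α := C)
  obtain ⟨c, hc⟩ := hm
  have hc0 : c ≠ 0 := fun h => Nat.card_pos.ne' (by rw [hc, h, mul_zero])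
  have hord : orderOf (g ^ c) = m := by
    rw [orderOf_pow' g hc0, hg, hc, Nat.gcd_eq_right (dvd_mul_left c m),
      Nat.mul_div_cancel _ (Nat.pos_of_ne_zero hc0)]
  let e : Multiplicative (ZMod m) ≃* Subgroup.zpowers (g ^ c) :=
    mulEquivOfCyclicCardEq (by rw [Nat.card_zpowers, hord]; exact Nat.card_zmod m)
  exact ⟨(Subgroup.zpowers (g ^ c)).subtype.comp e.toMonoidHom,
    (Subgroup.subtype_injective _).comp e.injective⟩

theorem card_pi_cyclic (k m : ℕ) : Nat.card (Fin k → Multiplicative (ZMod m)) = m ^ k := by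
  rw [Nat.card_pi, Finset.prod_const, Finset.card_univ, Fintype.card_fin, show Nat.card (Multiplicative (ZMod m)) = m from Nat.card_zmod m]

/-- A Sylow subgroup is isomorphic to any subgroup of the same order as the full `r`-part. -/
theorem sylow_equiv_of_injective {G K : Type*} [Group G] [Finite G] [Group K] {r : ℕ} [Fact r.Prime]
    (P : Sylow r G) (f : K →* G) (hf : Function.Injective f)
    (hc : Nat.card K = r ^ padicValNat r (Nat.card G)) : Nonempty (↥(P : Subgroup G) ≃* K) := by
  have h : Nat.card f.range = r ^ (Nat.card G).factorization r := by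
    rw [← Nat.card_congr (MonoidHom.ofInjective hf).toEquiv, hc, Nat.factorization_def _ (Fact.out : r.Prime)]
  exact ⟨(Sylow.equiv P (Sylow.ofCard f.range h)).trans
    ((MulEquiv.subgroupCongr (Sylow.coe_ofCard f.range h)).trans (MonoidHom.ofInjective hf).symm)⟩

variable {F : Type*} [Field F] [Fintype F] {q r n : ℕ} [Fact r.Prime]

/-- The torus embedding in `GL n`. -/
theorem exists_embedding_gl (hq : Fintype.card F = q) (hrq : ¬ r ∣ q) :
    ∃ f : (Fin (n / orderOf (q : ZMod r)) →
        Multiplicative (ZMod (r ^ padicValNat r (q ^ orderOf (q : ZMod r) - 1)))) →* GL (Fin n) F,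
      Function.Injective f := by
  classical
  set e := orderOf (q : ZMod r) with he
  set k := n / e with hk
  have he0 : 0 < e := orderOf_cast_pos hrq
  obtain ⟨p, hp⟩ := CharP.exists F
  haveI := Fact.mk (CharP.char_is_prime F p)
  haveI : NeZero e := ⟨he0.ne'⟩
  let E := FiniteField.Extension F p e
  haveI : Module.Finite F E :=
    Module.finite_of_finrank_eq_succ (n := e - 1) (by rw [FiniteField.finrank_extension F p e]; omega)
  haveI : Finite E := Module.finite_of_finite F
  have hE : Nat.card Eˣ = q ^ e - 1 := by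
    rw [Nat.card_units, FiniteField.natCard_extension, Nat.card_eq_fintype_card, hq]
  obtain ⟨φ, hφ⟩ := exists_cyclic_embedding (C := Eˣ) (m := r ^ padicValNat r (q ^ e - 1))
    (hE.symm ▸ pow_padicValNat_dvd)
  let b := Module.finBasisOfFinrankEq F (Fin k → E) (n := k * e) (by
    rw [Module.finrank_pi_fintype, Finset.sum_const, Finset.card_univ, Fintype.card_fin,
      FiniteField.finrank_extension F p e, smul_eq_mul])
  have hle : k * e ≤ n := Nat.div_mul_le_self n e
  let f₁ : (Fin k → Multiplicative (ZMod (r ^ padicValNat r (q ^ e - 1)))) →* (Fin k → E)ˣ :=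
    MulEquiv.piUnits.symm.toMonoidHom.comp (Pi.monoidHom fun i => φ.comp (Pi.evalMonoidHom _ i))
  refine ⟨(Units.map ((CfsgLib.MatOrder.blockHom hle).comp
    (Algebra.leftMulMatrix b).toMonoidHom)).comp f₁, ?_⟩
  refine (Units.map_injective ((CfsgLib.MatOrder.blockHom_injective hle).comp
    (Algebra.leftMulMatrix_injective b))).comp ?_
  intro x y hxy
  have h : (fun i => φ (x i)) = fun i => φ (y i) := MulEquiv.piUnits.symm.injective hxy
  exact funext fun i => hφ (congrFun h i)

theorem val_card_gl' (hq : Fintype.card F = q) (hrq : ¬ r ∣ q)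
    (hrn : ∀ j, 0 < j → j ≤ n → orderOf (q : ZMod r) ∣ j → ¬ r ∣ j / orderOf (q : ZMod r)) :
    padicValNat r (Nat.card (GL (Fin n) F)) =
      n / orderOf (q : ZMod r) * padicValNat r (q ^ orderOf (q : ZMod r) - 1) := by
  rw [Matrix.card_GL_field, hq]
  exact val_prod' (hq ▸ Fintype.one_lt_card) hrq hrn

theorem val_card_gl (hq : Fintype.card F = q) (hrq : ¬ r ∣ q) (hrn : n < r) :
    padicValNat r (Nat.card (GL (Fin n) F)) =
      n / orderOf (q : ZMod r) * padicValNat r (q ^ orderOf (q : ZMod r) - 1) := by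
  rw [Matrix.card_GL_field, hq]
  exact val_prod (hq ▸ Fintype.one_lt_card) hrq hrn

/-- Sylow `r`-subgroups of `GL n`, `n < r`. -/
theorem gl_sylow (hq : Fintype.card F = q) (hrn : n < r) (hrq : ¬ r ∣ q) (P : Sylow r (GL (Fin n) F)) :
    Nonempty (↥(P : Subgroup (GL (Fin n) F)) ≃*
      (Fin (n / orderOf (q : ZMod r)) →
        Multiplicative (ZMod (r ^ padicValNat r (q ^ orderOf (q : ZMod r) - 1))))) := by
  obtain ⟨f, hf⟩ := exists_embedding_gl (n := n) (F := F) hq hrq
  refine sylow_equiv_of_injective P f hf ?_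
  rw [card_pi_cyclic, val_card_gl hq hrq hrn, ← pow_mul, mul_comm]

theorem filter_card (hrq : ¬ r ∣ q) :
    ((Finset.Icc 2 n).filter (fun i => orderOf (q : ZMod r) ∣ i)).card =
      if orderOf (q : ZMod r) = 1 then n - 1 else n / orderOf (q : ZMod r) := by
  set e := orderOf (q : ZMod r) with he
  split_ifs with h1
  · rw [h1, Finset.filter_true_of_mem fun i _ => one_dvd i, Nat.card_Icc]; omega
  · rw [← Nat.Ioc_filter_dvd_card_eq_div n e]
    congr 1
    ext i
    simp only [Finset.mem_filter, Finset.mem_Icc, Finset.mem_Ioc]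
    constructor
    · rintro ⟨⟨h2, h3⟩, h4⟩; exact ⟨⟨by omega, h3⟩, h4⟩
    · rintro ⟨⟨h2, h3⟩, h4⟩
      refine ⟨⟨?_, h3⟩, h4⟩
      by_contra h5
      exact h1 (Nat.dvd_one.1 ((show i = 1 by omega) ▸ h4))

/-- Sylow `r`-subgroups of `SL n`, `n < r`. -/
theorem sl_sylow (hq : Fintype.card F = q) (hrn : n < r) (hrq : ¬ r ∣ q)
    (P : Sylow r (Matrix.SpecialLinearGroup (Fin n) F)) :
    Nonempty (↥(P : Subgroup (Matrix.SpecialLinearGroup (Fin n) F)) ≃*
      (Fin ((Finset.Icc 2 n).filter (fun i => orderOf (q : ZMod r) ∣ i)).card →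
        Multiplicative (ZMod (r ^ padicValNat r (q ^ orderOf (q : ZMod r) - 1))))) := by
  classical
  rw [filter_card hrq]
  set e := orderOf (q : ZMod r) with he
  set a := padicValNat r (q ^ e - 1) with ha
  have he0 : 0 < e := orderOf_cast_pos hrq
  have hq2 : 2 ≤ q := hq ▸ Fintype.one_lt_card
  rcases Nat.eq_zero_or_pos n with rfl | hn
  · haveI : Subsingleton (Matrix.SpecialLinearGroup (Fin 0) F) :=
      ⟨fun x y => Subtype.ext (Subsingleton.elim _ _)⟩
    rw [Nat.zero_div]
    rw [show (if e = 1 then 0 - 1 else 0) = 0 by simp]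
    refine sylow_equiv_of_injective P 1 (fun x y _ => Subsingleton.elim x y) ?_
    rw [card_pi_cyclic, pow_zero, Nat.card_of_subsingleton (1 : Matrix.SpecialLinearGroup (Fin 0) F),
      (padicValNat.eq_zero_of_not_dvd (Fact.out : r.Prime).not_dvd_one), pow_zero]
  haveI : Nonempty (Fin n) := ⟨⟨0, hn⟩⟩
  have hval : padicValNat r (q - 1) + padicValNat r (Nat.card (Matrix.SpecialLinearGroup (Fin n) F)) =
      n / e * a := by
    have h := CfsgLib.Linear.card_units_mul_card_SL (ι := Fin n) (F := F)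
    rw [Nat.card_eq_fintype_card (α := F), hq] at h
    rw [← val_card_gl hq hrq hrn, ← h, padicValNat.mul (by omega) Nat.card_pos.ne']
  by_cases h1 : e = 1
  · rw [if_pos h1]
    have ha1 : padicValNat r (q - 1) = a := by rw [ha, h1, pow_one]
    rw [h1, Nat.div_one, ha1] at hval
    obtain ⟨m, rfl⟩ : ∃ m, n = m + 1 := ⟨n - 1, by omega⟩
    rw [Nat.add_sub_cancel]
    obtain ⟨φ, hφ⟩ := exists_cyclic_embedding (C := Fˣ) (m := r ^ a) (by
      rw [Nat.card_units, Nat.card_eq_fintype_card, hq, ← ha1]; exact pow_padicValNat_dvd)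
    let g : (Fin m → Multiplicative (ZMod (r ^ a))) →* (Fin (m + 1) → Fˣ) :=
      { toFun := fun x => Fin.snoc (fun i => φ (x i)) (∏ i, φ (x i))⁻¹
        map_one' := by
          funext i
          refine Fin.lastCases ?_ (fun j => ?_) i <;> simp
        map_mul' := fun x y => by
          funext i
          refine Fin.lastCases ?_ (fun j => ?_) i <;> simp [Finset.prod_mul_distrib, mul_comm] }
    have hdet : ∀ x, (Matrix.diagonal fun i => ((g x i : Fˣ) : F)).det = 1 := by
      intro x
      rw [Matrix.det_diagonal]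
      show ∏ i, Units.coeHom F (g x i) = 1
      rw [← map_prod, Fin.prod_univ_castSucc]
      simp [g]
    let f : (Fin m → Multiplicative (ZMod (r ^ a))) →* Matrix.SpecialLinearGroup (Fin (m + 1)) F :=
      { toFun := fun x => ⟨Matrix.diagonal fun i => ((g x i : Fˣ) : F), hdet x⟩
        map_one' := Subtype.ext (by simp [map_one])
        map_mul' := fun x y => Subtype.ext (by
          show Matrix.diagonal _ = Matrix.diagonal _ * Matrix.diagonal _
          rw [Matrix.diagonal_mul_diagonal, map_mul]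
          rfl) }
    refine sylow_equiv_of_injective P f (fun x y h => funext fun i => hφ (Units.ext ?_)) ?_
    · have h2 := congrFun (Matrix.diagonal_injective (congrArg Subtype.val h)) i.castSucc
      simpa [g] using h2
    · rw [card_pi_cyclic, ← pow_mul]
      congr 1
      rw [Nat.add_mul, Nat.one_mul] at hval
      rw [Nat.mul_comm a m]; omega
  · rw [if_neg h1]
    have hq1 : padicValNat r (q - 1) = 0 := padicValNat.eq_zero_of_not_dvd fun h =>
      h1 (Nat.dvd_one.1 ((dvd_pow_sub_one_iff (by omega) 1).1 (by rwa [pow_one])))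
    rw [hq1, zero_add] at hval
    obtain ⟨f, hf⟩ := exists_embedding_gl (n := n) (F := F) hq hrq
    have hcop : (r ^ a) ^ (n / e) = r ^ padicValNat r (Nat.card (Matrix.SpecialLinearGroup (Fin n) F)) := by
      rw [hval, ← pow_mul, mul_comm]
    have hker : ∀ x, f x ∈ (Matrix.GeneralLinearGroup.det : GL (Fin n) F →* Fˣ).ker := by
      intro x
      rw [MonoidHom.mem_ker, ← orderOf_eq_one_iff]
      have hd1 : orderOf (Matrix.GeneralLinearGroup.det (f x)) ∣ r ^ (a * (n / e)) := by
        rw [show r ^ (a * (n / e)) = Nat.card (Fin (n / e) → Multiplicative (ZMod (r ^ a))) by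
          rw [card_pi_cyclic, pow_mul]]
        exact (orderOf_map_dvd _ _).trans ((orderOf_map_dvd f x).trans (orderOf_dvd_natCard x))
      have hd2 : orderOf (Matrix.GeneralLinearGroup.det (f x)) ∣ q - 1 := by
        have hcard : Fintype.card Fˣ = q - 1 := by rw [Fintype.card_units, hq]
        have h := orderOf_dvd_card (x := Matrix.GeneralLinearGroup.det (f x))
        rwa [hcard] at h
      have hc : (r ^ (a * (n / e))).Coprime (q - 1) := Nat.Coprime.pow_left _
        ((Fact.out : r.Prime).coprime_iff_not_dvd.2 fun h =>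
          h1 (Nat.dvd_one.1 ((dvd_pow_sub_one_iff (by omega) 1).1 (by rwa [pow_one]))))
      exact Nat.eq_one_of_dvd_coprimes hc hd1 hd2
    refine sylow_equiv_of_injective P
      (CfsgLib.Linear.slEquivDetKer.symm.toMonoidHom.comp (f.codRestrict _ hker))
      (CfsgLib.Linear.slEquivDetKer.symm.injective.comp fun x y h => hf (congrArg Subtype.val h)) ?_
    rw [card_pi_cyclic, hcop]

end CfsgLib.SylowLarge
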