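import Mathlib
import Cfsg.Agent.Classical.SylowLargePrime
import Cfsg.Agent.Classical.SymplecticBlocks

/-!
Sylow `r`-subgroups of the symplectic group for odd primes `r > n`.
-/

set_option autoImplicit false

namespace CfsgLib.SylowLarge

open Matrix

variable {F : Type*} [Field F] [Fintype F] {q r n : ℕ} [Fact r.Prime]

theorem exists_embedding_sp (n : ℕ) :
    ∃ f : GL (Fin n) F →* ↥(Matrix.symplecticGroup (Fin n) F), Function.Injective f := by
  classical
  have hmem : ∀ A : GL (Fin n) F, fromBlocks (A : Matrix (Fin n) (Fin n) F) 0 0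
      ((A⁻¹ : GL (Fin n) F) : Matrix (Fin n) (Fin n) F)ᵀ ∈ Matrix.symplecticGroup (Fin n) F := by
    intro A
    rw [SymplecticGroup.fromBlocks_mem_iff]
    refine ⟨by simp, by simp, ?_⟩
    rw [Matrix.transpose_zero, Matrix.zero_mul, sub_zero, ← Matrix.transpose_mul, ← Units.val_mul,
      inv_mul_cancel, Units.val_one, Matrix.transpose_one]
  refine ⟨{ toFun := fun A => ⟨_, hmem A⟩
            map_one' := Subtype.ext (by simp [Matrix.fromBlocks_one])
            map_mul' := fun A B => Subtype.ext ?_ }, fun A B h => Units.ext ?_⟩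
  · show fromBlocks _ _ _ _ = fromBlocks _ _ _ _ * fromBlocks _ _ _ _
    rw [Matrix.fromBlocks_multiply]
    simp [Matrix.transpose_mul]
  · exact (Matrix.fromBlocks_inj.1 (congrArg Subtype.val h)).1

theorem exists_gl_of_sp (n : ℕ) :
    ∃ f : ↥(Matrix.symplecticGroup (Fin n) F) →* GL (Fin (2 * n)) F, Function.Injective f := by
  let e : Fin n ⊕ Fin n ≃ Fin (2 * n) := finSumFinEquiv.trans (finCongr (two_mul n).symm)
  let φ : ↥(Matrix.symplecticGroup (Fin n) F) →* Matrix (Fin (2 * n)) (Fin (2 * n)) F :=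
    ((Matrix.reindexAlgEquiv F F e).toAlgHom : _ →* _).comp (Submonoid.subtype _)
  refine ⟨φ.toHomUnits, fun A B h => Subtype.ext ((Matrix.reindexAlgEquiv F F e).injective ?_)⟩
  exact congrArg Units.val h

theorem sp_sylow (hq : Fintype.card F = q) (hr2 : r ≠ 2) (hrn : n < r) (hrq : ¬ r ∣ q)
    (P : Sylow r ↥(Matrix.symplecticGroup (Fin n) F)) :
    Nonempty (↥(P : Subgroup ↥(Matrix.symplecticGroup (Fin n) F)) ≃*
      (Fin ((Finset.Icc 1 n).filter (fun i => orderOf (q : ZMod r) ∣ 2 * i)).card →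
        Multiplicative (ZMod (r ^ padicValNat r (q ^ orderOf (q : ZMod r) - 1))))) := by
  classical
  set e := orderOf (q : ZMod r) with he
  set a := padicValNat r (q ^ e - 1) with ha
  have he0 : 0 < e := orderOf_cast_pos hrq
  have hq2 : 2 ≤ q := hq ▸ Fintype.one_lt_card
  have hr : r.Prime := Fact.out
  -- the divisor controlling the count
  obtain ⟨d, hd0, hd, hdiv⟩ : ∃ d, 0 < d ∧ (∀ j, e ∣ 2 * j ↔ d ∣ j) ∧
      ∀ j, d ∣ j → 2 * j / e ∣ 2 * (j / d) := by
    by_cases h2 : 2 ∣ e
    · obtain ⟨d, rfl'⟩ := h2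
      have hd0 : 0 < d := by omega
      refine ⟨d, hd0, fun j => ?_, fun j _ => ?_⟩
      · rw [rfl', Nat.mul_dvd_mul_iff_left (by omega)]
      · rw [rfl', Nat.mul_div_mul_left _ _ (by omega)]
        exact dvd_mul_left _ _
    · refine ⟨e, he0, fun j => ⟨fun h => (Nat.Coprime.dvd_mul_left ?_).1 h, fun h => h.mul_left 2⟩, fun j h => ?_⟩
      · exact ((Nat.prime_two.coprime_iff_not_dvd).2 h2).symm
      · rw [Nat.mul_div_assoc 2 h]
  have hnot : ∀ j, 0 < j → j ≤ n → d ∣ j → ¬ r ∣ 2 * j / e := by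
    intro j hj hjn hdj h
    rcases hr.dvd_mul.1 (h.trans (hdiv j hdj)) with h' | h'
    · exact hr2 ((Nat.prime_dvd_prime_iff_eq hr Nat.prime_two).1 h')
    · exact Nat.not_dvd_of_pos_of_lt (Nat.div_pos (Nat.le_of_dvd hj hdj) hd0)
        (lt_of_le_of_lt ((Nat.div_le_self _ _).trans hjn) hrn) h'
  have hcount : ((Finset.Icc 1 n).filter (fun i => e ∣ 2 * i)).card = n / d := by
    rw [← Nat.Ioc_filter_dvd_card_eq_div n d]
    congr 1
    ext i
    simp only [Finset.mem_filter, Finset.mem_Icc, Finset.mem_Ioc, hd]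
    omega
  have hval : padicValNat r (Nat.card ↥(Matrix.symplecticGroup (Fin n) F)) = n / d * a := by
    rw [CfsgLib.Symp.card_Sp, Nat.card_eq_fintype_card, hq]
    have hne : ∀ i ∈ Finset.range n, q ^ (2 * (i + 1)) - 1 ≠ 0 := fun i _ => by
      have := Nat.one_lt_pow (show 2 * (i + 1) ≠ 0 by omega) (show 1 < q by omega); omega
    rw [padicValNat.mul (pow_ne_zero _ (by omega)) (Finset.prod_ne_zero_iff.2 hne),
      padicValNat.eq_zero_of_not_dvd fun h => hrq (hr.dvd_of_dvd_pow h), zero_add,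
      ← Nat.factorization_def _ hr, Nat.factorization_prod hne, Finsupp.finset_sum_apply]
    have hterm : ∀ i ∈ Finset.range n, (q ^ (2 * (i + 1)) - 1).factorization r =
        if d ∣ i + 1 then a else 0 := by
      intro i hi
      rw [Finset.mem_range] at hi
      rw [Nat.factorization_def _ hr, val_pow_sub_one' hq2 hrq (by omega)
        fun h => hnot _ (by omega) (by omega) ((hd _).1 h)]
      simp only [← he, hd, ← ha]
    rw [Finset.sum_congr rfl hterm, Finset.sum_ite, Finset.sum_const, Finset.sum_const_zero, add_zero,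
      Nat.card_multiples, smul_eq_mul]
  rw [hcount]
  by_cases h2 : 2 ∣ e
  · -- the symplectic Sylow subgroup is a Sylow subgroup of the general linear group
    obtain ⟨k, hk⟩ := h2
    have hdk : d = k := Nat.dvd_antisymm
      ((hd k).1 (by rw [hk]))
      (by have h3 := (hd d).2 dvd_rfl; rw [hk] at h3; exact (Nat.mul_dvd_mul_iff_left (by omega)).1 h3)
    have hdiv2 : 2 * n / e = n / d := by rw [hk, hdk, Nat.mul_div_mul_left _ _ (by omega)]
    obtain ⟨ι, hι⟩ := exists_gl_of_sp (F := F) n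
    have hval' : padicValNat r (Nat.card (GL (Fin (2 * n)) F)) = n / d * a := by
      rw [val_card_gl' hq hrq (fun j hj hjn h => ?_), ← he, hdiv2, ← ha]
      rw [← he] at h ⊢
      refine Nat.not_dvd_of_pos_of_lt (Nat.div_pos (Nat.le_of_dvd hj h) he0) ?_
      calc j / e ≤ (2 * n) / 2 := Nat.div_le_div hjn (by omega) (by omega)
        _ = n := by omega
        _ < r := hrn
    let Q : Subgroup (GL (Fin (2 * n)) F) := (P : Subgroup ↥(Matrix.symplecticGroup (Fin n) F)).map ι
    have hQc : Nat.card Q = r ^ (Nat.card (GL (Fin (2 * n)) F)).factorization r := by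
      rw [Subgroup.card_map_of_injective hι, P.card_eq_multiplicity, Nat.factorization_def _ hr,
        Nat.factorization_def _ hr, hval, hval']
    obtain ⟨f, hf⟩ := exists_embedding_gl (n := 2 * n) (F := F) hq hrq
    obtain ⟨E⟩ := sylow_equiv_of_injective (Sylow.ofCard Q hQc) f hf (by
      rw [card_pi_cyclic, hval', ← pow_mul, ← hdiv2, mul_comm])
    rw [← hdiv2]
    exact ⟨((Subgroup.equivMapOfInjective _ ι hι).trans
      (MulEquiv.subgroupCongr (Sylow.coe_ofCard Q hQc).symm)).trans E⟩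
  · -- the Levi subgroup `GL n` contains a Sylow subgroup
    have hde : d = e := Nat.dvd_antisymm ((hd e).1 (dvd_mul_left e 2))
      ((Nat.Coprime.dvd_mul_left ((Nat.prime_two.coprime_iff_not_dvd).2 h2).symm).1 ((hd d).2 dvd_rfl))
    rw [hde] at hval ⊢
    obtain ⟨ι, hι⟩ := exists_embedding_sp (F := F) n
    obtain ⟨f, hf⟩ := exists_embedding_gl (n := n) (F := F) hq hrq
    refine sylow_equiv_of_injective P (ι.comp f) (hι.comp hf) ?_
    rw [card_pi_cyclic, hval, ← pow_mul, mul_comm]

end CfsgLib.SylowLarge
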