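import Cfsg.Agent.Classical.SymplecticBlocks
import Cfsg.Agent.Forms.OfBilin
import Cfsg.Prelude.Def_ClassicalGeometry
import Mathlib.LinearAlgebra.Matrix.GeneralLinearGroup.Card

/-!
Witt transitivity for `Sp`, stabilisers of totally isotropic and non-degenerate subspaces,
counting totally isotropic lines.
-/

set_option autoImplicit false
set_option linter.flexible false
set_option linter.unusedSectionVars false

namespace CfsgLib.Symp.Geometry

open Matrix

variable {l F : Type*} [Fintype l] [DecidableEq l] [Field F]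

/-- The form as a bilinear map. -/
def formB (l F : Type*) [Fintype l] [DecidableEq l] [Field F] : LinearMap.BilinForm F (l ⊕ l → F) :=
  LinearMap.mk₂ F form form_add_left (fun c u v => by rw [form_smul_left, smul_eq_mul])
    form_add_right (fun c u v => by rw [form_smul_right, smul_eq_mul])

theorem formB_apply (u v : l ⊕ l → F) : formB l F u v = form u v := rfl

theorem formB_alt : (formB l F).IsAlt := fun u => form_self u

theorem formB_nondeg : (formB l F).Nondegenerate :=
  ⟨fun u hu => eq_zero_of_form_eq_zero fun w => by rw [form_swap, ← formB_apply, hu w, neg_zero],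
    fun v hv => eq_zero_of_form_eq_zero fun w => hv w⟩

/-- A form preserving linear map as a symplectic matrix. -/
theorem exists_of_linearEquiv (g : (l ⊕ l → F) ≃ₗ[F] (l ⊕ l → F))
    (hg : ∀ u v, form (g u) (g v) = form u v) :
    ∃ s : Matrix.symplecticGroup l F, ∀ v, s • v = g v :=
  ⟨⟨LinearMap.toMatrix' g.toLinearMap, mem_iff_form.2 fun u v => by
      rw [LinearMap.toMatrix'_mulVec, LinearMap.toMatrix'_mulVec]; exact hg u v⟩,
    fun v => LinearMap.toMatrix'_mulVec _ v⟩

/-- Witt's lemma for families. -/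
theorem exists_sp_family {k : ℕ} (v w : Fin k → (l ⊕ l → F)) (hv : LinearIndependent F v)
    (hw : LinearIndependent F w) (h : ∀ i j, form (v i) (v j) = form (w i) (w j)) :
    ∃ s : Matrix.symplecticGroup l F, ∀ i, s • v i = w i := by
  obtain ⟨g, hg, hgb⟩ := (CfsgLib.Forms.ofAlt (formB l F) formB_alt).exists_map_family
    (CfsgLib.Forms.ofAlt_nondeg formB_nondeg formB_alt) v w hv hw h
  obtain ⟨s, hs⟩ := exists_of_linearEquiv g fun a b => hg a b
  exact ⟨s, fun i => (hs _).trans (hgb i)⟩

/-- Stabiliser of a subspace. -/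
def stabSub (W : Submodule F (l ⊕ l → F)) : Subgroup (Matrix.symplecticGroup l F) where
  carrier := {g | ∀ v, v ∈ W ↔ g • v ∈ W}
  one_mem' v := by rw [one_smul]
  mul_mem' {a b} ha hb v := by rw [mul_smul]; exact (hb v).trans (ha _)
  inv_mem' {a} ha v := by
    have := ha (a⁻¹ • v)
    rwa [smul_inv_smul, Iff.comm] at this

theorem mem_stabSub_iff_le [Finite F] {W : Submodule F (l ⊕ l → F)}
    {g : Matrix.symplecticGroup l F} : g ∈ stabSub W ↔ ∀ v ∈ W, g • v ∈ W := by
  refine ⟨fun h v hv => (h v).1 hv, fun h v => ⟨h v, fun hv => ?_⟩⟩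
  have hinj : Function.Injective fun x : W => (⟨g • x.1, h _ x.2⟩ : W) := fun x y e =>
    Subtype.ext (MulAction.injective g (congrArg Subtype.val e))
  obtain ⟨x, hx⟩ := Finite.surjective_of_injective hinj ⟨g • v, hv⟩
  rw [← MulAction.injective g (congrArg Subtype.val hx)]
  exact x.2

/-! ### Isotropic tuples -/

/-- Independent isotropic tuples. -/
def IsoTuple (l F : Type*) [Fintype l] [DecidableEq l] [Field F] (k : ℕ) : Type _ :=
  {v : Fin k → (l ⊕ l → F) // LinearIndependent F v ∧ ∀ i j, form (v i) (v j) = 0}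

instance (k : ℕ) : SMul (Matrix.symplecticGroup l F) (IsoTuple l F k) where
  smul g v := ⟨fun i => g • v.1 i, by
    refine ⟨?_, fun i j => by rw [form_smul_smul]; exact v.2.2 i j⟩
    exact v.2.1.map' (Matrix.mulVecLin g.1) (LinearMap.ker_eq_bot.2 fun a b e =>
      MulAction.injective g e)⟩

instance (k : ℕ) : MulAction (Matrix.symplecticGroup l F) (IsoTuple l F k) where
  one_smul v := Subtype.ext (funext fun i => one_smul _ (v.1 i))
  mul_smul g h v := Subtype.ext (funext fun i => mul_smul g h (v.1 i))

theorem smul_val {k : ℕ} (g : Matrix.symplecticGroup l F) (v : IsoTuple l F k) (i : Fin k) :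
    (g • v).1 i = g • v.1 i := rfl

instance (k : ℕ) : MulAction.IsPretransitive (Matrix.symplecticGroup l F) (IsoTuple l F k) :=
  ⟨fun v w => by
    obtain ⟨s, hs⟩ := exists_sp_family v.1 w.1 v.2.1 w.2.1 fun i j => by rw [v.2.2, w.2.2]
    exact ⟨s, Subtype.ext (funext hs)⟩⟩

variable [Finite F]

instance (k : ℕ) : Finite (IsoTuple l F k) := Subtype.finite

theorem card_tuple_mul_stab {k : ℕ} (v : IsoTuple l F k) :
    Nat.card (IsoTuple l F k) * Nat.card (MulAction.stabilizer (Matrix.symplecticGroup l F) v) =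
      Nat.card (Matrix.symplecticGroup l F) := by
  rw [← MulAction.index_stabilizer_of_transitive (Matrix.symplecticGroup l F) v, mul_comm,
    Subgroup.card_mul_index]

/-- Pairing against a tuple. -/
def pairMap {k : ℕ} (v : Fin k → (l ⊕ l → F)) : (l ⊕ l → F) →ₗ[F] (Fin k → F) :=
  LinearMap.pi fun i => formB l F (v i)

theorem pairMap_surjective {k : ℕ} {v : Fin k → (l ⊕ l → F)} (hv : LinearIndependent F v) :
    Function.Surjective (pairMap v) := by
  rw [← LinearMap.range_eq_top]
  by_contra hne
  obtain ⟨φ, hφ, hle⟩ := Submodule.exists_le_ker_of_lt_top _ (lt_of_le_of_ne le_top hne)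
  refine hφ (LinearMap.ext fun y => ?_)
  have hsum : ∑ i, φ (Pi.single i 1) • v i = 0 := by
    refine eq_zero_of_form_eq_zero fun u => ?_
    have h1 : φ (pairMap v u) = 0 := hle (LinearMap.mem_range_self _ u)
    rw [pi_eq_sum_univ' (pairMap v u), map_sum] at h1
    rw [← formB_apply, map_sum, ← neg_eq_zero, ← Finset.sum_neg_distrib, ← h1]
    refine Finset.sum_congr rfl fun i _ => ?_
    rw [map_smul, map_smul, smul_eq_mul, smul_eq_mul, formB_apply, form_swap u]
    change _ = (form (v i) u) * _
    ring_nf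
  have hz := Fintype.linearIndependent_iff.1 hv _ hsum
  rw [pi_eq_sum_univ' y, map_sum, LinearMap.zero_apply]
  exact Finset.sum_eq_zero fun i _ => by rw [map_smul, hz i, smul_zero]

theorem card_succ_tuple (k : ℕ) :
    Nat.card (IsoTuple l F (k + 1)) = Nat.card (IsoTuple l F k) *
      (Nat.card F ^ (2 * Fintype.card l - k) - Nat.card F ^ k) := by
  classical
  haveI := Fintype.ofFinite F
  let e : IsoTuple l F (k + 1) ≃ Σ v : IsoTuple l F k,
      {u : LinearMap.ker (pairMap v.1) // u.1 ∉ Submodule.span F (Set.range v.1)} :=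
    { toFun := fun w => ⟨⟨fun i => w.1 i.succ, w.2.1.comp _ (Fin.succ_injective _),
          fun i j => w.2.2 _ _⟩,
        ⟨⟨w.1 0, LinearMap.mem_ker.2 (funext fun i => w.2.2 i.succ 0)⟩, by
          have := w.2.1
          rw [← Fin.cons_self_tail w.1, linearIndependent_finCons] at this
          exact this.2⟩⟩
      invFun := fun p => ⟨Fin.cons p.2.1.1 p.1.1, linearIndependent_finCons.2 ⟨p.1.2.1, p.2.2⟩, by
          intro i j
          refine Fin.cases ?_ (fun i => ?_) i <;> refine Fin.cases ?_ (fun j => ?_) j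
          · simp [form_self]
          · simp only [Fin.cons_zero, Fin.cons_succ]
            rw [form_swap, show form (p.1.1 j) p.2.1.1 = 0 from congrFun (LinearMap.mem_ker.1 p.2.1.2) j,
              neg_zero]
          · simp only [Fin.cons_zero, Fin.cons_succ]
            exact congrFun (LinearMap.mem_ker.1 p.2.1.2) i
          · simp only [Fin.cons_succ]
            exact p.1.2.2 i j⟩
      left_inv := fun w => Subtype.ext (Fin.cons_self_tail w.1)
      right_inv := fun ⟨v, u⟩ => rfl }
  haveI := Fintype.ofFinite (IsoTuple l F k)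
  have hfib : ∀ v : IsoTuple l F k,
      Nat.card {u : LinearMap.ker (pairMap v.1) // u.1 ∉ Submodule.span F (Set.range v.1)} =
        Nat.card F ^ (2 * Fintype.card l - k) - Nat.card F ^ k := by
    intro v
    have hdim := CfsgLib.Forms.finrank_ker_add _ (pairMap_surjective v.2.1)
    rw [Module.finrank_fin_fun, Module.finrank_fintype_fun_eq_card, Fintype.card_sum] at hdim
    have hspan : Submodule.span F (Set.range v.1) ≤ LinearMap.ker (pairMap v.1) := by
      rw [Submodule.span_le]
      rintro _ ⟨j, rfl⟩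
      exact LinearMap.mem_ker.2 (funext fun i => v.2.2 i j)
    rw [Nat.card_eq_fintype_card, Fintype.card_subtype_compl, ← Nat.card_eq_fintype_card,
      ← Nat.card_eq_fintype_card,
      show Nat.card {u : LinearMap.ker (pairMap v.1) // u.1 ∈ Submodule.span F (Set.range v.1)} =
        Nat.card (Submodule.span F (Set.range v.1)) from
          Nat.card_congr (Equiv.subtypeSubtypeEquivSubtype fun {x} hx => hspan hx),
      Module.natCard_eq_pow_finrank (K := F) (V := LinearMap.ker (pairMap v.1)),
      Module.natCard_eq_pow_finrank (K := F) (V := Submodule.span F (Set.range v.1)),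
      finrank_span_eq_card v.2.1, Fintype.card_fin]
    congr 2
    omega
  rw [Nat.card_congr e, Nat.card_sigma, Finset.sum_congr rfl fun v _ => hfib v, Finset.sum_const,
    Finset.card_univ, smul_eq_mul, ← Nat.card_eq_fintype_card]

theorem card_tuple_zero : Nat.card (IsoTuple l F 0) = 1 := by
  haveI : Unique (IsoTuple l F 0) :=
    { default := ⟨Fin.elim0, linearIndependent_empty_type, fun i => i.elim0⟩
      uniq := fun v => Subtype.ext (funext fun i => i.elim0) }
  exact Nat.card_unique

/-- `|Sp_2m|` through isotropic `k`-tuples. -/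
theorem card_sp_eq (m : ℕ) : ∀ k, k ≤ m → Nat.card (Matrix.symplecticGroup (Fin m) F) =
    Nat.card (IsoTuple (Fin m) F k) * (Nat.card F ^ (k * (k + 1) / 2 + 2 * k * (m - k)) *
      (Nat.card F ^ ((m - k) ^ 2) * ∏ i ∈ Finset.range (m - k), (Nat.card F ^ (2 * (i + 1)) - 1))) := by
  intro k
  induction k with
  | zero =>
    intro _
    rw [card_tuple_zero, card_Sp]
    simp
  | succ k ih =>
    intro hk
    rw [ih (by omega), card_succ_tuple, Fintype.card_fin, show m - k = m - (k + 1) + 1 by omega,
      Finset.prod_range_succ]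
    set j := m - (k + 1)
    have hm : m = k + 1 + j := by omega
    have hexp : Nat.card F ^ (2 * m - k) - Nat.card F ^ k =
        Nat.card F ^ k * (Nat.card F ^ (2 * (j + 1)) - 1) := by
      rw [Nat.mul_sub, mul_one, ← pow_add]
      congr 2
      omega
    rw [hexp]
    have he : Nat.card F ^ (k * (k + 1) / 2 + 2 * k * (j + 1)) * Nat.card F ^ ((j + 1) ^ 2) =
        Nat.card F ^ k * (Nat.card F ^ ((k + 1) * (k + 1 + 1) / 2 + 2 * (k + 1) * j) *
          Nat.card F ^ (j ^ 2)) := by
      rw [← pow_add, ← pow_add, ← pow_add]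
      congr 1
      rw [show (k + 1) * (k + 1 + 1) = k * (k + 1) + (k + 1) * 2 by ring,
        Nat.add_mul_div_right _ _ two_pos, show (j + 1) ^ 2 = j ^ 2 + (2 * j + 1) by ring,
        show 2 * (k + 1) * j = 2 * k * j + 2 * j by ring, show 2 * k * (j + 1) = 2 * k * j + 2 * k by ring]
      omega
    calc _ = Nat.card (IsoTuple (Fin m) F k) * ((Nat.card F ^ (k * (k + 1) / 2 + 2 * k * (j + 1)) *
          Nat.card F ^ ((j + 1) ^ 2)) * ((∏ i ∈ Finset.range j, (Nat.card F ^ (2 * (i + 1)) - 1)) *
            (Nat.card F ^ (2 * (j + 1)) - 1))) := by ring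
      _ = _ := by rw [he]; ring

/-- Bases of `W` are the isotropic tuples spanning it. -/
theorem card_stabSub_mul {k : ℕ} (W : Submodule F (l ⊕ l → F)) (hWk : Module.finrank F W = k)
    (hW : ∀ u ∈ W, ∀ v ∈ W, form u v = 0) :
    Nat.card (stabSub W) * Nat.card (IsoTuple l F k) =
      (∏ i : Fin k, (Nat.card F ^ k - Nat.card F ^ (i : ℕ))) * Nat.card (Matrix.symplecticGroup l F) := by
  classical
  haveI := Fintype.ofFinite F
  let B := {v : IsoTuple l F k // ∀ i, v.1 i ∈ W}
  letI : MulAction (stabSub W) B :=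
    { smul := fun g v => ⟨g.1 • v.1, fun i => (g.2 _).1 (v.2 i)⟩
      one_smul := fun v => Subtype.ext (one_smul _ _)
      mul_smul := fun g h v => Subtype.ext (mul_smul _ _ _) }
  let e : B ≃ {s : Fin k → W // LinearIndependent F s} :=
    { toFun := fun v => ⟨fun i => ⟨v.1.1 i, v.2 i⟩, LinearIndependent.of_comp W.subtype v.1.2.1⟩
      invFun := fun s => ⟨⟨fun i => (s.1 i).1, s.2.map' W.subtype W.ker_subtype,
        fun i j => hW _ (s.1 i).2 _ (s.1 j).2⟩, fun i => (s.1 i).2⟩
      left_inv := fun v => rfl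
      right_inv := fun s => rfl }
  have hcardB : Nat.card B = ∏ i : Fin k, (Nat.card F ^ k - Nat.card F ^ (i : ℕ)) := by
    rw [Nat.card_congr e, card_linearIndependent (K := F) (V := W) hWk.ge, hWk,
      Nat.card_eq_fintype_card (α := F)]
  obtain ⟨v0⟩ : Nonempty B := by
    let b := Module.finBasisOfFinrankEq F W hWk
    exact ⟨⟨⟨fun i => (b i).1, b.linearIndependent.map' W.subtype W.ker_subtype,
      fun i j => hW _ (b i).2 _ (b j).2⟩, fun i => (b i).2⟩⟩
  have hspan : ∀ v : B, Submodule.span F (Set.range v.1.1) = W := by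
    intro v
    refine Submodule.eq_of_le_of_finrank_eq (Submodule.span_le.2 ?_) ?_
    · rintro _ ⟨i, rfl⟩; exact v.2 i
    · rw [finrank_span_eq_card v.1.2.1, Fintype.card_fin, hWk]
  have hmap : ∀ (g : Matrix.symplecticGroup l F) (v w : B), g • v.1 = w.1 → g ∈ stabSub W := by
    intro g v w h
    refine mem_stabSub_iff_le.2 fun x hx => ?_
    rw [← hspan v] at hx
    induction hx using Submodule.span_induction with
    | mem y hy =>
      obtain ⟨i, rfl⟩ := hy
      rw [← smul_val, h]; exact w.2 i
    | zero => rw [smul_zero]; exact W.zero_mem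
    | add y z _ _ hy hz => rw [smul_add]; exact W.add_mem hy hz
    | smul c y _ hy => rw [smul_comm]; exact W.smul_mem c hy
  haveI : MulAction.IsPretransitive (stabSub W) B := ⟨fun v w => by
    obtain ⟨g, hg⟩ := MulAction.exists_smul_eq (Matrix.symplecticGroup l F) v.1 w.1
    exact ⟨⟨g, hmap g v w hg⟩, Subtype.ext hg⟩⟩
  have hstab : Nat.card (MulAction.stabilizer (stabSub W) v0) =
      Nat.card (MulAction.stabilizer (Matrix.symplecticGroup l F) v0.1) :=
    Nat.card_congr
      { toFun := fun g => ⟨g.1.1, congrArg Subtype.val g.2⟩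
        invFun := fun g => ⟨⟨g.1, hmap g.1 v0 v0 g.2⟩, Subtype.ext g.2⟩
        left_inv := fun g => rfl
        right_inv := fun g => rfl }
  have h1 := Subgroup.card_mul_index (MulAction.stabilizer (stabSub W) v0)
  rw [MulAction.index_stabilizer_of_transitive (stabSub W) v0, hstab, hcardB] at h1
  rw [← card_tuple_mul_stab v0.1, ← h1]
  ring

theorem card_stabSub {m k : ℕ} (hk : k ≤ m) (W : Submodule F (Fin m ⊕ Fin m → F))
    (hWk : Module.finrank F W = k) (hW : ∀ u ∈ W, ∀ v ∈ W, form u v = 0) :
    Nat.card (stabSub W) = Nat.card F ^ (k * (k + 1) / 2 + 2 * k * (m - k)) *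
      (Nat.card F ^ ((m - k) ^ 2) * ∏ i ∈ Finset.range (m - k), (Nat.card F ^ (2 * (i + 1)) - 1)) *
      ∏ i : Fin k, (Nat.card F ^ k - Nat.card F ^ (i : ℕ)) := by
  haveI : Nonempty (IsoTuple (Fin m) F k) := by
    let b := Module.finBasisOfFinrankEq F W hWk
    exact ⟨⟨fun i => (b i).1, b.linearIndependent.map' W.subtype W.ker_subtype,
      fun i j => hW _ (b i).2 _ (b j).2⟩⟩
  refine Nat.eq_of_mul_eq_mul_right (Nat.card_pos (α := IsoTuple (Fin m) F k)) ?_
  rw [card_stabSub_mul W hWk hW, card_sp_eq m k hk]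
  ring

/-! ### Isotropic lines in dimension four -/

theorem span_pair_iso {v w : l ⊕ l → F} (h : form v w = 0) :
    ∀ u ∈ Submodule.span F (Set.range ![v, w]), ∀ x ∈ Submodule.span F (Set.range ![v, w]),
      form u x = 0 := by
  intro u hu x hx
  obtain ⟨a, rfl⟩ := (Submodule.mem_span_range_iff_exists_fun F).1 hu
  obtain ⟨b, rfl⟩ := (Submodule.mem_span_range_iff_exists_fun F).1 hx
  simp [Fin.sum_univ_two, form_add_left, form_add_right, form_smul_left, form_smul_right, form_self,
    h, form_swap w v]

theorem card_lines_mul :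
    Nat.card {W : Submodule F (l ⊕ l → F) // Module.finrank F W = 2 ∧ ∀ u ∈ W, ∀ v ∈ W, form u v = 0} *
      ((Nat.card F ^ 2 - 1) * (Nat.card F ^ 2 - Nat.card F)) = Nat.card (IsoTuple l F 2) := by
  classical
  haveI := Fintype.ofFinite F
  let L := {W : Submodule F (l ⊕ l → F) // Module.finrank F W = 2 ∧ ∀ u ∈ W, ∀ v ∈ W, form u v = 0}
  let f : IsoTuple l F 2 → L := fun v => ⟨Submodule.span F (Set.range v.1),
    by rw [finrank_span_eq_card v.2.1, Fintype.card_fin], by
      intro u hu x hx
      refine span_pair_iso (v.2.2 0 1) u ?_ x ?_ <;>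
      · rwa [show ![v.1 0, v.1 1] = v.1 from funext fun i => by fin_cases i <;> rfl]⟩
  haveI := Fintype.ofFinite L
  rw [← Nat.card_congr (Equiv.sigmaFiberEquiv f), Nat.card_sigma]
  have hfib : ∀ W : L, Nat.card {v // f v = W} =
      (Nat.card F ^ 2 - 1) * (Nat.card F ^ 2 - Nat.card F) := by
    intro W
    let e : {v // f v = W} ≃ {s : Fin 2 → W.1 // LinearIndependent F s} :=
      { toFun := fun v => ⟨fun i => ⟨v.1.1 i, by
            have := congrArg Subtype.val v.2
            rw [← this]
            exact Submodule.subset_span ⟨i, rfl⟩⟩, LinearIndependent.of_comp W.1.subtype v.1.2.1⟩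
        invFun := fun s => ⟨⟨fun i => (s.1 i).1, s.2.map' W.1.subtype W.1.ker_subtype,
            fun i j => W.2.2 _ (s.1 i).2 _ (s.1 j).2⟩, Subtype.ext (by
            refine Submodule.eq_of_le_of_finrank_eq (Submodule.span_le.2 ?_) ?_
            · rintro _ ⟨i, rfl⟩; exact (s.1 i).2
            · rw [finrank_span_eq_card (b := fun i => (s.1 i).1)
                (s.2.map' W.1.subtype W.1.ker_subtype), Fintype.card_fin, W.2.1])⟩
        left_inv := fun v => rfl
        right_inv := fun s => rfl }
    rw [Nat.card_congr e, card_linearIndependent (K := F) (V := W.1) W.2.1.ge, W.2.1,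
      Fin.prod_univ_two, Nat.card_eq_fintype_card (α := F)]
    simp
  rw [Finset.sum_congr rfl fun W _ => hfib W, Finset.sum_const, Finset.card_univ, smul_eq_mul,
    Nat.card_eq_fintype_card (α := L)]

theorem card_lines_through {v : l ⊕ l → F} (hv : v ≠ 0) :
    Nat.card {W : Submodule F (l ⊕ l → F) // Module.finrank F W = 2 ∧ v ∈ W ∧
      ∀ u ∈ W, ∀ w ∈ W, form u w = 0} * (Nat.card F ^ 2 - Nat.card F) =
      Nat.card F ^ (2 * Fintype.card l - 1) - Nat.card F := by
  classical
  haveI := Fintype.ofFinite F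
  let L := {W : Submodule F (l ⊕ l → F) // Module.finrank F W = 2 ∧ v ∈ W ∧
      ∀ u ∈ W, ∀ w ∈ W, form u w = 0}
  let P := {w : LinearMap.ker (formB l F v) // w.1 ∉ Submodule.span F ({v} : Set (l ⊕ l → F))}
  have hindep : ∀ w : P, LinearIndependent F ![v, w.1.1] := fun w =>
    (LinearIndependent.pair_iff' hv).2 fun a e => w.2 (e ▸ Submodule.smul_mem _ a (Submodule.mem_span_singleton_self v))
  let f : P → L := fun w => ⟨Submodule.span F (Set.range ![v, w.1.1]),
    by rw [finrank_span_eq_card (hindep w), Fintype.card_fin],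
    Submodule.subset_span ⟨0, rfl⟩, span_pair_iso (LinearMap.mem_ker.1 w.1.2)⟩
  have hvv : Module.finrank F (Submodule.span F ({v} : Set (l ⊕ l → F))) = 1 := finrank_span_singleton hv
  haveI := Fintype.ofFinite L
  have hP : Nat.card P = Nat.card F ^ (2 * Fintype.card l - 1) - Nat.card F := by
    have hsurj : Function.Surjective (formB l F v) := by
      obtain ⟨w, hw⟩ := exists_form_eq_one hv
      exact fun c => ⟨c • w, by rw [map_smul, formB_apply, hw, smul_eq_mul, mul_one]⟩
    have hdim := CfsgLib.Forms.finrank_ker_add _ hsurj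
    rw [Module.finrank_self, Module.finrank_fintype_fun_eq_card, Fintype.card_sum] at hdim
    rw [Nat.card_eq_fintype_card, Fintype.card_subtype_compl, ← Nat.card_eq_fintype_card,
      ← Nat.card_eq_fintype_card,
      show Nat.card {w : LinearMap.ker (formB l F v) // w.1 ∈ Submodule.span F ({v} : Set (l ⊕ l → F))} =
        Nat.card (Submodule.span F ({v} : Set (l ⊕ l → F))) from
          Nat.card_congr (Equiv.subtypeSubtypeEquivSubtype fun {x} hx => by
            obtain ⟨a, rfl⟩ := Submodule.mem_span_singleton.1 hx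
            rw [LinearMap.mem_ker, map_smul, formB_apply, form_self, smul_zero]),
      Module.natCard_eq_pow_finrank (K := F) (V := LinearMap.ker (formB l F v)),
      Module.natCard_eq_pow_finrank (K := F) (V := Submodule.span F ({v} : Set (l ⊕ l → F))),
      hvv, pow_one]
    congr 2
    omega
  have hfib : ∀ W : L, Nat.card {w // f w = W} = Nat.card F ^ 2 - Nat.card F := by
    intro W
    let e : {w // f w = W} ≃ {w : W.1 // w.1 ∉ Submodule.span F ({v} : Set (l ⊕ l → F))} :=
      { toFun := fun w => ⟨⟨w.1.1.1, by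
            have := congrArg Subtype.val w.2
            rw [← this]
            exact Submodule.subset_span ⟨1, rfl⟩⟩, w.1.2⟩
        invFun := fun w => ⟨⟨⟨w.1.1, LinearMap.mem_ker.2 (W.2.2.2 v W.2.2.1 _ w.1.2)⟩, w.2⟩,
          Subtype.ext (by
            refine Submodule.eq_of_le_of_finrank_eq (Submodule.span_le.2 ?_) ?_
            · rintro _ ⟨i, rfl⟩; fin_cases i
              · exact W.2.2.1
              · exact w.1.2
            · rw [finrank_span_eq_card (hindep ⟨⟨w.1.1, _⟩, w.2⟩), Fintype.card_fin, W.2.1])⟩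
        left_inv := fun w => rfl
        right_inv := fun w => rfl }
    rw [Nat.card_congr e, Nat.card_eq_fintype_card, Fintype.card_subtype_compl,
      ← Nat.card_eq_fintype_card, ← Nat.card_eq_fintype_card,
      show Nat.card {w : W.1 // w.1 ∈ Submodule.span F ({v} : Set (l ⊕ l → F))} =
        Nat.card (Submodule.span F ({v} : Set (l ⊕ l → F))) from
          Nat.card_congr (Equiv.subtypeSubtypeEquivSubtype fun {x} hx => by
            obtain ⟨a, rfl⟩ := Submodule.mem_span_singleton.1 hx
            exact W.1.smul_mem a W.2.2.1),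
      Module.natCard_eq_pow_finrank (K := F) (V := W.1),
      Module.natCard_eq_pow_finrank (K := F) (V := Submodule.span F ({v} : Set (l ⊕ l → F))),
      hvv, W.2.1, pow_one]
  rw [← hP, ← Nat.card_congr (Equiv.sigmaFiberEquiv f), Nat.card_sigma,
    Finset.sum_congr rfl fun W _ => hfib W, Finset.sum_const, Finset.card_univ, smul_eq_mul,
    Nat.card_eq_fintype_card (α := L)]

theorem card_lines_four {q : ℕ} (hq : Nat.card F = q) :
    Nat.card {W : Submodule F (Fin 2 ⊕ Fin 2 → F) // Module.finrank F W = 2 ∧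
        ∀ u ∈ W, ∀ v ∈ W, form u v = 0} = (q + 1) * (q ^ 2 + 1) ∧
      ∀ v : Fin 2 ⊕ Fin 2 → F, v ≠ 0 →
        Nat.card {W : Submodule F (Fin 2 ⊕ Fin 2 → F) // Module.finrank F W = 2 ∧ v ∈ W ∧
          ∀ u ∈ W, ∀ w ∈ W, form u w = 0} = q + 1 := by
  subst hq
  have hq2 : 2 ≤ Nat.card F := Finite.one_lt_card
  set q := Nat.card F with hqd
  have hpos : 0 < q ^ 2 - q := by
    have : q * 1 < q * q := Nat.mul_lt_mul_of_pos_left (by omega) (by omega)
    rw [pow_two]; omega
  refine ⟨?_, fun v hv => ?_⟩
  · refine Nat.eq_of_mul_eq_mul_right (Nat.mul_pos (by omega : 0 < q ^ 2 - 1) hpos) ?_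
    rw [card_lines_mul, card_succ_tuple, card_succ_tuple, card_tuple_zero, Fintype.card_fin, ← hqd]
    have h4 : 1 ≤ q ^ 4 := Nat.one_le_pow _ _ (by omega)
    have h2 : q ≤ q ^ 2 := Nat.le_self_pow (by omega) _
    have h3 : q ≤ q ^ 3 := Nat.le_self_pow (by omega) _
    have h1 : 1 ≤ q ^ 2 := Nat.one_le_pow _ _ (by omega)
    simp only [show 2 * 2 - 0 = 4 from rfl, show 2 * 2 - (0 + 1) = 3 from rfl, pow_zero, zero_add, pow_one,
      one_mul]
    zify [h4, h2, h3, h1]
    ring
  · refine Nat.eq_of_mul_eq_mul_right hpos ?_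
    rw [card_lines_through hv, Fintype.card_fin, ← hqd]
    have h2 : q ≤ q ^ 2 := Nat.le_self_pow (by omega) _
    have h3 : q ≤ q ^ 3 := Nat.le_self_pow (by omega) _
    simp only [show 2 * 2 - 1 = 3 from rfl]
    zify [h2, h3]
    ring

/-! ### Non-degenerate subspaces -/

omit [Finite F] in
theorem stabSub_map (g : Matrix.symplecticGroup l F) (W : Submodule F (l ⊕ l → F)) :
    stabSub (W.map (Matrix.mulVecLin g.1)) = (stabSub W).map (MulAut.conj g).toMonoidHom := by
  have hmem : ∀ x, x ∈ W.map (Matrix.mulVecLin g.1) ↔ g⁻¹ • x ∈ W := by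
    intro x
    constructor
    · rintro ⟨y, hy, rfl⟩
      rw [show Matrix.mulVecLin g.1 y = g • y from rfl, inv_smul_smul]; exact hy
    · intro h
      exact ⟨_, h, smul_inv_smul g x⟩
  ext x
  rw [Subgroup.mem_map_equiv, MulAut.conj_symm_apply]
  constructor
  · intro h v
    have := h (g • v)
    rw [hmem, hmem, inv_smul_smul] at this
    rwa [mul_smul, mul_smul]
  · intro h v
    rw [hmem, hmem]
    have := h (g⁻¹ • v)
    rwa [mul_smul, mul_smul, smul_inv_smul] at this

omit [Finite F] in
theorem nondeg_stab_equiv {m k : ℕ} (hk : k ≤ m) (W : Submodule F (Fin m ⊕ Fin m → F))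
    (hWk : Module.finrank F W = 2 * k) (hW : ∀ u ∈ W, (∀ v ∈ W, form u v = 0) → u = 0) :
    Nonempty (stabSub W ≃*
      Matrix.symplecticGroup (Fin k) F × Matrix.symplecticGroup (Fin (m - k)) F) := by
  classical
  let e : Fin k ⊕ Fin (m - k) ≃ Fin m := finSumFinEquiv.trans (finCongr (by omega))
  let T : ((Fin k ⊕ Fin (m - k)) ⊕ (Fin k ⊕ Fin (m - k)) → F) ≃ₗ[F] (Fin m ⊕ Fin m → F) :=
    LinearEquiv.funCongrLeft F F (Equiv.sumCongr e e).symm
  have hTform : ∀ u v, form (T u) (T v) = form u v := by
    intro u v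
    simp only [form_apply]
    exact (Fintype.sum_equiv e _ _ fun i => by simp [T, LinearEquiv.funCongrLeft_apply]).symm
  have hTsmul : ∀ (s : Matrix.symplecticGroup (Fin k ⊕ Fin (m - k)) F) u,
      congrSp e s • T u = T (s • u) := by
    intro s u
    funext i
    change ((congrSp e s).1 *ᵥ T u) i = (s.1 *ᵥ u) ((Equiv.sumCongr e e).symm i)
    simp only [congrSp, MulEquiv.coe_mk, Equiv.coe_fn_mk, Matrix.reindex_apply, Matrix.mulVec,
      dotProduct, Matrix.submatrix_apply, T, LinearEquiv.funCongrLeft_apply, LinearMap.funLeft_apply]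
    exact (Fintype.sum_equiv (Equiv.sumCongr e e) _ _ fun j => by simp).symm
  -- a symplectic basis of `W`
  obtain ⟨m', k', b, h1, h2, h3, h4⟩ := CfsgLib.Forms.exists_symplectic_basis _ W
    ((formB (Fin m) F).compl₁₂ W.subtype W.subtype) (fun u => form_self u.1) rfl
  have hk' : k' = 0 := by
    by_contra hne
    refine b.ne_zero (Sum.inr ⟨0, Nat.pos_of_ne_zero hne⟩) (Subtype.ext (hW _ (b _).2 fun v hv => ?_))
    exact h4 _ ⟨v, hv⟩
  have hm' : m' = k := by
    have := Module.finrank_eq_card_basis b
    simp [hWk, hk'] at this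
    omega
  subst hm' hk'
  -- the coordinate subspace
  let std : (Fin m' ⊕ Fin m') → ((Fin m' ⊕ Fin (m - m')) ⊕ (Fin m' ⊕ Fin (m - m')) → F) :=
    Sum.elim (fun i => glue (Pi.single (Sum.inr i) 1) 0) (fun i => glue (Pi.single (Sum.inl i) 1) 0)
  let fe : Fin (m' + m') ≃ Fin m' ⊕ Fin m' := finSumFinEquiv.symm
  let v : Fin (m' + m') → (Fin m ⊕ Fin m → F) := fun i => (b (Sum.inl (fe i))).1
  let w : Fin (m' + m') → (Fin m ⊕ Fin m → F) := fun i => T (std (fe i))
  have hv : LinearIndependent F v :=
    (b.linearIndependent.map' W.subtype W.ker_subtype).comp _ (Sum.inl_injective.comp fe.injective)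
  have hwst : LinearIndependent F std := by
    rw [Fintype.linearIndependent_iff]
    intro c hc i
    have hA := congrArg resA hc
    rcases i with i | i
    · have := congrFun hA (Sum.inr i)
      simp [resA, std, Fintype.sum_sum_type, glue, Finset.sum_apply, Pi.single_apply] at this
      exact this
    · have := congrFun hA (Sum.inl i)
      simp [resA, std, Fintype.sum_sum_type, glue, Finset.sum_apply, Pi.single_apply] at this
      exact this
  have hw : LinearIndependent F w := (hwst.comp _ fe.injective).map' T.toLinearMap T.ker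
  have hvw : ∀ i j, form (v i) (v j) = form (w i) (w j) := by
    intro i j
    simp only [v, w, hTform]
    have hbb : ∀ a b', form (b a).1 (b b').1 =
        (formB (Fin m) F).compl₁₂ W.subtype W.subtype (b a) (b b') := fun _ _ => rfl
    rcases hi : fe i with i' | i' <;> rcases hj : fe j with j' | j' <;>
      simp only [std, Sum.elim_inl, Sum.elim_inr, form_split, resA_glue, resB_glue, form_zero_left,
        add_zero, form_single_inl, form_single_inr]
    · rw [hbb, h2]; simp
    · rw [hbb, h1]; simp [Pi.single_apply]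
    · rw [form_swap, hbb, h1]; simp [Pi.single_apply]; exact if_congr eq_comm rfl rfl
    · rw [hbb, h3]; simp
  obtain ⟨g, hg⟩ := exists_sp_family v w hv hw hvw
  set W0 := W.map (Matrix.mulVecLin g.1) with hW0
  have hspan : W0 = Submodule.span F (Set.range w) := by
    have hspanv : Submodule.span F (Set.range v) = W := by
      refine Submodule.eq_of_le_of_finrank_eq (Submodule.span_le.2 ?_) ?_
      · rintro _ ⟨i, rfl⟩; exact (b _).2
      · rw [finrank_span_eq_card hv, Fintype.card_fin, hWk, two_mul]
    rw [hW0, ← hspanv, Submodule.map_span, ← Set.range_comp]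
    exact congrArg _ (congrArg Set.range (funext hg))
  have hmem0 : ∀ x, T x ∈ W0 ↔ resB x = 0 := by
    intro x
    constructor
    · intro hx
      rw [hspan, Submodule.mem_span_range_iff_exists_fun] at hx
      obtain ⟨c, hc⟩ := hx
      have : x = ∑ i, c i • std (fe i) := T.injective (by rw [map_sum, ← hc]; simp [w])
      rw [this]
      funext j
      rcases j with j | j <;> simp [resB, std, glue, Finset.sum_apply] <;>
        exact Finset.sum_eq_zero fun i _ => by rcases fe i with a | a <;> simp
    · intro hx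
      rw [hspan, show x = ∑ i : Fin m' ⊕ Fin m', (resA x) i.swap • std i from ?_, map_sum]
      · refine Submodule.sum_mem _ fun i _ => ?_
        rw [map_smul]
        exact Submodule.smul_mem _ _ (Submodule.subset_span ⟨fe.symm i, by simp [w]⟩)
      refine vec_ext ?_ ?_
      · funext j
        rcases j with j | j <;>
          simp [resA, std, glue, Fintype.sum_sum_type, Finset.sum_apply, Pi.single_apply]
      · rw [hx]
        funext j
        rcases j with j | j <;> simp [resB, std, glue, Fintype.sum_sum_type, Finset.sum_apply]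
  have hrange : stabSub W0 = ((blockHom (a := Fin m') (b := Fin (m - m')) (R := F)).range).map
      (congrSp e).toMonoidHom := by
    ext x
    obtain ⟨s, rfl⟩ := (congrSp e).surjective x
    rw [Subgroup.mem_map_equiv, MulEquiv.symm_apply_apply, mem_range_blockHom_iff]
    constructor
    · intro h y
      rw [← hmem0, ← hTsmul, ← h, hmem0, resB_glue]
    · intro h u
      obtain ⟨u, rfl⟩ := T.surjective u
      rw [hmem0, hTsmul, hmem0]
      constructor
      · intro hu
        rw [show u = glue (resA u) (0 : Fin (m - m') ⊕ Fin (m - m') → F) from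
          vec_ext (resA_glue _ _).symm (by rw [resB_glue, hu])]
        exact h _
      · intro hu
        obtain ⟨p, hp⟩ := (mem_range_blockHom_iff.2 h)
        rw [← hp, blockHom_smul, resB_glue] at hu
        exact MulAction.injective p.2 (hu.trans (smul_zero _).symm)
  have e1 : stabSub W ≃* stabSub W0 :=
    ((stabSub W).equivMapOfInjective _ (MulAut.conj g).injective).trans
      (MulEquiv.subgroupCongr (stabSub_map g W).symm)
  exact ⟨((e1.trans (MulEquiv.subgroupCongr hrange)).trans
    (Subgroup.equivMapOfInjective _ _ (congrSp e).injective).symm).trans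
      (MonoidHom.ofInjective blockHom_injective).symm⟩

end CfsgLib.Symp.Geometry
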