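import Cfsg.Agent.Classical.SympGeometry
import Cfsg.Agent.Classical.GLnBasic

/-!
Levi, Borel and torus normaliser of `Sp_2m`.
-/

set_option autoImplicit false
set_option linter.flexible false
set_option linter.unusedSectionVars false

namespace CfsgLib.Symp.Torus

open Matrix

variable {F : Type*} [Field F] {m : ℕ}

local notation "Sp" => Matrix.symplecticGroup (Fin m) F
local notation "V" => Fin m ⊕ Fin m → F

theorem blocks_of_c_zero (g : Sp) (hC : g.1.toBlocks₂₁ = 0) :
    g.1.toBlocks₁₁ᵀ * g.1.toBlocks₂₂ = 1 ∧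
      g.1.toBlocks₁₂ᵀ * g.1.toBlocks₂₂ = g.1.toBlocks₂₂ᵀ * g.1.toBlocks₁₂ := by
  have h := g.2
  rw [← Matrix.fromBlocks_toBlocks g.1, SymplecticGroup.fromBlocks_mem_iff, hC] at h
  simpa using h.2.symm

theorem mulVec_inr (g : Sp) (hC : g.1.toBlocks₂₁ = 0) (v : V) (j : Fin m) :
    (g.1 *ᵥ v) (Sum.inr j) = (g.1.toBlocks₂₂ *ᵥ (v ∘ Sum.inr)) j := by
  conv_lhs => rw [← Matrix.fromBlocks_toBlocks g.1, Matrix.fromBlocks_mulVec, hC]
  simp

theorem mulVec_inl (g : Sp) (hB : g.1.toBlocks₁₂ = 0) (v : V) (j : Fin m) :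
    (g.1 *ᵥ v) (Sum.inl j) = (g.1.toBlocks₁₁ *ᵥ (v ∘ Sum.inl)) j := by
  conv_lhs => rw [← Matrix.fromBlocks_toBlocks g.1, Matrix.fromBlocks_mulVec, hB]
  simp

/-- The Levi element of `A`. -/
noncomputable def levi : GL (Fin m) F →* Sp where
  toFun A := ⟨Matrix.fromBlocks (A : Matrix (Fin m) (Fin m) F) 0 0 ((A⁻¹ : GL (Fin m) F).val)ᵀ,
    SymplecticGroup.fromBlocks_mem_iff.2 ⟨by simp, by simp, by
      rw [Matrix.transpose_zero, Matrix.zero_mul, sub_zero, ← Matrix.transpose_mul, ← Units.val_mul,
        inv_mul_cancel, Units.val_one, Matrix.transpose_one]⟩⟩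
  map_one' := Subtype.ext (by simp [Matrix.fromBlocks_one])
  map_mul' A B := Subtype.ext (by simp [Matrix.fromBlocks_multiply, Matrix.transpose_mul, _root_.mul_inv_rev])

theorem levi_injective : Function.Injective (levi (F := F) (m := m)) := fun A B h => Units.ext (by
  simpa [levi] using congrArg (fun g : Sp => g.1.toBlocks₁₁) h)

theorem levi_range : (levi (F := F) (m := m)).range =
    Cfsg.stabilizing (Cfsg.spToMat m F) {v : V | ∀ i : Fin m, v (Sum.inr i) = 0} ⊓
      Cfsg.stabilizing (Cfsg.spToMat m F) {v : V | ∀ i : Fin m, v (Sum.inl i) = 0} := by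
  ext g
  constructor
  · rintro ⟨A, rfl⟩
    refine ⟨fun v => ?_, fun v => ?_⟩
    · change (∀ i, v (Sum.inr i) = 0) ↔ ∀ i, ((levi A).1 *ᵥ v) (Sum.inr i) = 0
      simp only [mulVec_inr (levi A) (by simp [levi])]
      rw [show (levi A).1.toBlocks₂₂ = ((A⁻¹ : GL (Fin m) F).val)ᵀ from Matrix.toBlocks_fromBlocks₂₂ _ _ _ _]
      constructor
      · intro h i; rw [show v ∘ Sum.inr = 0 from funext h, Matrix.mulVec_zero]; rfl
      · intro h i
        refine congrFun (Matrix.eq_zero_of_mulVec_eq_zero ?_ (funext h) : v ∘ Sum.inr = 0) i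
        rw [Matrix.det_transpose]; exact (A⁻¹).det_ne_zero
    · change (∀ i, v (Sum.inl i) = 0) ↔ ∀ i, ((levi A).1 *ᵥ v) (Sum.inl i) = 0
      simp only [mulVec_inl (levi A) (by simp [levi])]
      rw [show (levi A).1.toBlocks₁₁ = (A : Matrix (Fin m) (Fin m) F) from Matrix.toBlocks_fromBlocks₁₁ _ _ _ _]
      constructor
      · intro h i; rw [show v ∘ Sum.inl = 0 from funext h, Matrix.mulVec_zero]; rfl
      · intro h i
        exact congrFun (Matrix.eq_zero_of_mulVec_eq_zero A.det_ne_zero (funext h) : v ∘ Sum.inl = 0) i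
  · rintro ⟨hU, hW⟩
    have hC : g.1.toBlocks₂₁ = 0 := by
      ext i j
      have := (hU (Pi.single (Sum.inl j) 1)).1 (fun k => by simp) i
      change (g.1 *ᵥ Pi.single (Sum.inl j) 1) (Sum.inr i) = 0 at this
      rwa [Matrix.mulVec_single_one] at this
    have hB : g.1.toBlocks₁₂ = 0 := by
      ext i j
      have := (hW (Pi.single (Sum.inr j) 1)).1 (fun k => by simp) i
      change (g.1 *ᵥ Pi.single (Sum.inr j) 1) (Sum.inl i) = 0 at this
      rwa [Matrix.mulVec_single_one] at this
    obtain ⟨hAD, -⟩ := blocks_of_c_zero g hC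
    have hDA : g.1.toBlocks₂₂ᵀ * g.1.toBlocks₁₁ = 1 := by
      rw [← Matrix.transpose_one (α := F), ← hAD, Matrix.transpose_mul, Matrix.transpose_transpose]
    refine ⟨⟨g.1.toBlocks₁₁, g.1.toBlocks₂₂ᵀ, mul_eq_one_comm.1 hDA, hDA⟩, Subtype.ext ?_⟩
    change Matrix.fromBlocks _ 0 0 (g.1.toBlocks₂₂ᵀ)ᵀ = g.1
    conv_rhs => rw [← Matrix.fromBlocks_toBlocks g.1, hB, hC]
    rw [Matrix.transpose_transpose]

theorem nonempty_levi_equiv : Nonempty
    (↥(Cfsg.stabilizing (Cfsg.spToMat m F) {v : V | ∀ i : Fin m, v (Sum.inr i) = 0} ⊓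
      Cfsg.stabilizing (Cfsg.spToMat m F) {v : V | ∀ i : Fin m, v (Sum.inl i) = 0}) ≃*
      GL (Fin m) F) :=
  ⟨((MonoidHom.ofInjective levi_injective).trans (MulEquiv.subgroupCongr levi_range)).symm⟩

/-! ### Borel subgroup -/

/-- The flag subspace. -/
def flag (k : Fin m) : Submodule F V where
  carrier := {v | (∀ i : Fin m, (k : ℕ) < (i : ℕ) → v (Sum.inl i) = 0) ∧ ∀ i : Fin m, v (Sum.inr i) = 0}
  zero_mem' := ⟨fun _ _ => rfl, fun _ => rfl⟩
  add_mem' {u v} hu hv := ⟨fun i hi => by simp [hu.1 i hi, hv.1 i hi], fun i => by simp [hu.2 i, hv.2 i]⟩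
  smul_mem' c {v} hv := ⟨fun i hi => by simp [hv.1 i hi], fun i => by simp [hv.2 i]⟩

/-- The Borel subgroup. -/
def borel (F : Type*) [Field F] (m : ℕ) : Subgroup (Matrix.symplecticGroup (Fin m) F) :=
  ⨅ k : Fin m, Cfsg.stabilizing (Cfsg.spToMat m F) {v : Fin m ⊕ Fin m → F |
    (∀ i : Fin m, (k : ℕ) < (i : ℕ) → v (Sum.inl i) = 0) ∧ ∀ i : Fin m, v (Sum.inr i) = 0}

theorem mem_borel [Finite F] {g : Sp} : g ∈ borel F m ↔
    g.1.toBlocks₂₁ = 0 ∧ ∀ i j : Fin m, j < i → g.1.toBlocks₁₁ i j = 0 := by
  rw [borel, Subgroup.mem_iInf]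
  have hiff : ∀ k, g ∈ Cfsg.stabilizing (Cfsg.spToMat m F) (flag (F := F) k : Set V) ↔
      ∀ v ∈ flag k, g.1 *ᵥ v ∈ flag k := fun k => Geometry.mem_stabSub_iff_le (W := flag k)
  constructor
  · intro h
    have hcol : ∀ j, g.1 *ᵥ Pi.single (Sum.inl j) 1 ∈ flag j := fun j => (hiff j).1 (h j) _
      ⟨fun i hi => by simp [show i ≠ j from fun e => by rw [e] at hi; omega], fun i => by simp⟩
    refine ⟨Matrix.ext fun i j => ?_, fun i j hij => ?_⟩
    · have := (hcol j).2 i
      rwa [Matrix.mulVec_single_one] at this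
    · have := (hcol j).1 i hij
      rwa [Matrix.mulVec_single_one] at this
  · rintro ⟨hC, hA⟩ k
    refine (hiff k).2 fun v hv => ⟨fun i hi => ?_, fun i => ?_⟩
    · rw [Matrix.mulVec, dotProduct, Fintype.sum_sum_type]
      simp only [show ∀ x, v (Sum.inr x) = 0 from hv.2, mul_zero, Finset.sum_const_zero, add_zero]
      refine Finset.sum_eq_zero fun j _ => ?_
      by_cases hj : (k : ℕ) < (j : ℕ)
      · rw [hv.1 j hj, mul_zero]
      · rw [show g.1 (Sum.inl i) (Sum.inl j) = 0 from hA i j (by rw [Fin.lt_def]; omega), zero_mul]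
    · rw [mulVec_inr g hC, show v ∘ Sum.inr = 0 from funext hv.2, Matrix.mulVec_zero]; rfl

theorem card_symm [Finite F] :
    Nat.card {S : Matrix (Fin m) (Fin m) F // Sᵀ = S} = Nat.card F ^ (m * (m + 1) / 2) := by
  classical
  let e : {S : Matrix (Fin m) (Fin m) F // Sᵀ = S} ≃ ({x : Fin m × Fin m // x.2 ≤ x.1} → F) :=
    { toFun := fun S x => S.1 x.1.1 x.1.2
      invFun := fun f => ⟨Matrix.of fun i j => if h : j ≤ i then f ⟨(i, j), h⟩ else f ⟨(j, i), le_of_not_ge h⟩, by
        ext i j
        rcases lt_trichotomy i j with h | rfl | h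
        · simp [h.le, not_le.2 h]
        · simp
        · simp [h.le, not_le.2 h] ⟩
      left_inv := fun S => Subtype.ext (Matrix.ext fun i j => by
        by_cases h : j ≤ i
        · simp [h]
        · simp only [Matrix.of_apply, h, dif_neg, not_false_iff]
          exact congrFun (congrFun S.2 i) j)
      right_inv := fun f => funext fun x => by simp [x.2] }
  have hcount : Nat.card {x : Fin m × Fin m // x.2 ≤ x.1} = m * (m + 1) / 2 := by
    rw [Nat.card_congr (Equiv.subtypeProdEquivSigmaSubtype fun a b => b ≤ a), Nat.card_sigma]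
    have : ∀ i : Fin m, Nat.card {b : Fin m // b ≤ i} = (i : ℕ) + 1 := fun i => by
      rw [Nat.card_eq_fintype_card, Fintype.card_subtype, Finset.filter_ge_eq_Iic, Fin.card_Iic]
    rw [Finset.sum_congr rfl fun i _ => this i, Finset.sum_add_distrib, ← CfsgLib.Linear.GLn.two_dvd_mul_pred,
      Finset.sum_const, Finset.card_univ, Fintype.card_fin, smul_eq_mul, mul_one,
      ← Nat.add_mul_div_right _ _ two_pos]
    rcases m with _ | n
    · rfl
    · congr 1
      rw [Nat.add_sub_cancel]; ring
  rw [Nat.card_congr e, Nat.card_fun, hcount]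

theorem card_borel [Fintype F] :
    Nat.card (borel F m) = Fintype.card F ^ (m ^ 2) * (Fintype.card F - 1) ^ m := by
  classical
  let Up := {g : GL (Fin m) F // ∀ i j : Fin m, i < j → (g : Matrix (Fin m) (Fin m) F) i j = 0}
  let T : GL (Fin m) F → GL (Fin m) F := fun g =>
    ⟨(g : Matrix (Fin m) (Fin m) F)ᵀ, ((g⁻¹ : GL (Fin m) F).val)ᵀ,
      by rw [← Matrix.transpose_mul, ← Units.val_mul, inv_mul_cancel, Units.val_one, Matrix.transpose_one],
      by rw [← Matrix.transpose_mul, ← Units.val_mul, mul_inv_cancel, Units.val_one, Matrix.transpose_one]⟩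
  let u : {S : Matrix (Fin m) (Fin m) F // Sᵀ = S} → Sp := fun S =>
    ⟨Matrix.fromBlocks 1 S.1 0 1, SymplecticGroup.fromBlocks_mem_iff.2 ⟨by simp, by simp [S.2], by simp⟩⟩
  let f : Up × {S : Matrix (Fin m) (Fin m) F // Sᵀ = S} → borel F m := fun p =>
    ⟨levi (T p.1.1) * u p.2, mem_borel.2 (by
      constructor
      · simp [levi, u, Matrix.fromBlocks_multiply]
      · intro i j hij
        simp [levi, u, Matrix.fromBlocks_multiply, T, p.1.2 j i hij])⟩
  have hf : Function.Bijective f := by
    constructor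
    · rintro ⟨a, S⟩ ⟨b, R⟩ h
      have h1 : (levi (T a.1) * u S : Sp).1 = (levi (T b.1) * u R : Sp).1 :=
        congrArg (fun x : borel F m => x.1.1) h
      simp [levi, u, Matrix.fromBlocks_multiply, Matrix.fromBlocks_inj, T] at h1
      obtain ⟨hA, hB, -⟩ := h1
      have hab : a = b := Subtype.ext (Units.ext (Matrix.transpose_injective (by simpa using hA)))
      subst hab
      refine Prod.ext rfl (Subtype.ext ?_)
      have := congrArg (fun X => ((T a.1)⁻¹ : GL (Fin m) F).val * X) hB
      simpa [T, ← Matrix.mul_assoc, ← Matrix.transpose_mul, ← Units.val_mul] using this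
    · rintro ⟨g, hg⟩
      obtain ⟨hC, hA⟩ := mem_borel.1 hg
      obtain ⟨hAD, hBD⟩ := blocks_of_c_zero g hC
      have hDA : g.1.toBlocks₂₂ᵀ * g.1.toBlocks₁₁ = 1 := by
        rw [← Matrix.transpose_one (α := F), ← hAD, Matrix.transpose_mul, Matrix.transpose_transpose]
      let A : GL (Fin m) F := ⟨g.1.toBlocks₁₁, g.1.toBlocks₂₂ᵀ, mul_eq_one_comm.1 hDA, hDA⟩
      have hTT : T (T A) = A := Units.ext (Matrix.transpose_transpose _)
      refine ⟨(⟨T A, fun i j hij => hA j i hij⟩, ⟨g.1.toBlocks₂₂ᵀ * g.1.toBlocks₁₂, ?_⟩), Subtype.ext (Subtype.ext ?_)⟩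
      · rw [Matrix.transpose_mul, Matrix.transpose_transpose, hBD]
      · change (levi (T (T A))).1 * _ = g.1
        rw [hTT]
        conv_rhs => rw [← Matrix.fromBlocks_toBlocks g.1, hC]
        change (Matrix.fromBlocks g.1.toBlocks₁₁ 0 0 (g.1.toBlocks₂₂ᵀ)ᵀ) * _ = _
        simp [u, Matrix.fromBlocks_multiply, ← Matrix.mul_assoc, mul_eq_one_comm.1 hDA]
  rw [← Nat.card_eq_of_bijective f hf, Nat.card_prod, card_symm, CfsgLib.Linear.GLn.card_lower,
    Nat.card_eq_fintype_card (α := F), mul_right_comm, ← pow_add]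
  congr 2
  rcases m with _ | n
  · rfl
  · rw [Nat.add_sub_cancel, show (n + 1) ^ 2 = (n + 1) * n + (n + 1) by ring]
    obtain ⟨r, hr⟩ := Nat.even_mul_succ_self n
    rw [show (n + 1) * n = r + r by rw [mul_comm]; exact hr, show (n + 1) * (n + 1 + 1) = r + r + 2 * (n + 1) by
      rw [← hr]; ring]
    omega

/-! ### Torus normaliser -/

/-- The diagonal torus. -/
def torus (F : Type*) [Field F] (m : ℕ) : Subgroup (Matrix.symplecticGroup (Fin m) F) :=
  ⨅ i : Fin m ⊕ Fin m, Cfsg.stabilizing (Cfsg.spToMat m F)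
    ((Submodule.span F {(Pi.single i (1 : F) : Fin m ⊕ Fin m → F)} : Submodule F (Fin m ⊕ Fin m → F)) :
      Set (Fin m ⊕ Fin m → F))

theorem mem_torus [Finite F] {g : Sp} : g ∈ torus F m ↔ ∀ x y, x ≠ y → g.1 x y = 0 := by
  rw [torus, Subgroup.mem_iInf]
  have hiff : ∀ W : Submodule F V, g ∈ Cfsg.stabilizing (Cfsg.spToMat m F) (W : Set V) ↔
      ∀ v ∈ W, g.1 *ᵥ v ∈ W := fun W => Geometry.mem_stabSub_iff_le (W := W)
  simp only [hiff]
  constructor
  · intro h x y hxy
    obtain ⟨c, hc⟩ := Submodule.mem_span_singleton.1 (h y _ (Submodule.mem_span_singleton_self _))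
    have := congrFun hc x
    rw [Matrix.mulVec_single_one] at this
    simpa [hxy] using this.symm
  · intro h y v hv
    obtain ⟨c, rfl⟩ := Submodule.mem_span_singleton.1 hv
    refine Submodule.mem_span_singleton.2 ⟨c * g.1 y y, funext fun x => ?_⟩
    rw [Matrix.mulVec_smul, Pi.smul_apply, Pi.smul_apply, Matrix.mulVec_single_one, Matrix.col_apply]
    rcases eq_or_ne x y with rfl | hxy
    · simp
    · simp [hxy, h x y hxy]

/-- A signed-permutation-with-scalars linear map. -/
def monoIdx (s : Equiv.Perm (Fin m)) (ε : Fin m → Bool) : Fin m ⊕ Fin m → Fin m ⊕ Fin m :=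
  Sum.elim (fun i => if ε i then Sum.inr (s i) else Sum.inl (s i))
    fun i => if ε i then Sum.inl (s i) else Sum.inr (s i)

/-- Its coefficients. -/
def monoCoef (ε : Fin m → Bool) (c : Fin m → Fˣ) : Fin m ⊕ Fin m → F :=
  Sum.elim (fun i => (c i : F)) fun i => if ε i then -((c i : F))⁻¹ else ((c i : F))⁻¹

/-- The monomial matrix. -/
def monoMat (s : Equiv.Perm (Fin m)) (ε : Fin m → Bool) (c : Fin m → Fˣ) :
    Matrix (Fin m ⊕ Fin m) (Fin m ⊕ Fin m) F :=
  Matrix.of fun x y => if monoIdx s ε y = x then monoCoef ε c y else 0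

theorem monoMat_col (s : Equiv.Perm (Fin m)) (ε : Fin m → Bool) (c : Fin m → Fˣ) (y : Fin m ⊕ Fin m) :
    monoMat s ε c *ᵥ Pi.single y 1 = Pi.single (monoIdx s ε y) (monoCoef ε c y) := by
  funext x
  rw [Matrix.mulVec_single_one, Matrix.col_apply, monoMat, Matrix.of_apply, Pi.single_apply]
  exact if_congr eq_comm rfl rfl

theorem mem_of_cols {A : Matrix (Fin m ⊕ Fin m) (Fin m ⊕ Fin m) F}
    (h : ∀ x y, form (A *ᵥ Pi.single x 1) (A *ᵥ Pi.single y 1) =
      form (Pi.single x 1 : V) (Pi.single y 1)) : A ∈ Matrix.symplecticGroup (Fin m) F := by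
  refine mem_iff_form.2 fun u v => ?_
  have key : (Geometry.formB (Fin m) F).compl₁₂ (Matrix.mulVecLin A) (Matrix.mulVecLin A) =
      Geometry.formB (Fin m) F :=
    LinearMap.ext_basis (Pi.basisFun F _) (Pi.basisFun F _) fun x y => by simpa [Geometry.formB_apply] using h x y
  exact LinearMap.congr_fun₂ key u v

theorem monoMat_mem (s : Equiv.Perm (Fin m)) (ε : Fin m → Bool) (c : Fin m → Fˣ) :
    monoMat s ε c ∈ Matrix.symplecticGroup (Fin m) F := by
  refine mem_of_cols fun x y => ?_
  rw [monoMat_col, monoMat_col]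
  rcases x with i | i <;> rcases y with j | j <;>
    (by_cases hij : i = j <;> [subst hij; skip]) <;>
    cases hi : ε i <;> (try cases hj : ε j) <;>
    simp [monoIdx, monoCoef, hi, *, form_single_inl, form_single_inr]

theorem exists_unit_sq_ne_one [Fintype F] (hq : 4 ≤ Fintype.card F) : ∃ a : Fˣ, a ≠ a⁻¹ := by
  classical
  by_contra hc
  push Not at hc
  have hsub : (Finset.univ : Finset F) ⊆ {0, 1, -1} := by
    intro x _
    simp only [Finset.mem_insert, Finset.mem_singleton]
    by_cases hx : x = 0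
    · exact Or.inl hx
    · refine Or.inr (mul_self_eq_one_iff.mp ?_)
      have := hc (Units.mk0 x hx)
      rw [eq_inv_iff_mul_eq_one] at this
      exact congrArg Units.val this
  have := (Finset.card_le_card hsub).trans Finset.card_le_three
  rw [Finset.card_univ] at this
  omega

/-- Torus elements. -/
noncomputable def diagEl (d : Fin m → Fˣ) : Sp :=
  ⟨monoMat 1 (fun _ => false) d, monoMat_mem _ _ _⟩

theorem diagEl_apply (d : Fin m → Fˣ) (x y : Fin m ⊕ Fin m) :
    (diagEl d : Sp).1 x y = if x = y then monoCoef (fun _ => false) d x else 0 := by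
  simp only [diagEl, monoMat, Matrix.of_apply]
  rw [show monoIdx (1 : Equiv.Perm (Fin m)) (fun _ => false) y = y by rcases y with y | y <;> rfl]
  rcases eq_or_ne x y with rfl | h
  · simp
  · simp [h, Ne.symm h]

theorem card_normalizer [Fintype F] (hq : 4 ≤ Fintype.card F) :
    Nat.card (Subgroup.normalizer (torus F m : Set Sp)) =
      2 ^ m * Nat.factorial m * (Fintype.card F - 1) ^ m := by
  classical
  obtain ⟨a, ha⟩ := exists_unit_sq_ne_one hq
  have ha1 : a ≠ 1 := fun e => ha (by rw [e, inv_one])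
  have hdiag : ∀ d, diagEl (F := F) (m := m) d ∈ torus F m := fun d =>
    mem_torus.2 fun x y hxy => by rw [diagEl_apply, if_neg hxy]
  have hnormmem : ∀ (s : Equiv.Perm (Fin m)) (ε : Fin m → Bool) (c : Fin m → Fˣ),
      (⟨monoMat s ε c, monoMat_mem s ε c⟩ : Sp) ∈ Subgroup.normalizer (torus F m : Set Sp) := by
    intro s ε c
    rw [← Subgroup.inv_mem_iff]
    refine Subgroup.mem_normalizer_iff.2 ?_
    set g : Sp := ⟨monoMat s ε c, monoMat_mem s ε c⟩
    have hinj : Function.Injective (monoIdx s ε) := by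
      intro x y h
      rcases x with i | i <;> rcases y with j | j <;> cases hi : ε i <;> cases hj : ε j <;>
        simp [monoIdx, hi, hj] at h <;> subst h <;> simp_all
    have hfwd : ∀ t ∈ torus F m, g⁻¹ * t * g ∈ torus F m := by
      intro t ht
      refine mem_torus.2 fun x y hxy => ?_
      obtain ⟨b, hb⟩ : ∃ b : F, t.1 *ᵥ (Pi.single (monoIdx s ε y) 1 : V) = b • (Pi.single (monoIdx s ε y) 1 : V) := by
        refine ⟨t.1 (monoIdx s ε y) (monoIdx s ε y), funext fun z => ?_⟩
        change _ = t.1 (monoIdx s ε y) (monoIdx s ε y) * (Pi.single (monoIdx s ε y) (1 : F) : V) z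
        rw [Matrix.mulVec_single_one, Matrix.col_apply]
        rcases eq_or_ne z (monoIdx s ε y) with rfl | hz
        · simp
        · simp [hz, mem_torus.1 ht _ _ hz]
      have hcol : (g⁻¹ * t * g) • (Pi.single y 1 : V) = b • Pi.single y 1 := by
        rw [mul_smul, mul_smul, inv_smul_eq_iff]
        change t.1 *ᵥ (monoMat s ε c *ᵥ Pi.single y 1) = g.1 *ᵥ (b • Pi.single y 1)
        rw [Matrix.mulVec_smul, show g.1 = monoMat s ε c from rfl, monoMat_col,
          show (Pi.single (monoIdx s ε y) (monoCoef ε c y) : V) = monoCoef ε c y • Pi.single (monoIdx s ε y) 1 by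
            rw [← Pi.single_smul, smul_eq_mul, mul_one],
          Matrix.mulVec_smul, hb, smul_comm]
      have := congrFun hcol x
      change ((g⁻¹ * t * g : Sp).1 *ᵥ Pi.single y 1) x = _ at this
      rw [Matrix.mulVec_single_one, Matrix.col_apply] at this
      simpa [hxy] using this
    intro t
    rw [inv_inv]
    refine ⟨hfwd t, fun h => ?_⟩
    -- conjugation is injective on the finite torus, hence onto
    haveI : Finite (torus F m) := inferInstance
    obtain ⟨⟨r, hr⟩, hre⟩ := Finite.surjective_of_injective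
      (f := fun r : torus F m => (⟨g⁻¹ * r.1 * g, hfwd r.1 r.2⟩ : torus F m))
      (fun r r' e => Subtype.ext (by simpa using congrArg Subtype.val e)) ⟨_, h⟩
    have : r = t := by simpa using congrArg Subtype.val hre
    rwa [← this]
  let f : (Fin m → Bool) × Equiv.Perm (Fin m) × (Fin m → Fˣ) → Subgroup.normalizer (torus F m : Set Sp) :=
    fun p => ⟨⟨monoMat p.2.1 p.1 p.2.2, monoMat_mem _ _ _⟩, hnormmem _ _ _⟩
  have hf : Function.Bijective f := by
    constructor
    · rintro ⟨ε, s, c⟩ ⟨ε', s', c'⟩ h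
      have hm : monoMat s ε c = monoMat s' ε' c' := congrArg (fun x => x.1.1) h
      have hcol : ∀ y, (Pi.single (monoIdx s ε y) (monoCoef ε c y) : V) =
          Pi.single (monoIdx s' ε' y) (monoCoef ε' c' y) := fun y => by
        rw [← monoMat_col, ← monoMat_col, hm]
      have hidx : ∀ i, monoIdx s ε (Sum.inl i) = monoIdx s' ε' (Sum.inl i) ∧ c i = c' i := fun i => by
        have e := congrFun (hcol (Sum.inl i)) (monoIdx s ε (Sum.inl i))
        by_cases h1 : monoIdx s ε (Sum.inl i) = monoIdx s' ε' (Sum.inl i)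
        · rw [Pi.single_eq_same, ← h1, Pi.single_eq_same] at e
          exact ⟨h1, Units.ext e⟩
        · rw [Pi.single_eq_same, Pi.single_eq_of_ne h1] at e
          exact absurd e (c i).ne_zero
      have hε : ∀ i, ε i = ε' i ∧ s i = s' i := fun i => by
        have := (hidx i).1
        cases hi : ε i <;> cases hi' : ε' i <;> simp [monoIdx, hi, hi'] at this ⊢ <;> exact this
      exact Prod.ext (funext fun i => (hε i).1)
        (Prod.ext (Equiv.ext fun i => (hε i).2) (funext fun i => (hidx i).2))
    · rintro ⟨g, hg⟩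
      -- each column of `g` has a single non-zero entry
      have huniq : ∀ y x x', g.1 x y ≠ 0 → g.1 x' y ≠ 0 → x = x' := by
        intro y x x' hx hx'
        by_contra hne
        obtain ⟨d, hd⟩ : ∃ d : Fin m → Fˣ, monoCoef (fun _ => false) d x ≠ monoCoef (fun _ => false) d x' := by
          have hidx : ∀ i j : Fin m, i ≠ j → Function.update (fun _ => (1 : Fˣ)) i a j = 1 := fun i j h =>
            Function.update_of_ne (Ne.symm h) _ _
          rcases x with i | i <;> rcases x' with j | j <;>
            refine ⟨Function.update (fun _ => 1) i a, ?_⟩ <;> by_cases hij : i = j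
          all_goals first
            | exact absurd (congrArg Sum.inl hij) hne
            | exact absurd (congrArg Sum.inr hij) hne
            | (subst hij; simp only [monoCoef, Sum.elim_inl, Sum.elim_inr, Function.update_self,
                Bool.false_eq_true, if_false]
               intro e
               exact ha (Units.ext (by simpa using e)))
            | (subst hij; simp only [monoCoef, Sum.elim_inl, Sum.elim_inr, Function.update_self,
                Bool.false_eq_true, if_false]
               intro e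
               exact ha (Units.ext (by simpa using e.symm)))
            | (simp only [monoCoef, Sum.elim_inl, Sum.elim_inr, Function.update_self, hidx i j hij,
                Bool.false_eq_true, if_false, Units.val_one, inv_one]
               intro e
               exact ha1 (Units.ext (by simpa using e)))
        have hs : g⁻¹ * diagEl d * g ∈ torus F m := by
          simpa using (Subgroup.mem_normalizer_iff.1 (inv_mem hg) _).1 (hdiag d)
        have hcol : diagEl d • g • (Pi.single y 1 : V) =
            (g⁻¹ * diagEl d * g : Sp).1 y y • g • (Pi.single y 1 : V) := by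
          have h1 : (g⁻¹ * diagEl d * g : Sp) • (Pi.single y 1 : V) =
              (g⁻¹ * diagEl d * g : Sp).1 y y • Pi.single y 1 := by
            funext z
            change ((g⁻¹ * diagEl d * g : Sp).1 *ᵥ Pi.single y 1) z = _
            rw [Matrix.mulVec_single_one, Pi.smul_apply, Matrix.col_apply]
            rcases eq_or_ne z y with rfl | hz
            · simp
            · simp [hz, mem_torus.1 hs _ _ hz]
          refine Eq.trans ?_ (smul_comm g ((g⁻¹ * diagEl d * g : Sp).1 y y) (Pi.single y 1 : V))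
          rw [← h1, ← mul_smul, ← mul_smul, mul_assoc g⁻¹, mul_inv_cancel_left]
        have e : ∀ z, monoCoef (fun _ => false) d z * g.1 z y =
            (g⁻¹ * diagEl d * g : Sp).1 y y * g.1 z y := by
          intro z
          have h1 := congrFun hcol z
          change ((diagEl d : Sp).1 *ᵥ (g.1 *ᵥ Pi.single y 1)) z = _ at h1
          rw [show (diagEl d : Sp).1 = Matrix.diagonal (monoCoef (fun _ => false) d) from
            Matrix.ext fun p r => by rw [diagEl_apply, Matrix.diagonal_apply], Matrix.mulVec_diagonal,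
            Matrix.mulVec_single_one, Matrix.col_apply, Pi.smul_apply, smul_eq_mul] at h1
          rw [h1]
          congr 1
          change (g.1 *ᵥ Pi.single y 1) z = _
          rw [Matrix.mulVec_single_one]; rfl
        exact hd ((mul_right_cancel₀ hx (e x)).trans (mul_right_cancel₀ hx' (e x')).symm)
      have hex : ∀ y, ∃ x, g.1 x y ≠ 0 := fun y => by
        by_contra hc
        push Not at hc
        exact (SymplecticGroup.symplectic_det g.2).ne_zero (Matrix.det_eq_zero_of_column_eq_zero y hc)
      choose π hπ using hex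
      have hzero : ∀ x y, x ≠ π y → g.1 x y = 0 := fun x y h => by
        by_contra hc
        exact h (huniq y x _ hc (hπ y))
      have hcol : ∀ y, g.1 *ᵥ Pi.single y 1 = (Pi.single (π y) (g.1 (π y) y) : V) := fun y => by
        funext x
        rw [Matrix.mulVec_single_one, Matrix.col_apply]
        rcases eq_or_ne x (π y) with rfl | hx
        · simp
        · rw [Pi.single_eq_of_ne hx, hzero x y hx]
      have hpair : ∀ i, form (g.1 *ᵥ Pi.single (Sum.inr i) 1) (g.1 *ᵥ Pi.single (Sum.inl i) 1) = 1 := by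
        intro i
        rw [mem_iff_form.1 g.2, form_single_inr]
        simp
      let ε : Fin m → Bool := fun i => (π (Sum.inl i)).isRight
      let s0 : Fin m → Fin m := fun i => Sum.elim id id (π (Sum.inl i))
      have hπr : ∀ i, π (Sum.inr i) = (π (Sum.inl i)).swap ∧
          (ε i = false → g.1 (π (Sum.inr i)) (Sum.inr i) * g.1 (π (Sum.inl i)) (Sum.inl i) = 1) ∧
          (ε i = true → g.1 (π (Sum.inr i)) (Sum.inr i) * g.1 (π (Sum.inl i)) (Sum.inl i) = -1) := by
        intro i
        have h := hpair i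
        rw [hcol, hcol] at h
        simp only [ε]
        rcases hl : π (Sum.inl i) with j | j <;> rcases hr : π (Sum.inr i) with k | k <;>
          simp [hl, hr, form_single_inl, form_single_inr, Pi.single_apply] at h ⊢ <;>
          by_cases hkj : k = j <;> simp [hkj] at h ⊢ <;> first | linear_combination h | linear_combination -h
      have hs0 : Function.Injective s0 := by
        intro i j h
        by_contra hne
        have hπinj : ∀ x y, π x = π y → form (g.1 *ᵥ Pi.single x 1) (g.1 *ᵥ Pi.single y 1) = 0 := by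
          intro x y e
          rw [hcol, hcol, e]
          rcases π y with k | k <;> simp [form_single_inl, form_single_inr]
        have key : π (Sum.inl i) = π (Sum.inl j) ∨ π (Sum.inl i) = π (Sum.inr j) := by
          rw [(hπr j).1]
          rcases hi : π (Sum.inl i) with x | x <;> rcases hj : π (Sum.inl j) with y | y <;>
            simp [s0, hi, hj] at h ⊢ <;> exact h
        -- two proportional columns
        have hprop : ∀ y, π (Sum.inl i) = π y → y ≠ Sum.inl i → False := by
          intro y e hy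
          set z : V := g.1 (π y) y • Pi.single (Sum.inl i) 1 - g.1 (π y) (Sum.inl i) • Pi.single y 1
          have hz : g.1 *ᵥ z = 0 := by
            simp only [z, Matrix.mulVec_sub, Matrix.mulVec_smul, hcol, e]
            rw [← Pi.single_smul, ← Pi.single_smul, smul_eq_mul, smul_eq_mul, mul_comm, sub_self]
          have := congrFun (Matrix.eq_zero_of_mulVec_eq_zero (SymplecticGroup.symplectic_det g.2).ne_zero hz)
            (Sum.inl i)
          simp [z, Ne.symm hy] at this
          exact hπ y this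
        rcases key with e | e
        · exact hprop _ e (fun h => hne (Sum.inl.inj h).symm)
        · exact hprop _ e (by simp)
      let s : Equiv.Perm (Fin m) := Equiv.ofBijective s0 (Finite.injective_iff_bijective.1 hs0)
      refine ⟨(ε, s, fun i => Units.mk0 _ (hπ (Sum.inl i))), Subtype.ext (Subtype.ext ?_)⟩
      refine Matrix.ext_of_mulVec_single fun y => ?_
      change monoMat _ _ _ *ᵥ Pi.single y 1 = g.1 *ᵥ Pi.single y 1
      rw [monoMat_col, hcol]
      rcases y with i | i
      · congr 1
        · rcases hl : π (Sum.inl i) with j | j <;> simp [monoIdx, ε, s, s0, hl]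
      · obtain ⟨h1, h2f, h2t⟩ := hπr i
        congr 1
        · rw [h1]; rcases hl : π (Sum.inl i) with j | j <;> simp [monoIdx, ε, s, s0, hl]
        · cases hε : ε i
          · simp only [monoCoef, Sum.elim_inr, hε, Bool.false_eq_true, if_false, Units.val_mk0]
            exact (eq_inv_of_mul_eq_one_left (h2f hε)).symm
          · simp only [monoCoef, Sum.elim_inr, hε, if_true, Units.val_mk0]
            rw [eq_comm, ← neg_eq_iff_eq_neg]
            exact eq_inv_of_mul_eq_one_left (by rw [neg_mul, h2t hε, neg_neg])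
  rw [← Nat.card_eq_of_bijective f hf, Nat.card_prod, Nat.card_prod, Nat.card_fun, Nat.card_perm,
    Nat.card_fun, Nat.card_units, Nat.card_eq_fintype_card (α := Bool), Fintype.card_bool,
    Nat.card_eq_fintype_card (α := F), Nat.card_fin, mul_assoc]

end CfsgLib.Symp.Torus
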