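import Mathlib

/-!
Normal forms and triangular factorisations of non-scalar 3 × 3 matrices.
-/

set_option autoImplicit false

namespace CfsgLib.ThompsonThree

open Matrix

/-- Three by three matrices. -/
abbrev M3 (F : Type*) := Matrix (Fin 3) (Fin 3) F

variable {F : Type*} [Field F]

theorem isUnit_det {P : M3 F} (h : P.det ≠ 0) : IsUnit P.det := isUnit_iff_ne_zero.2 h

theorem det_conj_inv {P A : M3 F} (h : P.det ≠ 0) : (P⁻¹ * A * P).det = A.det := by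
  rw [Matrix.det_mul, Matrix.det_mul, Matrix.det_nonsing_inv, Ring.inverse_eq_inv, mul_right_comm,
    inv_mul_cancel₀ h, one_mul]

/-- A column of a conjugate. -/
theorem conj_col {P A : M3 F} (h : P.det ≠ 0) {i j : Fin 3} (he : ∀ r, (A * P) r i = P r j) (r : Fin 3) :
    (P⁻¹ * A * P) r i = (1 : M3 F) r j := by
  rw [← Matrix.nonsing_inv_mul P (isUnit_det h), Matrix.mul_assoc, Matrix.mul_apply, Matrix.mul_apply]
  exact Finset.sum_congr rfl fun s _ => by rw [he s]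

theorem exists_cyclic_start {A : M3 F} (hns : ∀ c : F, A ≠ c • 1) :
    ∃ P : M3 F, P.det ≠ 0 ∧ ∀ r, (A * P) r 0 = P r 1 := by
  have key : ∀ (v u : Fin 3 → F), (Matrix.of fun r c => ![v r, (A *ᵥ v) r, u r] c).det ≠ 0 →
      ∃ P : M3 F, P.det ≠ 0 ∧ ∀ r, (A * P) r 0 = P r 1 := fun v u h => ⟨_, h, fun r => rfl⟩
  by_cases h1 : A 1 0 = 0
  swap
  · exact key ![1, 0, 0] ![0, 0, 1] (by simpa [Matrix.det_fin_three, Matrix.mulVec, dotProduct, Fin.sum_univ_three])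
  by_cases h2 : A 2 0 = 0
  swap
  · exact key ![1, 0, 0] ![0, 1, 0] (by simpa [Matrix.det_fin_three, Matrix.mulVec, dotProduct, Fin.sum_univ_three])
  by_cases h3 : A 0 1 = 0
  swap
  · exact key ![0, 1, 0] ![0, 0, 1] (by simpa [Matrix.det_fin_three, Matrix.mulVec, dotProduct, Fin.sum_univ_three])
  by_cases h4 : A 2 1 = 0
  swap
  · exact key ![0, 1, 0] ![1, 0, 0] (by simpa [Matrix.det_fin_three, Matrix.mulVec, dotProduct, Fin.sum_univ_three])
  by_cases h5 : A 0 2 = 0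
  swap
  · exact key ![0, 0, 1] ![0, 1, 0] (by simpa [Matrix.det_fin_three, Matrix.mulVec, dotProduct, Fin.sum_univ_three])
  by_cases h6 : A 1 2 = 0
  swap
  · exact key ![0, 0, 1] ![1, 0, 0] (by simpa [Matrix.det_fin_three, Matrix.mulVec, dotProduct, Fin.sum_univ_three])
  by_cases h7 : A 0 0 = A 1 1
  · refine key ![0, 1, 1] ![1, 0, 0] ?_
    have : A 2 2 - A 1 1 ≠ 0 := fun h => hns (A 0 0) (by
      ext i j
      fin_cases i <;> fin_cases j <;> simp [h1, h2, h3, h4, h5, h6, h7, sub_eq_zero.1 h])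
    simpa [Matrix.det_fin_three, Matrix.mulVec, dotProduct, Fin.sum_univ_three, h1, h2, h3, h4, h5, h6] using this
  · refine key ![1, 1, 0] ![0, 0, 1] ?_
    simpa [Matrix.det_fin_three, Matrix.mulVec, dotProduct, Fin.sum_univ_three, h1, h2, h3, h4, h5, h6,
      sub_eq_zero] using Ne.symm h7

/-- A non-scalar matrix is similar to one whose first column is the second unit vector. -/
theorem exists_start {A : M3 F} (hns : ∀ c : F, A ≠ c • 1) :
    ∃ P : M3 F, P.det ≠ 0 ∧ ∃ a b c d e f : F, P⁻¹ * A * P = !![0, a, d; 1, b, e; 0, c, f] := by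
  obtain ⟨P, hP, he⟩ := exists_cyclic_start hns
  refine ⟨P, hP, (P⁻¹ * A * P) 0 1, (P⁻¹ * A * P) 1 1, (P⁻¹ * A * P) 2 1, (P⁻¹ * A * P) 0 2,
    (P⁻¹ * A * P) 1 2, (P⁻¹ * A * P) 2 2, ?_⟩
  have h := conj_col hP he
  ext i j
  fin_cases i <;> fin_cases j <;> simp [h]

/-- Conjugation composes. -/
theorem conj_trans {A B C P Q : M3 F} (h1 : P⁻¹ * A * P = B) (h2 : Q⁻¹ * B * Q = C) :
    (P * Q)⁻¹ * A * (P * Q) = C := by
  rw [← h2, ← h1, Matrix.mul_inv_rev]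
  simp only [Matrix.mul_assoc]

/-- A non-scalar invertible matrix is similar to one with prescribed leading minors. -/
theorem exists_minors {A : M3 F} (hA : A.det ≠ 0) (hns : ∀ c : F, A ≠ c • 1) (d1 d2 : F) :
    ∃ P : M3 F, P.det ≠ 0 ∧ (P⁻¹ * A * P) 0 0 = d1 ∧
      (P⁻¹ * A * P) 0 0 * (P⁻¹ * A * P) 1 1 - (P⁻¹ * A * P) 0 1 * (P⁻¹ * A * P) 1 0 = d2 := by
  obtain ⟨P, hP, a, b, c, d, e, f, hB⟩ := exists_start hns
  obtain ⟨P, hP, a, b, c, d, e, f, hB, hd⟩ : ∃ P : M3 F, P.det ≠ 0 ∧ ∃ a b c d e f : F,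
      P⁻¹ * A * P = !![0, a, d; 1, b, e; 0, c, f] ∧ d ≠ 0 := by
    by_cases hd : d = 0
    swap
    · exact ⟨P, hP, a, b, c, d, e, f, hB, hd⟩
    have hf : f ≠ 0 := fun hf => hA (by rw [← det_conj_inv hP, hB, Matrix.det_fin_three]; simp [hd, hf])
    let Q : M3 F := !![1, 0, 1; 0, 1, 0; 0, 0, 1]
    have hQ : Q.det = 1 := by simp [Q, Matrix.det_fin_three]
    have hQi : Q⁻¹ = !![1, 0, -1; 0, 1, 0; 0, 0, 1] := Matrix.inv_eq_right_inv (by
      ext i j; fin_cases i <;> fin_cases j <;> simp [Q, Matrix.mul_apply, Fin.sum_univ_three])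
    refine ⟨P * Q, by simpa [Matrix.det_mul, hQ] using hP, a - c, b, c, -f, 1 + e, f, conj_trans hB ?_,
      neg_ne_zero.2 hf⟩
    rw [hQi]
    ext i j
    fin_cases i <;> fin_cases j <;> simp [Q, hd, Matrix.mul_apply, Fin.sum_univ_three] <;> ring
  let k := (d2 + a) / d
  let R : M3 F := !![1, -d1, 0; 0, 1, 0; 0, -k, 1]
  have hR : R.det = 1 := by simp [R, Matrix.det_fin_three]
  have hRi : R⁻¹ = !![1, d1, 0; 0, 1, 0; 0, k, 1] := Matrix.inv_eq_right_inv (by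
    ext i j; fin_cases i <;> fin_cases j <;> simp [R, Matrix.mul_apply, Fin.sum_univ_three])
  refine ⟨P * R, by simpa [Matrix.det_mul, hR] using hP, ?_⟩
  rw [conj_trans hB rfl, hRi]
  simp [R, k, Matrix.mul_apply, Fin.sum_univ_three]
  field_simp
  ring

/-- Eigenvectors of a lower triangular matrix with diagonal `1, a, a⁻¹`. -/
theorem exists_lower {a : F} (ha : a ≠ 0) (ha1 : a ≠ 1) (ha2 : a * a ≠ 1) (l m n : F) :
    ∃ R : M3 F, R.det ≠ 0 ∧ !![1, 0, 0; l, a, 0; m, n, a⁻¹] * R = R * Matrix.diagonal ![1, a, a⁻¹] := by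
  have h1 : 1 - a ≠ 0 := sub_ne_zero.2 (Ne.symm ha1)
  have h2 : a * a - 1 ≠ 0 := sub_ne_zero.2 ha2
  have h2' : a ^ 2 - 1 ≠ 0 := by rwa [sq]
  have h3 : a - 1 ≠ 0 := sub_ne_zero.2 ha1
  have h4 : a - a⁻¹ ≠ 0 := by
    rw [show a - a⁻¹ = (a * a - 1) / a by field_simp]; exact div_ne_zero h2 ha
  have h5 : 1 - a⁻¹ ≠ 0 := by
    rw [show 1 - a⁻¹ = (a - 1) / a by field_simp]; exact div_ne_zero h3 ha
  refine ⟨!![1, 0, 0; l / (1 - a), 1, 0; (m + n * (l / (1 - a))) / (1 - a⁻¹), n * a / (a * a - 1), 1],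
    by simp [Matrix.det_fin_three], ?_⟩
  rw [← Matrix.ext_iff]
  intro i j
  fin_cases i <;> fin_cases j <;>
    simp [Matrix.mul_apply, Fin.sum_univ_three] <;> field_simp <;> ring

/-- Eigenvectors of an upper triangular matrix with diagonal `1, a, a⁻¹`. -/
theorem exists_upper {a : F} (ha : a ≠ 0) (ha1 : a ≠ 1) (ha2 : a * a ≠ 1) (u v w : F) :
    ∃ S : M3 F, S.det ≠ 0 ∧ !![1, u, v; 0, a, w; 0, 0, a⁻¹] * S = S * Matrix.diagonal ![1, a, a⁻¹] := by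
  have h2 : a * a - 1 ≠ 0 := sub_ne_zero.2 ha2
  have h2' : a ^ 2 - 1 ≠ 0 := by rwa [sq]
  have h3 : a - 1 ≠ 0 := sub_ne_zero.2 ha1
  have h4 : a⁻¹ - a ≠ 0 := by
    rw [show a⁻¹ - a = -(a * a - 1) / a by field_simp; ring]; exact div_ne_zero (neg_ne_zero.2 h2) ha
  have h6 : 1 - a * a ≠ 0 := sub_ne_zero.2 (Ne.symm ha2)
  have h6' : 1 - a ^ 2 ≠ 0 := by rwa [sq]
  have h5 : a⁻¹ - 1 ≠ 0 := by
    rw [show a⁻¹ - 1 = -(a - 1) / a by field_simp; ring]; exact div_ne_zero (neg_ne_zero.2 h3) ha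
  refine ⟨!![1, u / (a - 1), (u * (w * a / (1 - a * a)) + v) / (a⁻¹ - 1); 0, 1, w * a / (1 - a * a); 0, 0, 1],
    by simp [Matrix.det_fin_three], ?_⟩
  rw [← Matrix.ext_iff]
  intro i j
  fin_cases i <;> fin_cases j <;>
    simp [Matrix.mul_apply, Fin.sum_univ_three] <;> field_simp <;> ring

/-- Triangular factorisation. -/
theorem exists_factor {B : M3 F} {a : F} (ha : a ≠ 0) (hdet : B.det = 1) (h1 : B 0 0 = 1)
    (h2 : B 0 0 * B 1 1 - B 0 1 * B 1 0 = a * a) :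
    B = !![1, 0, 0; B 1 0, a, 0; B 2 0, (B 2 1 - B 2 0 * B 0 1) / a, a⁻¹] *
      !![1, B 0 1, B 0 2; 0, a, (B 1 2 - B 1 0 * B 0 2) / a; 0, 0, a⁻¹] := by
  rw [Matrix.det_fin_three, h1] at hdet
  rw [h1] at h2
  ext i j
  fin_cases i <;> fin_cases j <;> simp [Matrix.mul_apply, Fin.sum_univ_three, h1] <;> field_simp
  · linear_combination h2
  · ring
  · ring
  · linear_combination hdet + (B 2 0 * B 0 2 - B 2 2) * h2

/-- A matrix conjugate to `D` by an invertible matrix is conjugate by a unimodular one, `D` diagonal. -/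
theorem conj_diag {x : Matrix.SpecialLinearGroup (Fin 3) F} {v : Fin 3 → F}
    (hx : (x : M3 F) = Matrix.diagonal v) {M : M3 F} (hM : M.det ≠ 0) {Y : Matrix.SpecialLinearGroup (Fin 3) F}
    (h : (Y : M3 F) * M = M * (x : M3 F)) : ∃ u : Matrix.SpecialLinearGroup (Fin 3) F, Y = u * x * u⁻¹ := by
  let E : M3 F := Matrix.diagonal ![M.det⁻¹, 1, 1]
  have hME : (M * E).det = 1 := by simp [E, Matrix.det_mul, Fin.prod_univ_three, hM]
  refine ⟨⟨M * E, hME⟩, eq_mul_inv_of_mul_eq ?_⟩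
  refine Subtype.ext ?_
  show (Y : M3 F) * (M * E) = M * E * (x : M3 F)
  rw [← Matrix.mul_assoc, h, Matrix.mul_assoc, Matrix.mul_assoc]
  congr 1
  rw [hx]
  simp [E, Matrix.diagonal_mul_diagonal, mul_comm]

/-- Every non-scalar element is a product of two conjugates of `diag(1, a, a⁻¹)`. -/
theorem mul_conj_split {a : F} (ha : a ≠ 0) (ha1 : a ≠ 1) (ha2 : a * a ≠ 1)
    {x : Matrix.SpecialLinearGroup (Fin 3) F} (hx : (x : M3 F) = Matrix.diagonal ![1, a, a⁻¹])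
    (g : Matrix.SpecialLinearGroup (Fin 3) F) (hg : ∀ c : F, (g : M3 F) ≠ c • 1) :
    ∃ u v : Matrix.SpecialLinearGroup (Fin 3) F, g = u * x * u⁻¹ * (v * x * v⁻¹) := by
  obtain ⟨P, hP, h1, h2⟩ := exists_minors (A := (g : M3 F)) (by simp) hg 1 (a * a)
  set B := P⁻¹ * (g : M3 F) * P with hB
  have hBf := exists_factor ha (by rw [hB, det_conj_inv hP]; simp) h1 h2
  obtain ⟨R, hR, hRe⟩ := exists_lower ha ha1 ha2 (B 1 0) (B 2 0) ((B 2 1 - B 2 0 * B 0 1) / a)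
  obtain ⟨S, hS, hSe⟩ := exists_upper ha ha1 ha2 (B 0 1) (B 0 2) ((B 1 2 - B 1 0 * B 0 2) / a)
  set L : M3 F := !![1, 0, 0; B 1 0, a, 0; B 2 0, (B 2 1 - B 2 0 * B 0 1) / a, a⁻¹] with hL
  set U : M3 F := !![1, B 0 1, B 0 2; 0, a, (B 1 2 - B 1 0 * B 0 2) / a; 0, 0, a⁻¹] with hU
  have hLd : L.det = 1 := by rw [hL, Matrix.det_fin_three]; simp [ha]
  have hUd : U.det = 1 := by rw [hU, Matrix.det_fin_three]; simp [ha]
  have hconj : ∀ N : M3 F, N.det = 1 → (P * N * P⁻¹).det = 1 := fun N hN => by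
    rw [Matrix.det_conj ((Matrix.isUnit_iff_isUnit_det P).2 (isUnit_det hP)), hN]
  have hPP : P⁻¹ * P = 1 := Matrix.nonsing_inv_mul _ (isUnit_det hP)
  have hPP' : P * P⁻¹ = 1 := Matrix.mul_nonsing_inv _ (isUnit_det hP)
  obtain ⟨u, hu⟩ := conj_diag hx (M := P * R) (by simp [Matrix.det_mul, hP, hR])
    (Y := ⟨P * L * P⁻¹, hconj L hLd⟩) (by
      show P * L * P⁻¹ * (P * R) = P * R * _
      rw [hx, Matrix.mul_assoc (P * L), ← Matrix.mul_assoc P⁻¹, hPP, Matrix.one_mul, Matrix.mul_assoc P, hRe,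
        ← Matrix.mul_assoc])
  obtain ⟨v, hv⟩ := conj_diag hx (M := P * S) (by simp [Matrix.det_mul, hP, hS])
    (Y := ⟨P * U * P⁻¹, hconj U hUd⟩) (by
      show P * U * P⁻¹ * (P * S) = P * S * _
      rw [hx, Matrix.mul_assoc (P * U), ← Matrix.mul_assoc P⁻¹, hPP, Matrix.one_mul, Matrix.mul_assoc P, hSe,
        ← Matrix.mul_assoc])
  refine ⟨u, v, ?_⟩
  rw [← hu, ← hv]
  refine Subtype.ext ?_
  show (g : M3 F) = P * L * P⁻¹ * (P * U * P⁻¹)
  rw [Matrix.mul_assoc (P * L), ← Matrix.mul_assoc P⁻¹, ← Matrix.mul_assoc P⁻¹, hPP, Matrix.one_mul,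
    ← Matrix.mul_assoc, Matrix.mul_assoc P L, ← hBf, hB]
  simp only [← Matrix.mul_assoc, hPP', Matrix.one_mul]
  rw [Matrix.mul_assoc, hPP', Matrix.mul_one]

end CfsgLib.ThompsonThree
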