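import Cfsg.Agent.Classical.ThompsonPSLThreeTable
import Cfsg.Agent.Classical.ThompsonPSLThreeBasic

/-!
Thompson's conjecture for `PSL₃(q)`, `q > 2`, with a semisimple class.
-/

set_option autoImplicit false
set_option linter.style.haveILetI false

namespace CfsgLib.ThompsonThree

open Matrix

variable {F : Type*} [Field F]

/-- Every non-scalar element is a product of two conjugates of `x`. -/
def Covers (x : Matrix.SpecialLinearGroup (Fin 3) F) : Prop :=
  ∀ g : Matrix.SpecialLinearGroup (Fin 3) F, (∀ c : F, (g : M3 F) ≠ c • 1) →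
    ∃ u v : Matrix.SpecialLinearGroup (Fin 3) F, g = u * x * u⁻¹ * (v * x * v⁻¹)

/-- The element of order 13. -/
def sx : Matrix.SpecialLinearGroup (Fin 3) (ZMod 3) := ⟨x13, by rw [det3_eq]; decide +kernel⟩

theorem sx_pow : sx ^ 13 = 1 := Subtype.ext (by
  rw [Matrix.SpecialLinearGroup.coe_pow]
  exact x13_pow)

theorem covers_three : Covers sx := by
  intro g hg
  obtain ⟨P, hP, a, b, c, d, e, f, hB⟩ := exists_start hg
  obtain ⟨P, hP, r, hr, hB⟩ : ∃ P : M3 (ZMod 3), P.det ≠ 0 ∧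
      ∃ r ∈ table, P⁻¹ * (g : M3 (ZMod 3)) * P = dig r.1 := by
    have hdet : (!![0, a, d; 1, b, e; 0, c, f] : M3 (ZMod 3)).det = 1 := by
      rw [← hB, det_conj_inv hP]; simp
    by_cases hc : c = 0
    · subst hc
      obtain ⟨r, hr, e'⟩ := (cover a b d e f).1 (by rwa [← det3_eq])
      exact ⟨P, hP, r, hr, hB.trans e'.symm⟩
    · let Q : M3 (ZMod 3) := !![1, 0, a; 0, 1, b; 0, 0, c]
      have hQ : Q.det ≠ 0 := by simp [Q, Matrix.det_fin_three, hc]
      have hcol : ∀ {i j : Fin 3}, (∀ r, (!![0, a, d; 1, b, e; 0, c, f] * Q) r i = Q r j) →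
          ∀ r, (Q⁻¹ * !![0, a, d; 1, b, e; 0, c, f] * Q) r i = (1 : M3 (ZMod 3)) r j := fun h => conj_col hQ h
      have h0 : ∀ r, (!![0, a, d; 1, b, e; 0, c, f] * Q) r 0 = Q r 1 := fun r => by
        fin_cases r <;> simp [Q, Matrix.mul_apply, Fin.sum_univ_three]
      have h1 : ∀ r, (!![0, a, d; 1, b, e; 0, c, f] * Q) r 1 = Q r 2 := fun r => by
        fin_cases r <;> simp [Q, Matrix.mul_apply, Fin.sum_univ_three]
      set C := Q⁻¹ * !![0, a, d; 1, b, e; 0, c, f] * Q with hC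
      have hC2 : C 0 2 = 1 := by
        have h : C.det = 1 := by rw [hC, det_conj_inv hQ, hdet]
        rw [Matrix.det_fin_three] at h
        simpa [hcol h0, hcol h1] using h
      obtain ⟨r, hr, e'⟩ := (cover (C 1 2) (C 2 2) 0 0 0).2
      refine ⟨P * Q, by simp [Matrix.det_mul, hP, hQ], r, hr, ?_⟩
      rw [conj_trans hB hC.symm, e']
      ext i j
      fin_cases i <;> fin_cases j <;> simp [hcol h0, hcol h1, hC2]
  obtain ⟨hu, hv, hud, hvd, hrel⟩ := table_ok r hr
  -- adjust the determinant of `P`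
  let k : ZMod 3 := P.det
  have hk : k * k = 1 := by
    have : ∀ z : ZMod 3, z ≠ 0 → z * z = 1 := by decide
    exact this _ hP
  have hW : (k • P).det = 1 := by
    rw [Matrix.det_smul, Fintype.card_fin]
    show k ^ 3 * k = 1
    linear_combination (k * k + 1) * hk
  let W : Matrix.SpecialLinearGroup (Fin 3) (ZMod 3) := ⟨k • P, hW⟩
  let u : Matrix.SpecialLinearGroup (Fin 3) (ZMod 3) := ⟨dig r.2.1, (det3_eq _).trans hud⟩
  let v : Matrix.SpecialLinearGroup (Fin 3) (ZMod 3) := ⟨dig r.2.2.2.1, (det3_eq _).trans hvd⟩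
  let rs : Matrix.SpecialLinearGroup (Fin 3) (ZMod 3) := u * sx * u⁻¹ * (v * sx * v⁻¹)
  have hinv : ∀ (w : Matrix.SpecialLinearGroup (Fin 3) (ZMod 3)) (w' : M3 (ZMod 3)),
      (w : M3 (ZMod 3)) * w' = 1 → ((w⁻¹ : Matrix.SpecialLinearGroup (Fin 3) (ZMod 3)) : M3 (ZMod 3)) = w' := by
    intro w w' h
    calc ((w⁻¹ : Matrix.SpecialLinearGroup (Fin 3) (ZMod 3)) : M3 (ZMod 3))
        = ((w⁻¹ : Matrix.SpecialLinearGroup (Fin 3) (ZMod 3)) : M3 (ZMod 3)) * ((w : M3 (ZMod 3)) * w') := by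
          rw [h, Matrix.mul_one]
      _ = w' := by
          rw [← Matrix.mul_assoc, ← Matrix.SpecialLinearGroup.coe_mul, inv_mul_cancel,
            Matrix.SpecialLinearGroup.coe_one, Matrix.one_mul]
  have hrs : (rs : M3 (ZMod 3)) = dig r.1 := by
    rw [hrel]
    simp only [rs, Matrix.SpecialLinearGroup.coe_mul, hinv u _ hu, hinv v _ hv]
    rfl
  have hg' : g * W = W * rs := Subtype.ext (by
    show (g : M3 (ZMod 3)) * (k • P) = k • P * (rs : M3 (ZMod 3))
    rw [hrs, Matrix.mul_smul, Matrix.smul_mul, ← hB, Matrix.mul_assoc P⁻¹, ← Matrix.mul_assoc P,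
      Matrix.mul_nonsing_inv _ (isUnit_det hP), Matrix.one_mul])
  refine ⟨W * u, W * v, ?_⟩
  rw [eq_mul_inv_of_mul_eq hg']
  simp only [rs]
  group

/-- Transport along an isomorphism of fields. -/
theorem covers_map {K : Type*} [Field K] (φ : K ≃+* F) {x : Matrix.SpecialLinearGroup (Fin 3) K}
    (hx : Covers x) : Covers (Matrix.SpecialLinearGroup.map φ.toRingHom x) := by
  intro g hg
  let g₀ := Matrix.SpecialLinearGroup.map φ.symm.toRingHom g
  have hgg : Matrix.SpecialLinearGroup.map φ.toRingHom g₀ = g := by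
    refine Subtype.ext ?_
    ext i j
    exact φ.apply_symm_apply _
  obtain ⟨u, v, h⟩ := hx g₀ (fun c hc => hg (φ c) (by
    rw [← hgg]
    ext i j
    show φ ((g₀ : M3 K) i j) = (φ c • (1 : M3 F)) i j
    rw [hc]
    simp [Matrix.one_apply, apply_ite φ]))
  exact ⟨Matrix.SpecialLinearGroup.map φ.toRingHom u, Matrix.SpecialLinearGroup.map φ.toRingHom v, by
    rw [← hgg, h]; simp only [map_mul, map_inv]⟩

/-- A semisimple element whose class squares onto all non-scalar elements. -/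
theorem exists_covers [Fintype F] (p : ℕ) [Fact p.Prime] [CharP F p] (h3 : 3 ≤ Fintype.card F) :
    ∃ x : Matrix.SpecialLinearGroup (Fin 3) F, (∃ n : ℕ, ¬ p ∣ n ∧ x ^ n = 1) ∧ Covers x := by
  classical
  rcases Nat.lt_or_ge (Fintype.card F) 4 with h4 | h4
  · have hc : Fintype.card F = 3 := by omega
    haveI : Fact (Nat.Prime 3) := ⟨Nat.prime_three⟩
    let φ : ZMod 3 ≃+* F := ZMod.ringEquivOfPrime F Nat.prime_three hc
    refine ⟨Matrix.SpecialLinearGroup.map φ.toRingHom sx, ⟨13, ?_, ?_⟩, covers_map φ covers_three⟩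
    · obtain ⟨n, hp, hn⟩ := FiniteField.card F p
      intro h
      have : p = 13 := (Nat.prime_dvd_prime_iff_eq hp (by norm_num)).1 h
      rw [hc, this] at hn
      have : 13 ≤ 13 ^ (n : ℕ) := Nat.le_self_pow n.pos.ne' 13
      omega
    · rw [← map_pow, sx_pow, map_one]
  · obtain ⟨a, ha⟩ : ∃ a : F, a ∉ ({0, 1, -1} : Finset F) := by
      by_contra! h
      have h1 := Finset.card_le_card (fun a (_ : a ∈ Finset.univ) => h a)
      rw [Finset.card_univ] at h1
      have h2 := Finset.card_le_three (a := (0 : F)) (b := 1) (c := -1)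
      omega
    simp only [Finset.mem_insert, Finset.mem_singleton, not_or] at ha
    obtain ⟨ha0, ha1, ha2⟩ := ha
    have haa : a * a ≠ 1 := fun h => (mul_self_eq_one_iff.1 h).elim ha1 ha2
    let x : Matrix.SpecialLinearGroup (Fin 3) F :=
      ⟨Matrix.diagonal ![1, a, a⁻¹], by simp [Fin.prod_univ_three, ha0]⟩
    refine ⟨x, ⟨Fintype.card F - 1, ?_, ?_⟩, fun g hg => mul_conj_split ha0 ha1 haa rfl g hg⟩
    · obtain ⟨n, hp, hn⟩ := FiniteField.card F p
      intro h
      have h1 : p ∣ Fintype.card F := hn ▸ dvd_pow_self p n.pos.ne'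
      have h2 := Nat.dvd_sub h1 h
      rw [show Fintype.card F - (Fintype.card F - 1) = 1 by omega, Nat.dvd_one] at h2
      exact hp.ne_one h2
    · refine Subtype.ext ?_
      rw [Matrix.SpecialLinearGroup.coe_pow]
      show Matrix.diagonal ![1, a, a⁻¹] ^ _ = (1 : M3 F)
      rw [Matrix.diagonal_pow, ← Matrix.diagonal_one]
      congr 1
      ext i
      fin_cases i <;> simp [FiniteField.pow_card_sub_one_eq_one a ha0, inv_pow]

end CfsgLib.ThompsonThree
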