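import Cfsg.Agent.Classical.ThompsonPSLThreeBasic

/-!
Witnesses: every non-scalar element of `SL₃(3)` is a product of two conjugates of an element of order 13.
The matrices are written in base three, entry `(i, j)` being digit `3 i + j`.
-/

set_option autoImplicit false

namespace CfsgLib.ThompsonThree

open Matrix

/-- The matrix with the given base three digits. -/
def dig (n : ℕ) : M3 (ZMod 3) := fun i j => ((n / 3 ^ (3 * (i : ℕ) + (j : ℕ)) % 3 : ℕ) : ZMod 3)

/-- The element of order 13. -/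
def x13 : M3 (ZMod 3) := !![0, 0, 1; 1, 0, 1; 0, 1, 0]

/-- The determinant, written out. -/
def det3 {R : Type*} [CommRing R] (A : M3 R) : R :=
  A 0 0 * A 1 1 * A 2 2 - A 0 0 * A 1 2 * A 2 1 - A 0 1 * A 1 0 * A 2 2 + A 0 1 * A 1 2 * A 2 0 +
    A 0 2 * A 1 0 * A 2 1 - A 0 2 * A 1 1 * A 2 0

theorem det3_eq {R : Type*} [CommRing R] (A : M3 R) : A.det = det3 A := Matrix.det_fin_three A

/-- Representatives of the similarity classes, with their witnesses. -/
def table : List (ℕ × ℕ × ℕ × ℕ × ℕ) := [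
  (2223, 14670, 830, 882, 1791),
  (8784, 8109, 829, 7389, 1549),
  (15345, 10296, 832, 3303, 1427),
  (2466, 14022, 901, 10818, 2123),
  (9027, 19044, 836, 9819, 1581),
  (15588, 1548, 828, 18828, 1159),
  (2709, 5922, 834, 13977, 2063),
  (9270, 16857, 833, 12249, 1605),
  (15831, 10539, 885, 7875, 1603),
  (13152, 1143, 927, 4518, 1239),
  (13395, 7704, 929, 3060, 1398),
  (13638, 1791, 882, 2790, 994),
  (13161, 16857, 833, 16623, 1608),
  (13404, 14670, 830, 11763, 1552),
  (13647, 8109, 829, 5985, 1875),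
  (13170, 14022, 901, 8622, 1072),
  (13413, 19044, 836, 5391, 2056),
  (13656, 12726, 890, 3573, 958),
  (13233, 3978, 887, 15912, 1020),
  (13476, 10539, 885, 1935, 1935),
  (13719, 6165, 889, 9225, 1753),
  (13242, 17100, 886, 16110, 1842),
  (13485, 10782, 860, 11304, 2012),
  (13728, 19044, 836, 3924, 1112),
  (13251, 2034, 855, 2790, 994),
  (13494, 5922, 834, 1386, 954),
  (13737, 1548, 828, 4986, 1958),
  (13314, 14913, 884, 18828, 1159),
  (13557, 8352, 883, 8622, 1072),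
  (13800, 14265, 928, 1602, 1314),
  (13323, 1791, 882, 4986, 1958),
  (13566, 12726, 890, 18207, 1284),
  (13809, 1548, 828, 2790, 994),
  (13332, 16803, 1083, 16623, 1608),
  (13575, 8109, 829, 16857, 833),
  (13818, 9648, 905, 3960, 1925),
  (6594, 12726, 890, 14724, 1370),
  (6837, 3330, 932, 1935, 1935),
  (7080, 3978, 887, 8226, 2180),
  (6603, 6165, 889, 14193, 1577),
  (6846, 16857, 833, 3960, 1925),
  (7089, 8352, 883, 11763, 1552),
  (6612, 1791, 882, 2340, 1716),
  (6855, 6408, 863, 2178, 1908),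
  (7098, 14670, 830, 19044, 836),
  (6675, 19287, 888, 16182, 1454),
  (6918, 1791, 882, 4518, 1239),
  (7161, 7704, 929, 8622, 1072),
  (6684, 12726, 890, 18189, 1992),
  (6927, 1548, 828, 2340, 1716),
  (7170, 8109, 829, 9576, 1555),
  (6693, 6165, 889, 18999, 2136),
  (6936, 7461, 902, 5985, 1875),
  (7179, 16857, 833, 5409, 1411),
  (6756, 14913, 884, 1602, 1314),
  (6999, 2034, 855, 2340, 1716),
  (7242, 8352, 883, 3060, 1398),
  (6765, 19044, 836, 16317, 1193),
  (7008, 5922, 834, 16893, 2150),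
  (7251, 14670, 830, 8622, 1072),
  (6774, 4221, 859, 10485, 1085),
  (7017, 1548, 828, 4518, 1239),
  (7260, 18396, 907, 17622, 1985)]

theorem table_ok : ∀ r ∈ table, dig r.2.1 * dig r.2.2.1 = 1 ∧ dig r.2.2.2.1 * dig r.2.2.2.2 = 1 ∧
    det3 (dig r.2.1) = 1 ∧ det3 (dig r.2.2.2.1) = 1 ∧
    dig r.1 = dig r.2.1 * x13 * dig r.2.2.1 * (dig r.2.2.2.1 * x13 * dig r.2.2.2.2) := by
  decide +kernel

theorem cover : ∀ a b d e f : ZMod 3,
    (det3 !![0, a, d; 1, b, e; 0, 0, f] = 1 → ∃ r ∈ table, dig r.1 = !![0, a, d; 1, b, e; 0, 0, f]) ∧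
    ∃ r ∈ table, dig r.1 = !![0, 0, 1; 1, 0, a; 0, 1, b] := by
  decide +kernel

theorem x13_pow : x13 ^ 13 = 1 := by decide +kernel

end CfsgLib.ThompsonThree
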