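import Mathlib.LinearAlgebra.BilinearForm.Properties
import Mathlib.LinearAlgebra.FiniteDimensional.Lemmas
import Mathlib.GroupTheory.Index
import Mathlib.Tactic

/-!
Groups of symplectic isometries that are elementary abelian modulo `±1`: a bound on the order.
-/

set_option autoImplicit false
set_option linter.style.haveILetI false

namespace CfsgLib.Symp.TwoRank

variable {F V G : Type*} [Field F] [AddCommGroup V] [Module F V] [FiniteDimensional F V] [Group G]

/-- The action setting. -/
structure Setting (F V G : Type*) [Field F] [AddCommGroup V] [Module F V] [Group G] where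
  /-- the representation -/
  ρ : G →* (V ≃ₗ[F] V)
  inj : Function.Injective ρ
  /-- the form -/
  B : LinearMap.BilinForm F V
  alt : ∀ x, B x x = 0
  nondeg : ∀ x, (∀ y, B x y = 0) → x = 0
  pres : ∀ g x y, B (ρ g x) (ρ g y) = B x y
  /-- the element acting as `-1` -/
  z : G
  hz : ∀ x, ρ z x = -x
  sq : ∀ g, g * g = 1 ∨ g * g = z
  comm : ∀ g h, g * h = h * g ∨ g * h = z * (h * g)
  two_ne : (2 : F) ≠ 0

namespace Setting

variable (S : Setting F V G)

/-- Non-degeneracy on a subspace. -/
def Ndg (W : Submodule F V) : Prop := ∀ x ∈ W, (∀ y ∈ W, S.B x y = 0) → x = 0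

/-- Elements of `A` fixing a subspace pointwise. -/
def fixA (A : Subgroup G) (W : Submodule F V) : Subgroup A where
  carrier := {a | ∀ x ∈ W, S.ρ a.1 x = x}
  mul_mem' := by
    intro a b ha hb x hx
    rw [Subgroup.coe_mul, map_mul, LinearEquiv.mul_apply, hb x hx, ha x hx]
  one_mem' := fun x _ => by simp
  inv_mem' := by
    intro a ha x hx
    have h : S.ρ (a.1⁻¹ * a.1) x = x := by rw [inv_mul_cancel, map_one]; rfl
    rw [map_mul, LinearEquiv.mul_apply, ha x hx] at h
    rw [Subgroup.coe_inv]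
    exact h

/-- The `ε`-eigenspace in `W`. -/
def eig (g : G) (ε : F) (W : Submodule F V) : Submodule F V :=
  W ⊓ LinearMap.ker ((S.ρ g).toLinearMap - ε • LinearMap.id)

theorem mem_eig {g : G} {ε : F} {W : Submodule F V} {x : V} :
    x ∈ S.eig g ε W ↔ x ∈ W ∧ S.ρ g x = ε • x := by
  simp [eig, sub_eq_zero]

/-- Elementary abelian subgroups. -/
def Elem (A : Subgroup G) : Prop := (∀ a ∈ A, a * a = 1) ∧ ∀ a ∈ A, ∀ b ∈ A, a * b = b * a

theorem two_le_finrank {W : Submodule F V} (hW : S.Ndg W) (h : W ≠ ⊥) :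
    2 ≤ Module.finrank F W := by
  obtain ⟨x, hx, hx0⟩ := Submodule.exists_mem_ne_zero_of_ne_bot h
  by_contra hlt
  refine hx0 (hW x hx fun y hy => ?_)
  have hle : F ∙ x ≤ W := (Submodule.span_singleton_le_iff_mem x W).mpr hx
  have heq : F ∙ x = W := by
    refine Submodule.eq_of_le_of_finrank_le hle ?_
    rw [finrank_span_singleton hx0]
    omega
  rw [← heq] at hy
  obtain ⟨t, rfl⟩ := Submodule.mem_span_singleton.mp hy
  rw [map_smul, S.alt, smul_zero]

section decomp

variable {a : G} (ha : a * a = 1) {W : Submodule F V} (hWa : ∀ x ∈ W, S.ρ a x ∈ W)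

include ha

theorem ρ_ρ (x : V) : S.ρ a (S.ρ a x) = x := by
  rw [← LinearEquiv.mul_apply, ← map_mul, ha, map_one]; rfl

include hWa

theorem eig_sup : S.eig a 1 W ⊔ S.eig a (-1) W = W := by
  refine le_antisymm (sup_le inf_le_left inf_le_left) fun x hx => ?_
  have h2 := S.two_ne
  refine Submodule.mem_sup.mpr ⟨(2 : F)⁻¹ • (x + S.ρ a x), ?_, (2 : F)⁻¹ • (x - S.ρ a x), ?_, ?_⟩
  · refine S.mem_eig.mpr ⟨W.smul_mem _ (W.add_mem hx (hWa x hx)), ?_⟩
    rw [map_smul, map_add, S.ρ_ρ ha, one_smul, add_comm]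
  · refine S.mem_eig.mpr ⟨W.smul_mem _ (W.sub_mem hx (hWa x hx)), ?_⟩
    rw [map_smul, map_sub, S.ρ_ρ ha]; module
  · rw [← smul_add, add_add_sub_cancel, ← two_smul F x, smul_smul, inv_mul_cancel₀ h2, one_smul]

omit hWa in
theorem eig_orth {x y : V} (hx : x ∈ S.eig a 1 W) (hy : y ∈ S.eig a (-1) W) :
    S.B x y = 0 ∧ S.B y x = 0 := by
  have h1 := (S.mem_eig.mp hx).2
  have h3 := (S.mem_eig.mp hy).2
  have e1 := S.pres a x y
  have e2 := S.pres a y x
  rw [h1, h3, one_smul, map_smul, smul_eq_mul] at e1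
  rw [h1, h3, one_smul, map_smul, LinearMap.smul_apply, smul_eq_mul] at e2
  exact ⟨(mul_eq_zero.mp (by linear_combination -e1 : (2 : F) * _ = 0)).resolve_left S.two_ne,
    (mul_eq_zero.mp (by linear_combination -e2 : (2 : F) * _ = 0)).resolve_left S.two_ne⟩

theorem eig_ndg (hW : S.Ndg W) : S.Ndg (S.eig a 1 W) ∧ S.Ndg (S.eig a (-1) W) := by
  constructor
  all_goals
    intro x hx h
    refine hW x hx.1 fun y hy => ?_
    rw [← S.eig_sup ha hWa] at hy
    obtain ⟨u, hu, v, hv, rfl⟩ := Submodule.mem_sup.mp hy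
    rw [map_add]
  · rw [h u hu, (S.eig_orth ha hx hv).1, add_zero]
  · rw [(S.eig_orth ha hu hx).2, h v hv, zero_add]

theorem eig_finrank :
    Module.finrank F (S.eig a 1 W) + Module.finrank F (S.eig a (-1) W) = Module.finrank F W := by
  have h := Submodule.finrank_sup_add_finrank_inf_eq (S.eig a 1 W) (S.eig a (-1) W)
  have hbot : S.eig a 1 W ⊓ S.eig a (-1) W = ⊥ := by
    refine eq_bot_iff.mpr fun x ⟨h1, h3⟩ => ?_
    have e1 := (S.mem_eig.mp h1).2
    have e3 := (S.mem_eig.mp h3).2
    rw [e1] at e3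
    have : (2 : F) • x = 0 := by
      rw [two_smul]
      rw [one_smul, neg_one_smul] at e3
      nth_rewrite 1 [e3]; exact neg_add_cancel x
    exact (smul_eq_zero.mp this).resolve_left S.two_ne
  rw [S.eig_sup ha hWa, hbot, finrank_bot, add_zero] at h
  exact h.symm

end decomp

theorem index_fixA_le [Finite G] {A : Subgroup G} (hA : Elem A) :
    ∀ (d : ℕ) (W : Submodule F V), Module.finrank F W = d → S.Ndg W →
      (∀ a ∈ A, ∀ x ∈ W, S.ρ a x ∈ W) → (S.fixA A W).index ≤ 2 ^ (d / 2) := by
  intro d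
  induction d using Nat.strong_induction_on with
  | _ d ih =>
  intro W hd hW hinv
  by_cases hbot : W = ⊥
  · subst hbot
    have htop : S.fixA A ⊥ = ⊤ := eq_top_iff.mpr fun a _ x hx => by
      rw [(Submodule.mem_bot F).mp hx, map_zero]
    rw [htop, Subgroup.index_top]
    exact Nat.one_le_two_pow
  have hd2 : 2 ≤ d := hd ▸ S.two_le_finrank hW hbot
  by_cases hsplit : ∃ a ∈ A, S.eig a 1 W ≠ ⊥ ∧ S.eig a (-1) W ≠ ⊥
  · obtain ⟨a, haA, h1, h3⟩ := hsplit
    have ha := hA.1 a haA
    obtain ⟨n1, n3⟩ := S.eig_ndg ha (hinv a haA) hW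
    have hsum := S.eig_finrank ha (hinv a haA)
    have k1 := S.two_le_finrank n1 h1
    have k3 := S.two_le_finrank n3 h3
    have hinv' : ∀ ε : F, ∀ b ∈ A, ∀ x ∈ S.eig a ε W, S.ρ b x ∈ S.eig a ε W := by
      intro ε b hb x hx
      refine S.mem_eig.mpr ⟨hinv b hb x hx.1, ?_⟩
      rw [← LinearEquiv.mul_apply, ← map_mul, hA.2 a haA b hb, map_mul, LinearEquiv.mul_apply,
        (S.mem_eig.mp hx).2, map_smul]
    have b1 := ih _ (by omega) _ rfl n1 (hinv' 1)
    have b3 := ih _ (by omega) _ rfl n3 (hinv' (-1))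
    have hle : S.fixA A (S.eig a 1 W) ⊓ S.fixA A (S.eig a (-1) W) ≤ S.fixA A W := by
      rintro b ⟨hb1, hb3⟩ x hx
      rw [← S.eig_sup ha (hinv a haA)] at hx
      obtain ⟨u, hu, v, hv, rfl⟩ := Submodule.mem_sup.mp hx
      rw [map_add, hb1 u hu, hb3 v hv]
    refine (Subgroup.index_antitone hle).trans ?_
    refine Subgroup.index_inf_le.trans ((Nat.mul_le_mul b1 b3).trans ?_)
    rw [← pow_add]
    exact Nat.pow_le_pow_right (by norm_num) (by omega)
  · push Not at hsplit
    have hpm : ∀ a ∈ A, (∀ x ∈ W, S.ρ a x = x) ∨ ∀ x ∈ W, S.ρ a x = -x := by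
      intro a haA
      have hsup := S.eig_sup (hA.1 a haA) (hinv a haA)
      by_cases h1 : S.eig a 1 W = ⊥
      · right
        rw [h1, bot_sup_eq] at hsup
        intro x hx
        rw [← hsup] at hx
        rw [(S.mem_eig.mp hx).2, neg_one_smul]
      · left
        rw [hsplit a haA h1, sup_bot_eq] at hsup
        intro x hx
        rw [← hsup] at hx
        rw [(S.mem_eig.mp hx).2, one_smul]
    have h2 : (S.fixA A W).index ≤ 2 := by
      by_cases hall : ∀ a : A, a ∈ S.fixA A W
      · rw [(Subgroup.index_eq_one).mpr (eq_top_iff.mpr fun a _ => hall a)]; omega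
      push Not at hall
      obtain ⟨b, hb⟩ := hall
      refine le_of_eq (Subgroup.index_eq_two_iff.mpr ⟨b, fun c => ?_⟩)
      have hbneg := (hpm b.1 b.2).resolve_left hb
      rcases hpm c.1 c.2 with hc | hc
      · refine Or.inr ⟨hc, fun h => hb fun x hx => ?_⟩
        have := h x hx
        rw [Subgroup.coe_mul, map_mul, LinearEquiv.mul_apply, hbneg x hx, map_neg, hc x hx] at this
        rw [hbneg x hx, this]
      · refine Or.inl ⟨fun x hx => ?_, fun h => ?_⟩
        · rw [Subgroup.coe_mul, map_mul, LinearEquiv.mul_apply, hbneg x hx, map_neg, hc x hx, neg_neg]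
        · refine hb fun x hx => ?_
          have := h x hx
          rw [hc x hx] at this
          rw [hbneg x hx, this]
    refine h2.trans ?_
    calc 2 = 2 ^ 1 := rfl
      _ ≤ 2 ^ (d / 2) := Nat.pow_le_pow_right (by norm_num) (by omega)

variable [Finite G]

theorem z_sq : S.z * S.z = 1 := S.inj (LinearEquiv.ext fun x => by
  rw [map_mul, LinearEquiv.mul_apply, S.hz, S.hz, neg_neg, map_one]; rfl)

theorem z_comm (g : G) : g * S.z = S.z * g := S.inj (LinearEquiv.ext fun x => by
  rw [map_mul, map_mul, LinearEquiv.mul_apply, LinearEquiv.mul_apply, S.hz, S.hz, map_neg])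

omit [Finite G] [FiniteDimensional F V] in
theorem z_ne_one (h : ∃ x : V, x ≠ 0) : S.z ≠ 1 := by
  obtain ⟨x, hx⟩ := h
  intro e
  have h1 := S.hz x
  rw [e, map_one] at h1
  have : (2 : F) • x = 0 := by
    rw [two_smul]
    nth_rewrite 1 [show x = -x from h1]
    exact neg_add_cancel x
  exact hx ((smul_eq_zero.mp this).resolve_left S.two_ne)

include S

/-- The centraliser index chain. -/
theorem index_centralizer_le {A B : Subgroup G} {k : ℕ} (hA : Elem A) (hBA : B ≤ A)
    (hB : (Subgroup.centralizer (B : Set G)).index * k ≤ Nat.card B) :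
    (Subgroup.centralizer (A : Set G)).index * k ≤ Nat.card A := by
  induction hn : Nat.card A - Nat.card B using Nat.strong_induction_on generalizing B with
  | _ n ih =>
  by_cases hAB : A ≤ B
  · rwa [le_antisymm hBA hAB] at hB
  obtain ⟨b, hbA, hbB⟩ := SetLike.not_le_iff_exists.mp hAB
  set B' := B ⊔ Subgroup.zpowers b
  have hB'A : B' ≤ A := sup_le hBA (Subgroup.zpowers_le.mpr hbA)
  have hbmem : b ∈ B' := Subgroup.mem_sup_right (Subgroup.mem_zpowers b)
  have hcard : 2 * Nat.card B ≤ Nat.card B' := by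
    let f : B × Fin 2 → B' := fun p => ⟨p.1.1 * b ^ (p.2 : ℕ),
      mul_mem (Subgroup.mem_sup_left p.1.2) (pow_mem hbmem _)⟩
    have hf : Function.Injective f := by
      rintro ⟨⟨x, hx⟩, i⟩ ⟨⟨y, hy⟩, j⟩ e
      have e' : x * b ^ (i : ℕ) = y * b ^ (j : ℕ) := congrArg Subtype.val e
      fin_cases i <;> fin_cases j <;> simp at e'
      · simp [e']
      · exact absurd (by rw [show b = y⁻¹ * x by rw [e']; group]; exact mul_mem (inv_mem hy) hx) hbB
      · exact absurd (by rw [show b = x⁻¹ * y by rw [← e']; group]; exact mul_mem (inv_mem hx) hy) hbB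
      · simp [e']
    calc 2 * Nat.card B = Nat.card (B × Fin 2) := by simp [mul_comm]
      _ ≤ Nat.card B' := Nat.card_le_card_of_injective f hf
  have hidx : (Subgroup.centralizer (B' : Set G)).index ≤
      (Subgroup.centralizer (B : Set G)).index * 2 := by
    have h2 : (Subgroup.centralizer ({b} : Set G)).index ≤ 2 := by
      by_cases hall : ∀ g : G, g * b = b * g
      · rw [(Subgroup.index_eq_one).mpr (eq_top_iff.mpr fun g _ =>
          Subgroup.mem_centralizer_singleton_iff.mpr (hall g))]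
        omega
      push Not at hall
      obtain ⟨g, hg⟩ := hall
      have hgz := (S.comm g b).resolve_left hg
      refine le_of_eq (Subgroup.index_eq_two_iff.mpr ⟨g, fun h => ?_⟩)
      rw [Subgroup.mem_centralizer_singleton_iff, Subgroup.mem_centralizer_singleton_iff]
      rcases S.comm h b with hh | hh
      · refine Or.inr ⟨hh, fun e => hg ?_⟩
        refine mul_left_cancel (a := h) ?_
        rw [← mul_assoc, ← mul_assoc, e, hh, mul_assoc]
      · refine Or.inl ⟨?_, fun e => hg ?_⟩
        · calc h * g * b = h * (g * b) := mul_assoc _ _ _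
            _ = h * (S.z * (b * g)) := by rw [hgz]
            _ = S.z * (h * b) * g := by
              rw [← mul_assoc h S.z, S.z_comm h]; group
            _ = S.z * (S.z * (b * h)) * g := by rw [hh]
            _ = b * (h * g) := by rw [← mul_assoc S.z S.z, S.z_sq, one_mul, mul_assoc]
        · rw [e] at hh
          have hz1 : S.z = 1 := by
            have := hh.symm
            rwa [mul_eq_right] at this
          rw [hgz, hz1, one_mul]
    refine le_trans ?_ (Nat.mul_le_mul_left _ h2)
    refine le_trans (Subgroup.index_antitone ?_) Subgroup.index_inf_le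
    rintro g ⟨h1, h3⟩ x hx
    have key : B' ≤ Subgroup.centralizer ({g} : Set G) := sup_le
      (fun y hy => Subgroup.mem_centralizer_singleton_iff.mpr (h1 y hy))
      (Subgroup.zpowers_le.mpr (Subgroup.mem_centralizer_singleton_iff.mpr
        (Subgroup.mem_centralizer_singleton_iff.mp h3).symm))
    exact Subgroup.mem_centralizer_singleton_iff.mp (key hx)
  have hpos : 0 < Nat.card B := Nat.card_pos
  refine ih _ ?_ hB'A (le_trans (Nat.mul_le_mul_right k hidx) ?_) rfl
  · have := Nat.le_of_dvd Nat.card_pos (Subgroup.card_dvd_of_le hB'A)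
    omega
  · calc (Subgroup.centralizer (B : Set G)).index * 2 * k
        = 2 * ((Subgroup.centralizer (B : Set G)).index * k) := by ring
      _ ≤ 2 * Nat.card B := Nat.mul_le_mul_left 2 hB
      _ ≤ Nat.card B' := hcard

/-- The main bound. -/
theorem card_le {m : ℕ} (hV : Module.finrank F V = 2 * m) (hm : 3 ≤ m) :
    Nat.card G ≤ 2 ^ (2 * m) := by
  classical
  by_contra hbig
  push Not at hbig
  haveI : Nontrivial V := Module.nontrivial_of_finrank_pos (R := F) (by omega)
  have hz1 : S.z ≠ 1 := S.z_ne_one (exists_ne 0)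
  obtain ⟨A, hA, hmax⟩ : ∃ A : Subgroup G, Elem A ∧
      ∀ B : Subgroup G, Elem B → A ≤ B → B ≤ A := by
    obtain ⟨A, hA, hmax⟩ := Set.Finite.exists_maximal (Set.toFinite {A : Subgroup G | Elem A})
      ⟨⊥, fun a ha => by rw [Subgroup.mem_bot.mp ha, mul_one],
        fun a ha b hb => by rw [Subgroup.mem_bot.mp ha, Subgroup.mem_bot.mp hb]⟩
    exact ⟨A, hA, fun B hB h => hmax hB h⟩
  -- enlarge `A` by a commuting involution
  have hext : ∀ h : G, h * h = 1 → (∀ a ∈ A, a * h = h * a) → h ∈ A := by
    intro h hh hc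
    have hE : Elem (A ⊔ Subgroup.zpowers h) := by
      let K : Subgroup G := Subgroup.closure ((A : Set G) ∪ {h})
      have hK : A ⊔ Subgroup.zpowers h = K := by
        change _ = Subgroup.closure ((A : Set G) ∪ {h})
        rw [Subgroup.closure_union, Subgroup.closure_eq, Subgroup.zpowers_eq_closure]
      have hcomm : ∀ x ∈ (A : Set G) ∪ {h}, ∀ y ∈ (A : Set G) ∪ {h}, x * y = y * x := by
        rintro x (hx | rfl) y (hy | rfl)
        · exact hA.2 x hx y hy
        · exact hc x hx
        · exact (hc y hy).symm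
        · rfl
      haveI hcg : IsMulCommutative K := Subgroup.isMulCommutative_closure hcomm
      rw [hK]
      have hc2 : ∀ a ∈ K, ∀ b ∈ K, a * b = b * a := fun a ha b hb =>
        congrArg Subtype.val (hcg.is_comm.comm ⟨a, ha⟩ ⟨b, hb⟩)
      refine ⟨fun a ha => ?_, hc2⟩
      induction ha using Subgroup.closure_induction with
      | mem x hx =>
        rcases hx with hx | rfl
        · exact hA.1 x hx
        · exact hh
      | one => rw [mul_one]
      | mul x y hx hy ihx ihy =>
        calc x * y * (x * y) = x * (y * x) * y := by group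
          _ = x * (x * y) * y := by rw [hc2 y hy x hx]
          _ = (x * x) * (y * y) := by group
          _ = 1 := by rw [ihx, ihy, mul_one]
      | inv x _ ihx => rw [← mul_inv_rev, ihx, inv_one]
    exact hmax _ hE le_sup_left (Subgroup.mem_sup_right (Subgroup.mem_zpowers h))
  have hzA : S.z ∈ A := hext _ S.z_sq fun a _ => S.z_comm a
  have hAcard : Nat.card A ≤ 2 ^ m := by
    have h := S.index_fixA_le hA (2 * m) ⊤ (by rw [finrank_top, hV])
      (fun x _ h => S.nondeg x fun y => h y trivial) (fun _ _ _ _ => trivial)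
    have hbot : S.fixA A ⊤ = ⊥ := by
      refine (Subgroup.eq_bot_iff_forall _).mpr fun a ha => Subtype.ext (S.inj (LinearEquiv.ext fun x => ?_))
      rw [Subgroup.coe_one, map_one]; exact ha x trivial
    rwa [hbot, Subgroup.index_bot, Nat.mul_div_cancel_left m (by norm_num)] at h
  set C := Subgroup.centralizer (A : Set G)
  have hC4 : Nat.card C ≤ 4 * Nat.card A := by
    have hout : ∀ h ∈ C, h ∉ A → h * h = S.z := by
      intro h hh hnA
      exact (S.sq h).resolve_left fun e => hnA (hext h e fun a ha => hh a ha)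
    have hanti : ∀ h ∈ C, ∀ k ∈ C, h ∉ A → k ∉ A → (∀ a ∈ A, k ≠ h * a) →
        h * k = S.z * (k * h) := by
      intro h hh k hk hnh hnk hne
      refine (S.comm h k).resolve_left fun e => ?_
      have hhk : h * k * (h * k) = 1 := by
        calc h * k * (h * k) = h * (k * h) * k := by group
          _ = (h * h) * (k * k) := by rw [← e]; group
          _ = 1 := by rw [hout h hh hnh, hout k hk hnk, S.z_sq]
      have hmem : h * k ∈ A := hext _ hhk fun a ha => by
        rw [← mul_assoc, hh a ha, mul_assoc, hk a ha, mul_assoc]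
      refine hne (S.z * (h * k)) (mul_mem hzA hmem) ?_
      rw [← mul_assoc, S.z_comm h, mul_assoc S.z h, ← mul_assoc h h, hout h hh hnh, ← mul_assoc,
        S.z_sq, one_mul]
    by_cases hCA : C ≤ A
    · have := Nat.le_of_dvd Nat.card_pos (Subgroup.card_dvd_of_le hCA); omega
    obtain ⟨h, hh, hnh⟩ := SetLike.not_le_iff_exists.mp hCA
    by_cases hk' : ∀ k ∈ C, k ∈ A ∨ ∃ a ∈ A, k = h * a
    · let f : A × Fin 2 → G := fun p => h ^ (p.2 : ℕ) * p.1.1
      calc Nat.card C ≤ Nat.card (A × Fin 2) := Nat.card_le_card_of_surjective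
            (fun p : A × Fin 2 => (⟨f p, mul_mem (pow_mem hh _) (fun a ha => hA.2 a ha _ p.1.2)⟩ : C))
            (fun k => by
              rcases hk' k.1 k.2 with hkA | ⟨a, ha, he⟩
              · exact ⟨(⟨k.1, hkA⟩, 0), Subtype.ext (by simp [f])⟩
              · exact ⟨(⟨a, ha⟩, 1), Subtype.ext (by simp [f, he])⟩)
        _ ≤ 4 * Nat.card A := by simp; omega
    push Not at hk'
    obtain ⟨k, hk, hnk, hkne⟩ := hk'
    have hhk := hanti h hh k hk hnh hnk hkne
    have hcover : ∀ l ∈ C, l ∈ A ∨ (∃ a ∈ A, l = h * a) ∨ (∃ a ∈ A, l = k * a) ∨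
        ∃ a ∈ A, l = h * k * a := by
      intro l hl
      by_contra hc
      push Not at hc
      obtain ⟨hlA, hlh, hlk, hlhk⟩ := hc
      have h1 := hanti h hh l hl hnh hlA hlh
      have hkl : k * l ∈ C := mul_mem hk hl
      have hklA : k * l ∉ A := fun e => by
        refine hlk (S.z * (k * l)) (mul_mem hzA e) ?_
        rw [← mul_assoc, S.z_comm k, mul_assoc S.z k, ← mul_assoc k k, hout k hk hnk, ← mul_assoc,
          S.z_sq, one_mul]
      have h3 := hanti h hh (k * l) hkl hnh hklA fun a ha e => by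
        -- `k * l = h * a` forces `l ∈ h k A`
        refine hlhk a ha ?_
        have : l = S.z * (k * h) * a := by
          calc l = S.z * ((k * k) * l) := by rw [hout k hk hnk, ← mul_assoc, S.z_sq, one_mul]
            _ = S.z * (k * (h * a)) := by rw [← e]; group
            _ = S.z * (k * h) * a := by group
        rw [this, ← hhk]
      -- but `h` commutes with `k * l`
      have h4 : h * (k * l) = k * l * h := by
        calc h * (k * l) = (h * k) * l := by group
          _ = S.z * k * (h * l) := by rw [hhk]; group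
          _ = S.z * (k * S.z) * (l * h) := by rw [h1]; group
          _ = (S.z * S.z) * k * (l * h) := by rw [S.z_comm k]; group
          _ = k * l * h := by rw [S.z_sq]; group
      rw [h4] at h3
      exact hz1 (right_eq_mul.mp h3).symm.symm
    let f : A × Fin 4 → G := fun p => ![1, h, k, h * k] p.2 * p.1.1
    have hfC : ∀ p, f p ∈ C := fun p => by
      refine mul_mem ?_ (fun a ha => hA.2 a ha _ p.1.2)
      rcases p with ⟨a, i⟩
      fin_cases i
      · exact one_mem C
      · exact hh
      · exact hk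
      · exact mul_mem hh hk
    calc Nat.card C ≤ Nat.card (A × Fin 4) := Nat.card_le_card_of_surjective
          (fun p : A × Fin 4 => (⟨f p, hfC p⟩ : C))
          (fun l => by
            rcases hcover l.1 l.2 with hlA | ⟨a, ha, he⟩ | ⟨a, ha, he⟩ | ⟨a, ha, he⟩
            · exact ⟨(⟨l.1, hlA⟩, 0), Subtype.ext (by simp [f])⟩
            · exact ⟨(⟨a, ha⟩, 1), Subtype.ext (by simp [f, he])⟩
            · exact ⟨(⟨a, ha⟩, 2), Subtype.ext (by simp [f, he])⟩
            · exact ⟨(⟨a, ha⟩, 3), Subtype.ext (by simp [f, he])⟩)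
      _ = 4 * Nat.card A := by simp [mul_comm]
  have hGC : Nat.card G = C.index * Nat.card C := (Subgroup.index_mul_card C).symm
  -- the centraliser index times `2` is at most `|A|`
  have hk2 : C.index * 2 ≤ Nat.card A := by
    refine S.index_centralizer_le hA (B := Subgroup.zpowers S.z) (Subgroup.zpowers_le.mpr hzA) ?_
    have htop : Subgroup.centralizer (Subgroup.zpowers S.z : Set G) = ⊤ := by
      refine eq_top_iff.mpr fun g _ x hx => ?_
      obtain ⟨i, rfl⟩ := Subgroup.mem_zpowers_iff.mp hx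
      exact ((Commute.symm (S.z_comm g : Commute g S.z)).zpow_left i).eq
    rw [htop, Subgroup.index_top, one_mul, Nat.card_zpowers,
      orderOf_eq_prime (p := 2) (by rw [pow_two, S.z_sq]) hz1]
  have hAm : Nat.card A = 2 ^ m := by
    refine le_antisymm hAcard ?_
    by_contra hlt
    push Not at hlt
    have h1 : Nat.card G * 2 ≤ 4 * (Nat.card A * Nat.card A) := by
      calc Nat.card G * 2 = C.index * 2 * Nat.card C := by rw [hGC]; ring
        _ ≤ Nat.card A * (4 * Nat.card A) := Nat.mul_le_mul hk2 hC4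
        _ = _ := by ring
    obtain ⟨j, hj⟩ : ∃ j, Nat.card A = 2 ^ j := by
      have hp : IsPGroup 2 A := fun a => ⟨1, by
        rw [pow_one, pow_two]; exact Subtype.ext (hA.1 a.1 a.2)⟩
      haveI : Fact (Nat.Prime 2) := ⟨Nat.prime_two⟩
      exact IsPGroup.iff_card.mp hp
    rw [hj] at h1 hlt
    have hjm : j + 1 ≤ m := (Nat.pow_lt_pow_iff_right (by norm_num)).mp hlt
    have h3 : 2 ^ j * 2 ^ j * 4 ≤ 2 ^ (2 * m) := by
      rw [← pow_add, show (4 : ℕ) = 2 ^ 2 by norm_num, ← pow_add]
      exact Nat.pow_le_pow_right (by norm_num) (by omega)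
    omega
  -- every element of `A` other than `1, z` is conjugate to its product with `z`
  have hmove : ∀ a ∈ A, a ≠ 1 → a ≠ S.z → ∃ g, g * a = S.z * (a * g) := by
    intro a ha ha1 haz
    by_contra hc
    push Not at hc
    have hcen : ∀ g, g * a = a * g := fun g => (S.comm g a).resolve_right (hc g)
    have hk4 : C.index * 4 ≤ Nat.card A := by
      refine S.index_centralizer_le hA (B := Subgroup.zpowers S.z ⊔ Subgroup.zpowers a)
        (sup_le (Subgroup.zpowers_le.mpr hzA) (Subgroup.zpowers_le.mpr ha)) ?_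
      rw [(Subgroup.index_eq_one).mpr (eq_top_iff.mpr fun g _ => ?_), one_mul]
      · let f : Fin 4 → ↥(Subgroup.zpowers S.z ⊔ Subgroup.zpowers a) :=
          ![1, ⟨S.z, Subgroup.mem_sup_left (Subgroup.mem_zpowers _)⟩,
            ⟨a, Subgroup.mem_sup_right (Subgroup.mem_zpowers _)⟩,
            ⟨S.z * a, mul_mem (Subgroup.mem_sup_left (Subgroup.mem_zpowers _))
              (Subgroup.mem_sup_right (Subgroup.mem_zpowers _))⟩]
        have hza : S.z * a ≠ 1 := fun e => haz (by
          rw [← one_mul a, ← S.z_sq, mul_assoc, e, mul_one])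
        have hf : Function.Injective f := by
          intro i j e
          have e' := congrArg Subtype.val e
          fin_cases i <;> fin_cases j <;> simp [f] at e' <;> first
            | rfl
            | exact absurd e' hz1
            | exact absurd e'.symm hz1
            | exact absurd e' ha1
            | exact absurd e'.symm ha1
            | exact absurd e' haz
            | exact absurd e'.symm haz
            | exact absurd e' hza
            | exact absurd e'.symm hza
        simpa using Nat.card_le_card_of_injective f hf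
      · intro x hx
        have key : Subgroup.zpowers S.z ⊔ Subgroup.zpowers a ≤ Subgroup.centralizer ({g} : Set G) :=
          sup_le (Subgroup.zpowers_le.mpr (Subgroup.mem_centralizer_singleton_iff.mpr
            (S.z_comm g).symm))
            (Subgroup.zpowers_le.mpr (Subgroup.mem_centralizer_singleton_iff.mpr (hcen g).symm))
        exact Subgroup.mem_centralizer_singleton_iff.mp (key hx)
    have h1 : Nat.card G * 4 ≤ 4 * (Nat.card A * Nat.card A) := by
      calc Nat.card G * 4 = C.index * 4 * Nat.card C := by rw [hGC]; ring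
        _ ≤ Nat.card A * (4 * Nat.card A) := Nat.mul_le_mul hk4 hC4
        _ = _ := by ring
    rw [hAm, ← pow_add, ← two_mul] at h1
    omega
  have hbal : ∀ a ∈ A, a ≠ 1 → a ≠ S.z → Module.finrank F (S.eig a (-1) ⊤) = m := by
    intro a ha ha1 haz
    obtain ⟨g, hg⟩ := hmove a ha ha1 haz
    have hsum := S.eig_finrank (hA.1 a ha) (W := ⊤) (fun _ _ => trivial)
    rw [finrank_top, hV] at hsum
    have hanti : ∀ x, S.ρ a (S.ρ g x) = -S.ρ g (S.ρ a x) := fun x => by
      have := congrArg (fun t => S.ρ t x) hg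
      simp only [map_mul, LinearEquiv.mul_apply, S.hz] at this
      rw [this, neg_neg]
    have hle : ∀ ε : F, Module.finrank F (S.eig a ε ⊤) ≤ Module.finrank F (S.eig a (-ε) ⊤) := by
      intro ε
      rw [← LinearEquiv.finrank_map_eq (S.ρ g) (S.eig a ε ⊤)]
      refine Submodule.finrank_mono ?_
      rintro _ ⟨x, hx, rfl⟩
      refine S.mem_eig.mpr ⟨trivial, ?_⟩
      change S.ρ a (S.ρ g x) = _
      rw [hanti, (S.mem_eig.mp hx).2, map_smul, neg_smul]
      rfl
    have l1 := hle 1
    have l3 := hle (-1)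
    rw [neg_neg] at l3
    omega
  obtain ⟨a, ha, ha1, haz⟩ : ∃ a ∈ A, a ≠ 1 ∧ a ≠ S.z := by
    by_contra hc
    push Not at hc
    have : Nat.card A ≤ 2 := by
      calc Nat.card A ≤ Nat.card (Fin 2) := Nat.card_le_card_of_injective
            (fun x : A => if x.1 = 1 then (0 : Fin 2) else 1) (fun x y e => by
              by_cases hx : x.1 = 1 <;> by_cases hy : y.1 = 1 <;> simp [hx, hy] at e
              all_goals first
                | exact Subtype.ext (hx.trans hy.symm)
                | exact Subtype.ext ((hc x.1 x.2 hx).trans (hc y.1 y.2 hy).symm))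
        _ = 2 := by simp
    have h8 : 2 ^ 3 ≤ 2 ^ m := Nat.pow_le_pow_right (by norm_num) hm
    omega
  set Wm := S.eig a (-1) ⊤ with hWm
  have hn := S.eig_ndg (hA.1 a ha) (W := ⊤) (fun _ _ => trivial) (fun x _ h => S.nondeg x fun y => h y trivial)
  have hK := S.index_fixA_le hA m Wm (hbal a ha ha1 haz) hn.2 (fun b hb x hx => by
    refine S.mem_eig.mpr ⟨trivial, ?_⟩
    rw [← LinearEquiv.mul_apply, ← map_mul, hA.2 a ha b hb, map_mul, LinearEquiv.mul_apply,
      (S.mem_eig.mp hx).2, map_smul])
  have hprod : (S.fixA A Wm).index * Nat.card (S.fixA A Wm) = 2 ^ m :=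
    (Subgroup.index_mul_card _).trans hAm
  have hK4 : 3 ≤ Nat.card (S.fixA A Wm) := by
    by_contra hlt
    push Not at hlt
    have h1 : 2 ^ m ≤ 2 ^ (m / 2) * 2 := by rw [← hprod]; exact Nat.mul_le_mul hK (by omega)
    have h3 : 2 ^ (m / 2) * 2 < 2 ^ m := by
      rw [← pow_succ]; exact Nat.pow_lt_pow_right (by norm_num) (by omega)
    omega
  obtain ⟨x, hx, hx1, hxa⟩ : ∃ x : A, x ∈ S.fixA A Wm ∧ x.1 ≠ 1 ∧ x.1 ≠ S.z * a := by
    by_contra hc
    push Not at hc
    have : Nat.card (S.fixA A Wm) ≤ 2 := by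
      calc Nat.card (S.fixA A Wm) ≤ Nat.card (Fin 2) := Nat.card_le_card_of_injective
            (fun x : S.fixA A Wm => if x.1.1 = 1 then (0 : Fin 2) else 1) (fun x y e => by
              by_cases hx : x.1.1 = 1 <;> by_cases hy : y.1.1 = 1 <;> simp [hx, hy] at e
              all_goals first
                | exact Subtype.ext (Subtype.ext (hx.trans hy.symm))
                | exact Subtype.ext (Subtype.ext ((hc x.1 x.2 hx).trans (hc y.1 y.2 hy).symm)))
        _ = 2 := by simp
    omega
  have hxz : x.1 ≠ S.z := by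
    intro e
    obtain ⟨v, hv, hv0⟩ := Submodule.exists_mem_ne_zero_of_ne_bot (p := Wm) (by
      intro e'
      have := hbal a ha ha1 haz
      rw [← hWm, e', finrank_bot] at this
      omega)
    have h1 := hx v hv
    rw [e, S.hz] at h1
    have h3 : (2 : F) • v = 0 := by
      rw [two_smul]; nth_rewrite 1 [← h1]; exact neg_add_cancel v
    exact hv0 ((smul_eq_zero.mp h3).resolve_left S.two_ne)
  have hxW : S.eig x.1 (-1) ⊤ ≤ S.eig a 1 ⊤ := by
    intro v hv
    have hvx := (S.mem_eig.mp hv).2
    have hmem : v ∈ S.eig a 1 ⊤ ⊔ Wm :=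
      (S.eig_sup (hA.1 a ha) (W := ⊤) (fun _ _ => trivial)).symm ▸ Submodule.mem_top
    obtain ⟨p, hp, r, hr, rfl⟩ := Submodule.mem_sup.mp hmem
    rw [map_add, hx r hr] at hvx
    have hpp : S.ρ x.1 p ∈ S.eig a 1 ⊤ := S.mem_eig.mpr ⟨trivial, by
      rw [← LinearEquiv.mul_apply, ← map_mul, hA.2 a ha x.1 x.2, map_mul, LinearEquiv.mul_apply,
        (S.mem_eig.mp hp).2, map_smul]⟩
    have h2r : (2 : F) • r ∈ S.eig a 1 ⊤ := by
      have : (2 : F) • r = -(S.ρ x.1 p) - p := by
        rw [neg_one_smul, neg_add] at hvx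
        rw [two_smul, eq_sub_iff_add_eq, eq_neg_iff_add_eq_zero]
        calc r + r + p + S.ρ x.1 p = (S.ρ x.1 p + r) + (p + r) := by abel
          _ = 0 := by rw [hvx]; abel
      rw [this]; exact Submodule.sub_mem _ (Submodule.neg_mem _ hpp) hp
    have hr' : r ∈ S.eig a 1 ⊤ := by
      have := Submodule.smul_mem _ (2 : F)⁻¹ h2r
      rwa [smul_smul, inv_mul_cancel₀ S.two_ne, one_smul] at this
    exact Submodule.add_mem _ hp hr'
  have hsum := S.eig_finrank (hA.1 a ha) (W := ⊤) (fun _ _ => trivial)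
  rw [finrank_top, hV, hbal a ha ha1 haz] at hsum
  have heq : S.eig x.1 (-1) ⊤ = S.eig a 1 ⊤ :=
    Submodule.eq_of_le_of_finrank_le hxW (by rw [hbal x.1 x.2 hx1 hxz]; omega)
  refine hxa (S.inj (LinearEquiv.ext fun v => ?_))
  have hmem : v ∈ S.eig a 1 ⊤ ⊔ Wm :=
    (S.eig_sup (hA.1 a ha) (W := ⊤) (fun _ _ => trivial)).symm ▸ Submodule.mem_top
  obtain ⟨p, hp, r, hr, rfl⟩ := Submodule.mem_sup.mp hmem
  have hxp : S.ρ x.1 p = (-1 : F) • p := (S.mem_eig.mp (heq.symm ▸ hp)).2
  rw [map_mul, LinearEquiv.mul_apply, map_add, map_add, hxp, hx r hr, (S.mem_eig.mp hp).2,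
    (S.mem_eig.mp hr).2, map_add, S.hz, S.hz]
  module

end Setting

end CfsgLib.Symp.TwoRank
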