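import Cfsg.Agent.Classical.TwoRank
import Cfsg.Agent.Classical.SymplecticBasic
import Cfsg.Prelude.Def_Classical

/-!
Elementary abelian subgroups of `PSp` in odd characteristic.
-/

set_option autoImplicit false
set_option linter.style.haveILetI false

namespace CfsgLib.Symp.TwoRank

open Matrix CfsgLib.Symp

variable {F : Type*} [Field F] [Finite F] {m : ℕ}

/-- The linear action of a subgroup of the symplectic group. -/
noncomputable def linRep (G : Subgroup (Matrix.symplecticGroup (Fin m) F)) :
    G →* ((Fin m ⊕ Fin m → F) ≃ₗ[F] (Fin m ⊕ Fin m → F)) :=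
  (LinearMap.GeneralLinearGroup.generalLinearEquiv F _).toMonoidHom.comp
    (MonoidHom.toHomUnits
      ((Matrix.toLinAlgEquiv' (R := F) (n := Fin m ⊕ Fin m)).toRingEquiv.toMonoidHom.comp
        ((Matrix.symplecticGroup (Fin m) F).subtype.comp G.subtype)))

theorem linRep_apply (G : Subgroup (Matrix.symplecticGroup (Fin m) F)) (g : G)
    (x : Fin m ⊕ Fin m → F) :
    linRep G g x = (g.1 : Matrix (Fin m ⊕ Fin m) (Fin m ⊕ Fin m) F) *ᵥ x := rfl

theorem card_elementary_le (h2 : (2 : F) ≠ 0) (hm : 3 ≤ m) (E : Subgroup (Cfsg.PSp m F))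
    (hE2 : ∀ x ∈ E, x * x = 1) (hEc : ∀ x ∈ E, ∀ y ∈ E, x * y = y * x) :
    Nat.card E < 2 ^ (2 * m) := by
  haveI : Nonempty (Fin m) := ⟨⟨0, by omega⟩⟩
  set Z := Subgroup.center (Matrix.symplecticGroup (Fin m) F) with hZdef
  set G := E.comap (QuotientGroup.mk' Z) with hG
  have hnegmem : (-1 : Matrix (Fin m ⊕ Fin m) (Fin m ⊕ Fin m) F) ∈ Matrix.symplecticGroup (Fin m) F := by
    rw [CfsgLib.Symp.mem_iff_form]; intro u v
    simp only [Matrix.neg_mulVec, Matrix.one_mulVec, ← neg_one_smul F u, ← neg_one_smul F v,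
      form_smul_left, form_smul_right]
    ring
  have hzG : (⟨-1, hnegmem⟩ : Matrix.symplecticGroup (Fin m) F) ∈ G := by
    rw [hG, Subgroup.mem_comap, QuotientGroup.mk'_apply,
      (QuotientGroup.eq_one_iff _).mpr (mem_center_iff.mpr (Or.inr rfl))]
    exact one_mem _
  have hZ : ∀ g h : G, QuotientGroup.mk' Z g.1 = QuotientGroup.mk' Z h.1 →
      g = h ∨ g = ⟨⟨-1, hnegmem⟩, hzG⟩ * h := by
    intro g h e
    have h1 : g.1 * h.1⁻¹ ∈ Z := by
      rw [← QuotientGroup.eq_one_iff]
      change QuotientGroup.mk' Z (g.1 * h.1⁻¹) = 1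
      rw [map_mul, map_inv, e, mul_inv_cancel]
    rcases mem_center_iff.mp h1 with e1 | e1
    · refine Or.inl (Subtype.ext ?_)
      have : g.1 * h.1⁻¹ = 1 := Subtype.ext e1
      exact mul_inv_eq_one.mp this
    · refine Or.inr (Subtype.ext ?_)
      have : g.1 * h.1⁻¹ = ⟨-1, hnegmem⟩ := Subtype.ext e1
      rw [Subgroup.coe_mul]
      exact (mul_inv_eq_iff_eq_mul.mp this)
  let S : Setting F (Fin m ⊕ Fin m → F) G :=
    { ρ := linRep G
      inj := fun g h e => Subtype.ext (symp_ext fun x => by
        have := LinearEquiv.congr_fun e x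
        rwa [linRep_apply, linRep_apply] at this)
      B := LinearMap.mk₂ F form form_add_left (fun c u v => form_smul_left c u v) form_add_right
        (fun c u v => form_smul_right c u v)
      alt := form_self
      nondeg := fun x hx => eq_zero_of_form_eq_zero fun u => by
        rw [form_swap]; exact neg_eq_zero.mpr (hx u)
      pres := fun g x y => by
        change form (linRep G g x) (linRep G g y) = form x y
        rw [linRep_apply, linRep_apply]; exact mem_iff_form.mp g.1.2 x y
      z := ⟨⟨-1, hnegmem⟩, hzG⟩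
      hz := fun x => by rw [linRep_apply, Matrix.neg_mulVec, Matrix.one_mulVec]
      sq := fun g => by
        rcases hZ (g * g) 1 (by
          rw [Subgroup.coe_mul, map_mul, Subgroup.coe_one, map_one]
          exact hE2 _ g.2) with e | e
        · exact Or.inl e
        · exact Or.inr (by rw [e, mul_one])
      comm := fun g h => hZ (g * h) (h * g) (by
        rw [Subgroup.coe_mul, Subgroup.coe_mul, map_mul, map_mul]
        exact hEc _ g.2 _ h.2)
      two_ne := h2 }
  have hcard := S.card_le (m := m) (by simp; omega) hm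
  haveI := Fintype.ofFinite F
  have hodd : Nat.card F % 2 = 1 := by
    rw [Nat.card_eq_fintype_card]
    refine FiniteField.odd_card_of_char_ne_two fun h => h2 ?_
    have := ringChar.Nat.cast_ringChar (R := F)
    rw [h] at this
    exact_mod_cast this
  have hZ2 : Nat.card Z = 2 := by
    rw [hZdef, card_center]
    have h1 : 1 < Nat.card F := Finite.one_lt_card
    obtain ⟨k, hk⟩ : 2 ∣ Nat.card F - 1 := Nat.dvd_of_mod_eq_zero (by omega)
    rw [hk]; exact Nat.gcd_eq_left ⟨k, rfl⟩
  have hle : Z ≤ G := fun x hx => by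
    rw [hG, Subgroup.mem_comap, QuotientGroup.mk'_apply, (QuotientGroup.eq_one_iff _).mpr hx]
    exact one_mem _
  have hmap : Nat.card G = 2 * Nat.card E := by
    let f : G →* E := ((QuotientGroup.mk' Z).comp G.subtype).codRestrict E fun g => g.2
    have hsurj : Function.Surjective f := by
      rintro ⟨x, hx⟩
      obtain ⟨g, rfl⟩ := QuotientGroup.mk'_surjective Z x
      exact ⟨⟨g, hx⟩, rfl⟩
    have hker : f.ker = Z.subgroupOf G := by
      ext g
      rw [MonoidHom.mem_ker, Subgroup.mem_subgroupOf, ← QuotientGroup.eq_one_iff]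
      exact Subtype.ext_iff
    rw [Subgroup.card_eq_card_quotient_mul_card_subgroup f.ker,
      Nat.card_congr (QuotientGroup.quotientKerEquivOfSurjective f hsurj).toEquiv, hker,
      Nat.card_congr (Subgroup.subgroupOfEquivOfLe hle).toEquiv, hZ2, mul_comm]
  have h0 : 0 < Nat.card E := Nat.card_pos
  omega

end CfsgLib.Symp.TwoRank
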